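import Cfsg.Agent.Lib.LocalEven.BlockNormal.Inside

/-!
# No exceptional block over a plain subnormal one

If `O_p(E) = [V, E]`, no exceptional block `F` with `O_p(F) ≤ O_p(G)` has `[V, F] ≤ [V, E]`: some element of
`B(T)` would act quadratically on `O_p(F) / Z(F)`.
-/

set_option autoImplicit false

open scoped commutatorElement

namespace Cfsg.Agent.LocalEven.BlockNormal

open Cfsg Cfsg.Agent.Fusion Cfsg.Agent.LocalEven.Block Cfsg.Agent.LocalEven.SubnBlock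

variable {G : Type*} [Group G] [Finite G] {p : ℕ} [hp : Fact p.Prime] {E F : Subgroup G} {T : Sylow p G}

theorem mem_normalizer_Q {g : G} (hg : g ∈ Subgroup.normalizer (F : Set G)) :
    g ∈ Subgroup.normalizer (pCoreOf p F : Set G) := by
  refine Fusion.mem_normalizer_iff_cj.2 ?_
  show (pCoreOf p F).map (MulAut.conj g).toMonoidHom = _
  rw [pCoreOf_map, show F.map (MulAut.conj g).toMonoidHom = F from Fusion.cj_eq_self hg]

/-- Some element of `E` inverts `[V, E]` for `p = 3`. -/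
theorem exists_neg (hT : IsBaumannBlock p (T : Subgroup G) E) (hS : Shape p E) (hp3 : p = 3) :
    ∃ e₀ ∈ E, ∀ m ∈ mov p E, e₀ * m * e₀⁻¹ = m⁻¹ := by
  rcases kinds hT hS with hk | ⟨K, _, _, ⟨C⟩⟩ | ⟨n, ⟨C⟩⟩
  · obtain ⟨z, hz, h1, -⟩ := exists_inverting hS hk hp3
    exact ⟨z, hz, h1⟩
  swap
  · exact absurd C.two (by omega)
  obtain ⟨e₀, he₀⟩ := C.surj ⟨!![-1, 0; 0, -1], by simp [Matrix.det_fin_two]⟩
  have hcomm : ∀ e : ↥E, ((⁅e₀, e⁆ : ↥E) : G) ∈ pCoreOf p E := fun e => by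
    refine (C.ker _).1 ?_
    rw [map_commutatorElement, commutatorElement_eq_one_iff_mul_comm, he₀]
    apply Subtype.ext
    show !![-1, 0; 0, -1] * (C.ρ e : Matrix (Fin 2) (Fin 2) K) =
      (C.ρ e : Matrix (Fin 2) (Fin 2) K) * !![-1, 0; 0, -1]
    ext i j
    fin_cases i <;> fin_cases j <;> simp [Matrix.mul_apply, Fin.sum_univ_two]
  have hneg : ∀ x ∈ mov p E, x * ((e₀ : G) * x * (e₀ : G)⁻¹) ∈ Subgroup.centralizer (E : Set G) := fun x hx => by
    have h1 := mov_conj (p := p) (Subgroup.le_normalizer e₀.2) hx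
    refine (C.c_zero _ (mul_mem hx h1)).1 ?_
    rw [C.c_mul _ hx _ h1, C.c_conj e₀ x hx, he₀]
    funext i
    fin_cases i <;> simp [Matrix.mulVec, dotProduct, Fin.sum_univ_two]
  let K₀ : Subgroup G :=
    { carrier := {x | x ∈ mov p E ∧ (e₀ : G) * x * (e₀ : G)⁻¹ = x⁻¹}
      one_mem' := ⟨one_mem _, by simp⟩
      mul_mem' := by
        rintro a b ⟨ha, ha'⟩ ⟨hb, hb'⟩
        refine ⟨mul_mem ha hb, ?_⟩
        rw [show (e₀ : G) * (a * b) * (e₀ : G)⁻¹ = ((e₀ : G) * a * (e₀ : G)⁻¹) * ((e₀ : G) * b * (e₀ : G)⁻¹) by group,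
          ha', hb', mul_inv_rev, mov_comm (inv_mem ha) (inv_mem hb)]
      inv_mem' := by
        rintro a ⟨ha, ha'⟩
        refine ⟨inv_mem ha, ?_⟩
        rw [show (e₀ : G) * a⁻¹ * (e₀ : G)⁻¹ = ((e₀ : G) * a * (e₀ : G)⁻¹)⁻¹ by group, ha'] }
  have hle : mov p E ≤ K₀ := by
    conv_lhs => rw [← hS.movE]
    refine Subgroup.commutator_le.2 fun x hx e he => ⟨?_, ?_⟩
    · exact hS.movE.le (Subgroup.commutator_mem_commutator hx he)
    have hxe : e * x⁻¹ * e⁻¹ ∈ mov p E := mov_conj (Subgroup.le_normalizer he) (inv_mem hx)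
    set z := x * ((e₀ : G) * x * (e₀ : G)⁻¹) with hz
    have hzE : e * z * e⁻¹ = z := by
      rw [Subgroup.mem_centralizer_iff.1 (hneg x hx) e he, mul_inv_cancel_right]
    have hq := hcomm ⟨e, he⟩
    rw [show ((⁅e₀, (⟨e, he⟩ : ↥E)⁆ : ↥E) : G) = ⁅(e₀ : G), e⁆ from rfl] at hq
    have h0m : (e₀ : G) * x⁻¹ * (e₀ : G)⁻¹ ∈ mov p E := mov_conj (Subgroup.le_normalizer e₀.2) (inv_mem hx)
    have hswap : (e₀ : G) * (e * x⁻¹ * e⁻¹) * (e₀ : G)⁻¹ = e * ((e₀ : G) * x⁻¹ * (e₀ : G)⁻¹) * e⁻¹ := by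
      have h1 : e * ((e₀ : G) * x⁻¹ * (e₀ : G)⁻¹) * e⁻¹ ∈ mov p E := mov_conj (Subgroup.le_normalizer he) h0m
      calc (e₀ : G) * (e * x⁻¹ * e⁻¹) * (e₀ : G)⁻¹
          = ⁅(e₀ : G), e⁆ * (e * ((e₀ : G) * x⁻¹ * (e₀ : G)⁻¹) * e⁻¹) * ⁅(e₀ : G), e⁆⁻¹ := by
            simp only [commutatorElement_def]; group
        _ = _ := by rw [(Subgroup.mem_centralizer_iff.1 (Q_le_C0 hS hq).2 _ h1).symm, mul_inv_cancel_right]
    have hc : ((e₀ : G) * x * (e₀ : G)⁻¹) = x⁻¹ * z := by rw [hz]; group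
    have hzm : z ∈ mov p E := mul_mem hx (mov_conj (Subgroup.le_normalizer e₀.2) hx)
    calc (e₀ : G) * ⁅x, e⁆ * (e₀ : G)⁻¹
        = ((e₀ : G) * x * (e₀ : G)⁻¹) * ((e₀ : G) * (e * x⁻¹ * e⁻¹) * (e₀ : G)⁻¹) := by
          simp only [commutatorElement_def]; group
      _ = (x⁻¹ * z) * (e * (z⁻¹ * x) * e⁻¹) := by
          rw [hswap, hc, show (e₀ : G) * x⁻¹ * (e₀ : G)⁻¹ = ((e₀ : G) * x * (e₀ : G)⁻¹)⁻¹ by group, hc]
          group
      _ = x⁻¹ * (z * (e * z * e⁻¹)⁻¹) * (e * x * e⁻¹) := by group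
      _ = x⁻¹ * (e * x * e⁻¹) := by rw [hzE, mul_inv_cancel, mul_one]
      _ = _ := by
          rw [mov_comm (inv_mem hx) (mov_conj (Subgroup.le_normalizer he) hx)]
          simp only [commutatorElement_def]; group
  exact ⟨e₀, e₀.2, fun m hm => (hle hm).2⟩

/-- `B(T)` is quadratic on `[V, E]`. -/
theorem baumann_quadratic (hG : Subgroup.centralizer (pCore p G : Set G) ≤ pCore p G) (hE : IsSB p E)
    (hT : IsBaumannBlock p (T : Subgroup G) E) (hp3 : p = 3) {b : G}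
    (hb : b ∈ baumannSubgroupOf p (T : Subgroup G)) :
    ∀ y ∈ mov p E, ∀ i j : ℕ, ⁅⁅y, b ^ i⁆, b ^ j⁆ ∈ Subgroup.centralizer (E : Set G) := by
  have hS := hE.shape hG
  obtain ⟨x, hx, hxne, -, hxb⟩ := exists_baumann_fixed hG T hE
  have hbn := baumann_normalizes hG T hE hb
  have hbU := normalizer_mov (p := p) le_rfl hbn
  obtain ⟨k, hk'⟩ := T.isPGroup' ⟨b, baumann_le _ hb⟩
  have hord : b ^ p ^ k = 1 := congrArg Subtype.val hk'
  rcases kinds hT hS with hk | ⟨K, _, _, ⟨C⟩⟩ | ⟨n, ⟨C⟩⟩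
  · obtain ⟨S⟩ := small_coord hk
    have hbot : b ∈ Subgroup.normalizer ((⊥ : Subgroup G) : Set G) :=
      Subgroup.mem_normalizer_iff.2 fun y => by simp
    have hne : S.c x ≠ 0 := fun h => hxne (by
      rw [Subgroup.mem_bot.1 ((S.c_zero x hx).1 h)]; exact one_mem _)
    obtain ⟨t, ht⟩ := S.exists_shear (n := 1) (by rw [ZMod.card, pow_one]) hbU
      (S.semi_prime (ZMod.card p) hbU hbot) hx hne (by rw [hxb b hb]) hord
    intro y hy i j
    rw [Subgroup.mem_bot.1 (S.shear_quadratic hbU ht y hy i j)]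
    exact one_mem _
  · obtain ⟨n, hn⟩ := C.card
    obtain ⟨e, he, c, hc, rfl⟩ := exists_of_mem_inn (C.baumann_le_inn hG hE
      (le_iSup (fun S : Sylow p G => baumannSubgroupOf p (S : Subgroup G)) T hb))
    have hlin : C.toSec.IsSemi (e * c) id :=
      C.toSec.semi_mul (normalizer_mov (p := p) le_rfl hc.1) (C.toSec.semi_of_mem he)
        (C.toSec.semi_of_scalar (s := 1) fun y hy => by
          rw [one_smul, ← Subgroup.mem_centralizer_iff.1 hc.2 y hy, mul_inv_cancel_right])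
    have hne : C.toSec.c x ≠ 0 := fun h => hxne ((C.c_zero x hx).1 h)
    obtain ⟨t, ht⟩ := C.toSec.exists_shear hn hbU hlin hx hne (by rw [hxb _ hb]) hord
    exact C.toSec.shear_quadratic hbU ht
  · exact absurd C.two (by omega)

omit [Finite G] hp in
theorem comm_decomp {m a g : G} (h : g * m⁻¹ * g⁻¹ * ⁅a, g⁆ = ⁅a, g⁆ * (g * m⁻¹ * g⁻¹)) :
    ⁅m * a, g⁆ = ⁅m, g⁆ * ⁅a, g⁆ := by
  calc ⁅m * a, g⁆ = m * (⁅a, g⁆ * (g * m⁻¹ * g⁻¹)) := by simp only [commutatorElement_def]; group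
    _ = m * (g * m⁻¹ * g⁻¹ * ⁅a, g⁆) := by rw [h]
    _ = _ := by simp only [commutatorElement_def]; group

section main

variable {K : Type} [Field K] [Fintype K]

/-- A quadratic element of `B(T)` is linear on `Q / W` of an exceptional block. -/
theorem linear_of_quadratic (hFP : Pre p (T : Subgroup G) F) (D : ExcD p (T : Subgroup G) F K) {b : G}
    (hb : b ∈ baumannSubgroupOf p (T : Subgroup G)) (hbF : b ∈ Subgroup.normalizer (F : Set G))
    (hquad : ∀ y ∈ mov p F, ∀ i j : ℕ, ⁅⁅y, b ^ i⁆, b ^ j⁆ = 1) : D.S2.IsSemi b id := by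
  obtain ⟨n, hn⟩ := D.card
  have hbQ := mem_normalizer_Q (p := p) hbF
  have hbW : b ∈ Subgroup.normalizer (omegaOneCenter p (pCoreOf p F) : Set G) :=
    normalizer_omega (p := p) (H := Subgroup.normalizer (F : Set G)) (fun g hg => mem_normalizer_Q hg) hbF
  by_cases h4 : 4 ≤ Fintype.card K
  swap
  · refine D.S2.semi_prime (p := p) ?_ hbQ hbW
    have := D.three_le
    have := D.three
    omega
  have hbM := normalizer_mov (p := p) le_rfl hbF
  have hbC := cent_norm hbF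
  obtain ⟨σ, hσ⟩ := D.S1.exists_semi D.three_le hbF hbM hbC
  obtain ⟨k, hk'⟩ := T.isPGroup' ⟨b, baumann_le _ hb⟩
  have hord : b ^ p ^ k = 1 := congrArg Subtype.val hk'
  have hMp : IsPGroup p ↥(mov p F) := (isPGroup_omegaOneCenter _).to_le hFP.movW
  have hlt : mov p F ⊓ Subgroup.centralizer (F : Set G) < mov p F :=
    lt_of_le_of_ne inf_le_left fun h => hFP.ne (h.ge.trans inf_le_right)
  have hzp : IsPGroup p ↥(Subgroup.zpowers b) :=
    (T.isPGroup'.to_le (baumann_le _)).to_le (Subgroup.zpowers_le.2 hb)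
  obtain ⟨x, hx, hxZ, hxfix⟩ := fixed_mod hzp hMp hlt (Subgroup.zpowers_le.2 hbM)
  have hne : D.S1.c x ≠ 0 := fun h => hxZ (Subgroup.mem_inf.2 ⟨hx, (D.S1.c_zero x hx).1 h⟩)
  have hfix : D.S1.c (b * x * b⁻¹) = D.S1.c x := by
    have h1 := (hxfix b (Subgroup.mem_zpowers b)).2
    rw [commutatorElement_def] at h1
    have h2 := (D.S1.c_zero _ (mul_mem (D.S1.conj_mem hbM hx) (inv_mem hx))).2 h1
    rw [D.S1.c_mul _ (D.S1.conj_mem hbM hx) _ (inv_mem hx), D.S1.c_inv hx, ← sub_eq_add_neg, sub_eq_zero] at h2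
    exact h2
  -- the field automorphism is trivial
  have hd : ∀ l, σ (σ l - l) = σ l - l := fun l => by
    obtain ⟨y, hy, hyc⟩ := D.S1.c_surj (l • D.S1.c x)
    have hby := D.S1.conj_mem hbM hy
    have hq := hquad y hy 1 1
    rw [pow_one, commutatorElement_eq_one_iff_mul_comm] at hq
    have hcy : D.S1.c ⁅y, b⁆ = (l - σ l) • D.S1.c x := by
      rw [show ⁅y, b⁆ = y * (b * y * b⁻¹)⁻¹ by rw [commutatorElement_def]; group,
        D.S1.c_mul _ hy _ (inv_mem hby), D.S1.c_inv hby, hσ x hx y hy l hyc, hfix, hyc]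
      module
    have hm : ⁅y, b⁆ ∈ mov p F := (comm_mem hy hbM).1
    have h3 := hσ x hx _ hm _ hcy
    rw [← hq, mul_inv_cancel_right, hcy, hfix] at h3
    have h4 := smul_left_injective K hne h3
    rw [map_sub] at h4 ⊢
    linear_combination h4
  haveI := NatSL2.charP_of_card hn
  have h2 : (2 : K) ≠ 0 := fun h => by
    have h5 : ((2 : ℕ) : K) = 0 := by exact_mod_cast h
    rw [CharP.cast_eq_zero_iff K p, D.three] at h5
    omega
  have hσ1 : ∀ l, σ l = l := fun l => by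
    have h5 := hd (l * l)
    have h6 := hd l
    rw [map_sub] at h6
    rw [map_mul, map_sub, map_mul, map_mul] at h5
    have h7 : 2 * ((σ l - l) * (σ l - l)) = 0 := by linear_combination h5 - (σ (σ l) + 2 * σ l - l) * h6
    exact sub_eq_zero.1 (mul_self_eq_zero.1 ((mul_eq_zero.1 h7).resolve_left h2))
  have hlin : D.S1.IsSemi b id := fun u hu y hy l e => by rw [hσ u hu y hy l e, hσ1, id_eq]
  obtain ⟨t, ht⟩ := D.S1.exists_shear hn hbM hlin hx hne hfix hord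
  obtain ⟨u, hu⟩ : shearM (D.S1.c x) t ∈ D.S1.ρ.range := by
    rw [D.S1.range, (sl2_quasisimple h4).1]; exact Subgroup.mem_top _
  set b' := (u : G)⁻¹ * b with hb'
  have hb'F : b' ∈ Subgroup.normalizer (F : Set G) := mul_mem (inv_mem (Subgroup.le_normalizer u.2)) hbF
  have hb'M := normalizer_mov (p := p) le_rfl hb'F
  have hb'1 : ∀ y ∈ mov p F, D.S1.c (b' * y * b'⁻¹) = D.S1.c y := fun y hy => by
    rw [show b' * y * b'⁻¹ = ((u⁻¹ : ↥F) : G) * (b * y * b⁻¹) * ((u⁻¹ : ↥F) : G)⁻¹ by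
      rw [hb']; push_cast; group, D.S1.c_conj u⁻¹ _ (D.S1.conj_mem hbM hy), ht y hy, map_inv, hu,
      ← shearM_act]
    exact act_inv_vec _ _
  have hcom : ∀ e : ↥F, ⁅b', (e : G)⁆ ∈ pCoreOf p F := fun e => by
    have he : b' * (e : G) * b'⁻¹ ∈ F := (Subgroup.mem_normalizer_iff.1 hb'F _).1 e.2
    have hρ : D.S1.ρ ⟨_, he⟩ = D.S1.ρ e := by
      refine inv_mul_eq_one.1 (sl_ext fun v => ?_)
      obtain ⟨y, hy, rfl⟩ := D.S1.c_surj v
      have hz := D.S1.conj_mem (inv_mem hb'M) hy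
      have h5 : D.S1.c (b'⁻¹ * y * b'⁻¹⁻¹) = D.S1.c y := by
        rw [← hb'1 _ hz]
        congr 1
        group
      have h6 := hb'1 _ (D.S1.conj_mem (D.S1.norm e.2) hz)
      rw [D.S1.c_conj e _ hz, h5,
        show b' * ((e : G) * (b'⁻¹ * y * b'⁻¹⁻¹) * (e : G)⁻¹) * b'⁻¹ =
          (b' * (e : G) * b'⁻¹) * y * (b' * (e : G) * b'⁻¹)⁻¹ by group,
        D.S1.c_conj ⟨_, he⟩ y hy] at h6
      rw [act_mul_vec, ← h6]
      exact act_inv_vec _ _
    have h5 := (D.ker1 (⟨_, he⟩ * e⁻¹)).1 (by rw [map_mul, map_inv, hρ, mul_inv_cancel])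
    rwa [commutatorElement_def]
  have hb'Q := mem_normalizer_Q (p := p) hb'F
  have hb'W : b' ∈ Subgroup.normalizer (omegaOneCenter p (pCoreOf p F) : Set G) :=
    normalizer_omega (p := p) (H := Subgroup.normalizer (F : Set G)) (fun g hg => mem_normalizer_Q hg) hb'F
  obtain ⟨s, hs⟩ := D.S2.semi_of_comm D.three_le hb'Q hb'W fun e y hy => by
    have hq := hcom e
    have h1 := D.S2.conj_mem hb'Q hy
    have h2 := D.S2.conj_mem (D.S2.norm e.2) h1
    rw [← D.S2.c_conj e _ h1, show b' * ((e : G) * y * (e : G)⁻¹) * b'⁻¹ =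
      ⁅b', (e : G)⁆ * ((e : G) * (b' * y * b'⁻¹) * (e : G)⁻¹) * ⁅b', (e : G)⁆⁻¹ by
        simp only [commutatorElement_def]; group]
    refine ((D.S2.eq_iff h2 (mul_mem (mul_mem hq h2) (inv_mem hq))).2 ?_).symm
    set z := (e : G) * (b' * y * b'⁻¹) * (e : G)⁻¹
    rw [show z⁻¹ * (⁅b', (e : G)⁆ * z * ⁅b', (e : G)⁆⁻¹) = ⁅z⁻¹, ⁅b', (e : G)⁆⁆ by
      rw [commutatorElement_def (g₁ := z⁻¹)]; group]
    exact (D.zeq.le (Subgroup.commutator_mem_commutator (inv_mem h2) hq)).1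
  rw [show b = (u : G) * b' by rw [hb']; group]
  exact D.S2.semi_mul hb'Q (D.S2.semi_of_mem u.2) (D.S2.semi_of_scalar hs)

/-- No exceptional block lies over a plain subnormal block. -/
theorem no_exc_over_plain (hG : Subgroup.centralizer (pCore p G : Set G) ≤ pCore p G) (hE : IsSB p E)
    (hT : IsBaumannBlock p (T : Subgroup G) E) (hF : IsBaumannBlock p (T : Subgroup G) F)
    (hFP : Pre p (T : Subgroup G) F) (D : ExcD p (T : Subgroup G) F K) (hq : pCoreOf p E = mov p E)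
    (hmov : mov p F ≤ mov p E) (hQR : pCoreOf p F ≤ pCore p G)
    (hP : pCoreOf p E ⊓ pCoreOf p F ≤ omegaOneCenter p (pCoreOf p F)) : False := by
  have hS := hE.shape hG
  obtain ⟨e₀, he₀, hinv⟩ := exists_neg hT hS D.three
  set M := mov p E with hM
  have hcube : ∀ x ∈ M, x * x * x = 1 := fun x hx => by
    have h := (omegaOneCenter_props (mov_le E hx)).2.2
    rwa [D.three, pow_succ, pow_two] at h
  have hMC : ∀ z ∈ M, e₀ * z = z * e₀ → z = 1 := fun z hz h => by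
    have h1 := hinv z hz
    rw [h, mul_inv_cancel_right] at h1
    have h2 := hcube z hz
    rwa [show z * z = 1 by nth_rewrite 1 [h1]; exact inv_mul_cancel z, one_mul] at h2
  set R₀ := pCore p G ⊓ Subgroup.centralizer {e₀} with hR₀
  have hR₀M : ∀ z, z ∈ M → z ∈ R₀ → z = 1 := fun z hz hz' =>
    hMC z hz (Subgroup.mem_centralizer_singleton_iff.1 (Subgroup.mem_inf.1 hz').2).symm
  have hMR : ∀ z ∈ M, ∀ r ∈ pCore p G, r * z = z * r := fun z hz r hr => vSub_fixed hr (mov_le E hz)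
  have hdec : ∀ a ∈ pCore p G, ∃ m ∈ M, ∃ a' ∈ R₀, a = m * a' := fun a ha => by
    set d := ⁅e₀, a⁆ with hd
    have hdM : d ∈ M := hq ▸ hS.comm_mem_Q he₀ ha
    refine ⟨(d * d)⁻¹, inv_mem (mul_mem hdM hdM), d * d * a, Subgroup.mem_inf.2 ⟨?_, ?_⟩, by group⟩
    · exact mul_mem (omegaOneCenter_props (mov_le E (mul_mem hdM hdM))).1 ha
    refine Subgroup.mem_centralizer_singleton_iff.2 (conj_fix_iff.1 ?_).symm
    calc e₀ * (d * d * a) * e₀⁻¹ = (e₀ * d * e₀⁻¹) * (e₀ * d * e₀⁻¹) * (e₀ * a * e₀⁻¹) := by group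
      _ = d⁻¹ * d⁻¹ * (d * a) := by rw [hinv d hdM, show e₀ * a * e₀⁻¹ = d * a by rw [hd, commutatorElement_def]; group]
      _ = d * d * a := by
          rw [show d⁻¹ * d⁻¹ * (d * a) = d⁻¹ * a by group,
            show d⁻¹ = d * d from inv_eq_of_mul_eq_one_right (by rw [← mul_assoc, hcube d hdM])]
  have hnR₀ : ∀ g ∈ Subgroup.normalizer (E : Set G), ∀ r ∈ R₀, g * r * g⁻¹ ∈ R₀ := fun g hg r hr => by
    obtain ⟨hr1, hr2⟩ := Subgroup.mem_inf.1 hr
    have hgr : g * r * g⁻¹ ∈ pCore p G := (inferInstance : (pCore p G).Normal).conj_mem r hr1 g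
    refine Subgroup.mem_inf.2 ⟨hgr, Subgroup.mem_centralizer_singleton_iff.2 ?_⟩
    have he' : g * e₀ * g⁻¹ ∈ E := (Subgroup.mem_normalizer_iff.1 hg _).1 he₀
    set u := e₀⁻¹ * (g * e₀ * g⁻¹) with hu
    have huM : u ∈ M := by
      rw [← hq]
      refine faith hT hS (mul_mem (inv_mem he₀) he') fun x hx => ?_
      obtain ⟨y, hy, rfl⟩ : ∃ y ∈ M, g * y * g⁻¹ = x := ⟨g⁻¹ * x * g⁻¹⁻¹, mov_conj (inv_mem hg) hx, by group⟩
      rw [show u * (g * y * g⁻¹) * u⁻¹ = e₀⁻¹ * (g * (e₀ * y * e₀⁻¹) * g⁻¹) * e₀ by rw [hu]; group,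
        hinv y hy, show g * y⁻¹ * g⁻¹ = (g * y * g⁻¹)⁻¹ by group]
      nth_rewrite 2 [← hinv (g * y * g⁻¹) hx]
      rw [show (g * y * g⁻¹)⁻¹ * (e₀⁻¹ * (e₀ * (g * y * g⁻¹) * e₀⁻¹) * e₀) = 1 by group]
      exact one_mem _
    have h1 : (g * e₀ * g⁻¹) * (g * r * g⁻¹) = (g * r * g⁻¹) * (g * e₀ * g⁻¹) := by
      rw [show (g * e₀ * g⁻¹) * (g * r * g⁻¹) = g * (e₀ * r) * g⁻¹ by group,
        ← Subgroup.mem_centralizer_singleton_iff.1 hr2]
      group
    have h3 : g * e₀ * g⁻¹ = e₀ * u := by rw [hu]; group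
    rw [h3] at h1
    refine (mul_right_cancel (b := u) ?_).symm
    calc e₀ * (g * r * g⁻¹) * u = e₀ * ((g * r * g⁻¹) * u) := mul_assoc _ _ _
      _ = e₀ * (u * (g * r * g⁻¹)) := by rw [hMR u huM _ hgr]
      _ = e₀ * u * (g * r * g⁻¹) := (mul_assoc _ _ _).symm
      _ = g * r * g⁻¹ * (e₀ * u) := h1
      _ = _ := (mul_assoc _ _ _).symm
  set Q := pCoreOf p F with hQd
  set W := omegaOneCenter p Q with hW
  have hZR : ⁅Q, Q⁆ ≤ R₀ := Subgroup.commutator_le.2 fun a ha b hb => by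
    obtain ⟨m, hm, a', ha', rfl⟩ := hdec a (hQR ha)
    obtain ⟨m', hm', b', hb', rfl⟩ := hdec b (hQR hb)
    have e1 : ⁅m * a', m' * b'⁆ = ⁅a', b'⁆ := by
      have c1 := hMR m hm a' ha'.1
      have c2 := hMR m' hm' a' ha'.1
      have c3 := hMR m hm b' hb'.1
      have c4 := hMR m' hm' b' hb'.1
      have c5 := mov_comm hm' hm
      have c6 : (m' * b') * m = m * (m' * b') := by rw [mul_assoc, c3, ← mul_assoc, c5, mul_assoc]
      calc ⁅m * a', m' * b'⁆ = m * a' * (m' * b') * a'⁻¹ * m⁻¹ * (m' * b')⁻¹ := by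
            simp only [commutatorElement_def]; group
        _ = m * (a' * m') * b' * a'⁻¹ * ((m' * b') * m)⁻¹ := by group
        _ = m * (m' * a') * b' * a'⁻¹ * (m * (m' * b'))⁻¹ := by rw [c2, c6]
        _ = m * m' * ⁅a', b'⁆ * (m * m')⁻¹ := by simp only [commutatorElement_def]; group
        _ = _ := by
            rw [← hMR (m * m') (mul_mem hm hm') ⁅a', b'⁆ (mul_mem (mul_mem (mul_mem ha'.1 hb'.1)
              (inv_mem ha'.1)) (inv_mem hb'.1)), mul_inv_cancel_right]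
    rw [e1, commutatorElement_def]
    exact mul_mem (mul_mem (mul_mem ha' hb') (inv_mem ha')) (inv_mem hb')
  have hWR : ∀ w ∈ W, w ∈ R₀ → w ∈ F ⊓ Subgroup.centralizer (F : Set G) := fun w hw hwR => by
    obtain ⟨m, hm, z, hz, rfl⟩ := mem_sup_abelian (A := mov p F) (B := W ⊓ Subgroup.centralizer (F : Set G))
      (fun a ha b hb => omega_comm _ hb.1 _ (hFP.movW ha)) (hFP.cover hw)
    have hzR : z ∈ R₀ := hZR (D.zeq.ge hz)
    have hmR : m ∈ R₀ := by simpa using mul_mem hwR (inv_mem hzR)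
    rw [hR₀M m (hmov hm) hmR, one_mul, D.cent]
    exact hz
  -- an element of `B(T)` moving `W`
  obtain ⟨-, -, hJ⟩ := S2984.result hG T F hF
  obtain ⟨b, hb, hbW⟩ : ∃ b ∈ baumannSubgroupOf p (T : Subgroup G), b ∉ Subgroup.centralizer (W : Set G) := by
    by_contra hc
    push Not at hc
    refine hJ (Subgroup.commutator_eq_bot_iff_le_centralizer.2 ?_)
    rw [← Fusion.jElem_eq, Subgroup.le_centralizer_iff]
    intro j hj
    exact Subgroup.centralizer_le (Subgroup.le_normalizer_iff_commutator_le_left.1 hFP.normW)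
      (hc j (jElem_le_baumann _ hj))
  have hbE := baumann_normalizes hG T hE hb
  have hbF : b ∈ Subgroup.normalizer (F : Set G) :=
    Subgroup.le_normalizer_iff_commutator_le_left.2 hFP.baumann.le hb
  have hqE : ∀ y ∈ M, ∀ i j : ℕ, ⁅⁅y, b ^ i⁆, b ^ j⁆ = 1 := fun y hy i j => by
    have hm1 : ⁅y, b ^ i⁆ ∈ M := (comm_mem hy (normalizer_mov le_rfl (pow_mem hbE i))).1
    exact hMC _ (comm_mem hm1 (normalizer_mov le_rfl (pow_mem hbE j))).1
      (Subgroup.mem_centralizer_iff.1 (baumann_quadratic hG hE hT D.three hb y hy i j) e₀ he₀)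
  have hlin := linear_of_quadratic hFP D hb hbF fun y hy => hqE y (hmov hy)
  have hbQ := mem_normalizer_Q (p := p) hbF
  have hQp : IsPGroup p ↥Q := Fusion.pCoreOf_isPGroup (p := p) F
  obtain ⟨k, hk'⟩ := T.isPGroup' ⟨b, baumann_le _ hb⟩
  obtain ⟨n, hn⟩ := D.card
  have hzp : IsPGroup p ↥(Subgroup.zpowers b) :=
    (T.isPGroup'.to_le (baumann_le _)).to_le (Subgroup.zpowers_le.2 hb)
  have hWQ : W ≤ Q := fun x hx => (omegaOneCenter_props hx).1
  obtain ⟨x, hx, hxW, hxfix⟩ := fixed_mod hzp hQp (lt_of_le_of_ne hWQ D.W_ne) (Subgroup.zpowers_le.2 hbQ)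
  have hne : D.S2.c x ≠ 0 := fun h => hxW ((D.S2.c_zero x hx).1 h)
  have hfix : D.S2.c (b * x * b⁻¹) = D.S2.c x := by
    have h1 := hxfix b (Subgroup.mem_zpowers b)
    rw [commutatorElement_def] at h1
    have h2 := (D.S2.c_zero _ (mul_mem (D.S2.conj_mem hbQ hx) (inv_mem hx))).2 h1
    rw [D.S2.c_mul _ (D.S2.conj_mem hbQ hx) _ (inv_mem hx), D.S2.c_inv hx, ← sub_eq_add_neg, sub_eq_zero] at h2
    exact h2
  obtain ⟨t, ht⟩ := D.S2.exists_shear hn hbQ hlin hx hne hfix (congrArg Subtype.val hk')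
  have hquad : ∀ a ∈ Q, ∀ i j : ℕ, ⁅⁅a, b ^ i⁆, b ^ j⁆ ∈ F ⊓ Subgroup.centralizer (F : Set G) := by
    intro a ha i j
    refine hWR _ (D.S2.shear_quadratic hbQ ht a ha i j) ?_
    obtain ⟨m, hm, a', ha', rfl⟩ := hdec a (hQR ha)
    have hR₀c : ∀ r ∈ R₀, ∀ g ∈ Subgroup.normalizer (E : Set G), ⁅r, g⁆ ∈ R₀ := fun r hr g hg => by
      rw [commutatorElement_def, mul_assoc r g, mul_assoc r]
      exact mul_mem hr (hnR₀ g hg _ (inv_mem hr))
    have hdec' : ∀ m ∈ M, ∀ r ∈ R₀, ∀ g ∈ Subgroup.normalizer (E : Set G), ⁅m * r, g⁆ = ⁅m, g⁆ * ⁅r, g⁆ :=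
      fun m hm r hr g hg => comm_decomp
        (hMR _ (mov_conj hg (inv_mem hm)) _ (hR₀c r hr g hg).1).symm
    rw [hdec' m hm a' ha' _ (pow_mem hbE i),
      hdec' _ (comm_mem hm (normalizer_mov le_rfl (pow_mem hbE i))).1 _ (hR₀c a' ha' _ (pow_mem hbE i)) _
        (pow_mem hbE j), hqE m hm i j, one_mul]
    exact hR₀c _ (hR₀c a' ha' _ (pow_mem hbE i)) _ (pow_mem hbE j)
  refine D.quad b hb hbW (Subgroup.commutator_le.2 fun y hy g hg => ?_)
  obtain ⟨j, rfl⟩ := mem_powers_iff_mem_zpowers.2 hg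
  set Z := F ⊓ Subgroup.centralizer (F : Set G) with hZ
  have hZc : ∀ z ∈ Z, ∀ a ∈ Q, a * z * a⁻¹ = z := fun z hz a ha => by
    rw [Subgroup.mem_centralizer_iff.1 hz.2 a (Block.pCoreOf_le F ha), mul_inv_cancel_right]
  let Y : Subgroup G :=
    { carrier := {y | y ∈ Q ∧ ⁅y, b ^ j⁆ ∈ Z}
      one_mem' := ⟨one_mem _, by simp⟩
      mul_mem' := by
        rintro a c ⟨ha, ha'⟩ ⟨hc, hc'⟩
        refine ⟨mul_mem ha hc, ?_⟩
        rw [show ⁅a * c, b ^ j⁆ = a * ⁅c, b ^ j⁆ * a⁻¹ * ⁅a, b ^ j⁆ by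
          simp only [commutatorElement_def]; group, hZc _ hc' a ha]
        exact mul_mem hc' ha'
      inv_mem' := by
        rintro a ⟨ha, ha'⟩
        refine ⟨inv_mem ha, ?_⟩
        rw [show ⁅a⁻¹, b ^ j⁆ = a⁻¹ * ⁅a, b ^ j⁆⁻¹ * a⁻¹⁻¹ by simp only [commutatorElement_def]; group,
          hZc _ (inv_mem ha') _ (inv_mem ha)]
        exact inv_mem ha' }
  have hY : ⁅Q, Subgroup.zpowers b⁆ ≤ Y := Subgroup.commutator_le.2 fun a ha g' hg' => by
    obtain ⟨i, rfl⟩ := mem_powers_iff_mem_zpowers.2 hg'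
    exact ⟨(comm_mem ha (pow_mem hbQ i)).1, hquad a ha i j⟩
  exact (hY hy).2

end main

end Cfsg.Agent.LocalEven.BlockNormal
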