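import Cfsg.Agent.Lib.LocalEven.BlockNormal.Model

/-!
# The symmetric case: no fixed points on `[V, E]`, and the normaliser permutes the points
-/

set_option autoImplicit false

open scoped commutatorElement
open Equiv

namespace Cfsg.Agent.LocalEven.BlockNormal

open Cfsg Cfsg.Agent.Fusion Cfsg.Agent.LocalEven.Block Cfsg.Agent.LocalEven.SubnBlock

variable {G : Type*} [Group G] [Finite G] {p : ℕ} [hp : Fact p.Prime] {E : Subgroup G} {n : ℕ}

/-- The vector with support `{a, b}`. -/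
def e2 (a b : Fin n) : Fin n → ZMod 2 := fun l => (if l = a then 1 else 0) + if l = b then 1 else 0

theorem e2_sum (a b : Fin n) : ∑ l, e2 a b l = 0 := by
  simp only [e2, Finset.sum_add_distrib, Finset.sum_ite_eq', Finset.mem_univ, if_true]
  decide

theorem e2_comm (a b : Fin n) : e2 a b = e2 b a := funext fun l => add_comm _ _

theorem e2_self (a : Fin n) : e2 a a = 0 := funext fun l => by
  show _ + _ = (0 : ZMod 2)
  split_ifs <;> decide

theorem e2_add (a b c : Fin n) : e2 a b + e2 b c = e2 a c := funext fun l => by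
  simp only [Pi.add_apply, e2]
  have h : ∀ x y z : ZMod 2, x + y + (y + z) = x + z := by decide
  exact h _ _ _

theorem e2_left {a b : Fin n} (h : a ≠ b) : e2 a b a = 1 := by simp [e2, h]

theorem e2_apply_ne {a b l : Fin n} (h1 : l ≠ a) (h2 : l ≠ b) : e2 a b l = 0 := by simp [e2, h1, h2]

theorem e2_ne {a b : Fin n} (h : a ≠ b) : e2 a b ≠ 0 := fun h' => by
  have := congrFun h' a
  rw [e2_left h] at this
  exact one_ne_zero this

theorem e2_mem {a b x y : Fin n} (hab : a ≠ b) (h : e2 a b = e2 x y) : a = x ∨ a = y := by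
  by_contra hc
  push Not at hc
  have := congrFun h a
  rw [e2_left hab, e2_apply_ne hc.1 hc.2] at this
  exact one_ne_zero this

theorem e2_eq_iff {a b x y : Fin n} (hab : a ≠ b) (h : e2 a b = e2 x y) :
    (a = x ∧ b = y) ∨ (a = y ∧ b = x) := by
  have h1 := e2_mem hab h
  have h2 := e2_mem hab.symm (e2_comm a b ▸ h)
  rcases h1 with h1 | h1 <;> rcases h2 with h2 | h2
  · exact absurd (h1.trans h2.symm) hab
  · exact Or.inl ⟨h1, h2⟩
  · exact Or.inr ⟨h1, h2⟩
  · exact absurd (h1.trans h2.symm) hab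

theorem e2_perm (σ : Perm (Fin n)) (a b : Fin n) : (fun l => e2 a b (σ⁻¹ l)) = e2 (σ a) (σ b) :=
  funext fun l => by simp only [e2, Perm.inv_def, Equiv.symm_apply_eq]

/-- The cycle `a → b → c → a`. -/
def cyc (a b c : Fin n) : Perm (Fin n) := swap a b * swap b c

theorem cyc_apply {a b c : Fin n} (hab : a ≠ b) (hac : a ≠ c) (hbc : b ≠ c) :
    cyc a b c a = b ∧ cyc a b c b = c ∧ cyc a b c c = a := by
  simp [cyc, swap_apply_of_ne_of_ne, hab, hac, hac.symm, hbc.symm]

theorem cyc_apply_ne {a b c l : Fin n} (h1 : l ≠ a) (h2 : l ≠ b) (h3 : l ≠ c) : cyc a b c l = l := by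
  simp [cyc, swap_apply_of_ne_of_ne, h1, h2, h3]

theorem cyc_mem {a b c : Fin n} (hab : a ≠ b) (hbc : b ≠ c) : cyc a b c ∈ alternatingGroup (Fin n) := by
  rw [Perm.mem_alternatingGroup, cyc, map_mul, Perm.sign_swap hab, Perm.sign_swap hbc]; rfl

theorem cyc_cube {a b c : Fin n} (hab : a ≠ b) (hac : a ≠ c) (hbc : b ≠ c) :
    cyc a b c * (cyc a b c * cyc a b c) = 1 := by
  obtain ⟨h1, h2, h3⟩ := cyc_apply hab hac hbc
  refine Equiv.ext fun l => ?_
  simp only [Perm.mul_apply, Perm.one_apply]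
  by_cases e1 : l = a
  · rw [e1, h1, h2, h3]
  by_cases e2 : l = b
  · rw [e2, h2, h3, h1]
  by_cases e3 : l = c
  · rw [e3, h3, h1, h2]
  rw [cyc_apply_ne e1 e2 e3, cyc_apply_ne e1 e2 e3, cyc_apply_ne e1 e2 e3]

theorem cyc_rot {a b c : Fin n} (hab : a ≠ b) (hac : a ≠ c) (hbc : b ≠ c) : cyc b c a = cyc a b c := by
  obtain ⟨h1, h2, h3⟩ := cyc_apply hab hac hbc
  obtain ⟨g1, g2, g3⟩ := cyc_apply hbc hab.symm hac.symm
  refine Equiv.ext fun l => ?_
  by_cases e1 : l = a
  · rw [e1, g3, h1]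
  by_cases e2 : l = b
  · rw [e2, g1, h2]
  by_cases e3 : l = c
  · rw [e3, g2, h3]
  rw [cyc_apply_ne e1 e2 e3, cyc_apply_ne e2 e3 e1]

theorem cyc_swap {a b c : Fin n} (hab : a ≠ b) (hac : a ≠ c) (hbc : b ≠ c) :
    cyc b a c = (cyc a b c)⁻¹ := by
  obtain ⟨h1, h2, h3⟩ := cyc_apply hab hac hbc
  obtain ⟨g1, g2, g3⟩ := cyc_apply hab.symm hbc hac
  refine eq_inv_of_mul_eq_one_left (Equiv.ext fun l => ?_)
  simp only [Perm.mul_apply, Perm.one_apply]
  by_cases e1 : l = a
  · rw [e1, h1, g1]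
  by_cases e2 : l = b
  · rw [e2, h2, g3]
  by_cases e3 : l = c
  · rw [e3, h3, g2]
  rw [cyc_apply_ne e1 e2 e3, cyc_apply_ne e2 e1 e3]

theorem exists_ne_three (hn : 4 ≤ n) (a b c : Fin n) : ∃ d, d ≠ a ∧ d ≠ b ∧ d ≠ c := by
  by_contra h
  push Not at h
  have hsub : (Finset.univ : Finset (Fin n)) ⊆ {a, b, c} := fun z _ => by
    by_cases ha : z = a
    · simp [ha]
    by_cases hb : z = b
    · simp [hb]
    simp [h z ha hb]
  have := (Finset.card_le_card hsub).trans Finset.card_le_three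
  rw [Finset.card_univ, Fintype.card_fin] at this
  omega

/-- A linear bijection of even vectors preserving edges comes from a permutation. -/
theorem perm_of_edges (hn : 5 ≤ n) (T : (Fin n → ZMod 2) → Fin n → ZMod 2) (hT0 : T 0 = 0)
    (hTadd : ∀ u v, ∑ i, u i = 0 → ∑ i, v i = 0 → T (u + v) = T u + T v)
    (hTe_inj : ∀ u v, ∑ i, u i = 0 → ∑ i, v i = 0 → T u = T v → u = v)
    (hedge : ∀ a b, a ≠ b → ∃ x y, x ≠ y ∧ T (e2 a b) = e2 x y) :
    ∃ P0 : Perm (Fin n), ∀ v, ∑ i, v i = 0 → T v = fun l => v (P0⁻¹ l) := by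
  classical
  choose! X Y hXY hTXY using hedge
  -- every edge is an image
  have honto : ∀ x y, x ≠ y → ∃ a b, a ≠ b ∧ T (e2 a b) = e2 x y := by
    let Ed : Finset (Fin n → ZMod 2) :=
      ((Finset.univ : Finset (Fin n × Fin n)).filter fun q => q.1 ≠ q.2).image fun q => e2 q.1 q.2
    have hmem : ∀ w, w ∈ Ed ↔ ∃ a b, a ≠ b ∧ w = e2 a b := fun w => by
      simp only [Ed, Finset.mem_image, Finset.mem_filter, Finset.mem_univ, true_and, Prod.exists]
      exact exists₂_congr fun a b => and_congr_right fun _ => eq_comm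
    have hsub : Ed.image T ⊆ Ed := fun w hw => by
      obtain ⟨u, hu, rfl⟩ := Finset.mem_image.1 hw
      obtain ⟨a, b, hab, rfl⟩ := (hmem u).1 hu
      exact (hmem _).2 ⟨_, _, hXY a b hab, hTXY a b hab⟩
    have heq : Ed.image T = Ed := Finset.eq_of_subset_of_card_le hsub (le_of_eq (by
      refine (Finset.card_image_of_injOn fun u hu v hv h => ?_).symm
      obtain ⟨a, b, -, rfl⟩ := (hmem u).1 hu
      obtain ⟨a', b', -, rfl⟩ := (hmem v).1 hv
      exact hTe_inj _ _ (e2_sum _ _) (e2_sum _ _) h))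
    intro x y hxy
    obtain ⟨u, hu, he⟩ := Finset.mem_image.1 (heq.symm ▸ (hmem _).2 ⟨x, y, hxy, rfl⟩ : e2 x y ∈ Ed.image T)
    obtain ⟨a, b, hab, rfl⟩ := (hmem u).1 hu
    exact ⟨a, b, hab, he⟩
  have hmeet : ∀ a b c, a ≠ b → a ≠ c → b ≠ c →
      X a b = X a c ∨ X a b = Y a c ∨ Y a b = X a c ∨ Y a b = Y a c := by
    intro a b c h1 h2 h3
    by_contra hc
    push Not at hc
    have h4 : T (e2 b c) = T (e2 a b) + T (e2 a c) := by
      rw [← hTadd _ _ (e2_sum _ _) (e2_sum _ _), e2_comm a b, e2_add]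
    rw [hTXY b c h3, hTXY a b h1, hTXY a c h2] at h4
    have k1 := congrFun h4 (X a b)
    have k2 := congrFun h4 (X a c)
    have k3 := congrFun h4 (Y a b)
    rw [Pi.add_apply, e2_left (hXY a b h1), e2_apply_ne hc.1 hc.2.1, add_zero] at k1
    rw [Pi.add_apply, e2_left (hXY a c h2), e2_apply_ne (Ne.symm hc.1) (Ne.symm hc.2.2.1), zero_add] at k2
    rw [Pi.add_apply, e2_comm (X a b), e2_left (hXY a b h1).symm, e2_apply_ne hc.2.2.1 hc.2.2.2,
      add_zero] at k3
    have hm : ∀ l, e2 (X b c) (Y b c) l = 1 → l = X b c ∨ l = Y b c := fun l hl => by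
      by_contra hl'
      push Not at hl'
      rw [e2_apply_ne hl'.1 hl'.2] at hl
      exact zero_ne_one hl
    have hXY' := hXY a b h1
    rcases hm _ k1 with q1 | q1 <;> rcases hm _ k2 with q2 | q2 <;> rcases hm _ k3 with q3 | q3
    all_goals first
      | exact hc.1 (q1.trans q2.symm)
      | exact hc.2.2.1 (q3.trans q2.symm)
      | exact hXY' (q1.trans q3.symm)
  -- the common point of a star
  have hstar : ∀ a, ∃ x, ∀ b, a ≠ b → X a b = x ∨ Y a b = x := by
    intro a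
    obtain ⟨b, hba, -, -⟩ := exists_ne_three (by omega) a a a
    obtain ⟨c, hca, hcb, -⟩ := exists_ne_three (by omega) a b b
    obtain ⟨x, y, hxy, z, hxz, hyz, hb, hc⟩ :
        ∃ x y, x ≠ y ∧ ∃ z, x ≠ z ∧ y ≠ z ∧ T (e2 a b) = e2 x y ∧ T (e2 a c) = e2 x z := by
      have hb' := hTXY a b hba.symm
      have hc' := hTXY a c hca.symm
      have n1 := hXY a b hba.symm
      have n2 := hXY a c hca.symm
      have hne : T (e2 a b) ≠ T (e2 a c) := fun h => by
        rcases e2_eq_iff hba.symm (hTe_inj _ _ (e2_sum _ _) (e2_sum _ _) h) with ⟨-, h'⟩ | ⟨h', -⟩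
        exacts [hcb h'.symm, hca h'.symm]
      rcases hmeet a b c hba.symm hca.symm hcb.symm with h | h | h | h
      · refine ⟨_, _, n1, Y a c, h ▸ n2, fun h' => hne ?_, hb', by rw [hc', h]⟩
        rw [hb', hc', h, h']
      · refine ⟨_, _, n1, X a c, h ▸ n2.symm, fun h' => hne ?_, hb', by rw [hc', h, e2_comm]⟩
        rw [hb', hc', h, h', e2_comm]
      · refine ⟨_, _, n1.symm, Y a c, h ▸ n2, fun h' => hne ?_, by rw [hb', e2_comm], by rw [hc', h]⟩
        rw [hb', hc', h', h, e2_comm]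
      · refine ⟨_, _, n1.symm, X a c, h ▸ n2.symm, fun h' => hne ?_, by rw [hb', e2_comm],
          by rw [hc', h, e2_comm]⟩
        rw [hb', hc', h', h]
    refine ⟨x, fun d had => ?_⟩
    by_contra hd
    push Not at hd
    have hdb : d ≠ b := fun h => by
      subst h
      rcases e2_eq_iff hxy (hb.symm.trans (hTXY a _ had)) with ⟨h', -⟩ | ⟨h', -⟩
      exacts [hd.1 h'.symm, hd.2 h'.symm]
    have hdc : d ≠ c := fun h => by
      subst h
      rcases e2_eq_iff hxz (hc.symm.trans (hTXY a _ had)) with ⟨h', -⟩ | ⟨h', -⟩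
      exacts [hd.1 h'.symm, hd.2 h'.symm]
    have share : ∀ {b' y' : _}, a ≠ b' → d ≠ b' → x ≠ y' → T (e2 a b') = e2 x y' →
        X a d = y' ∨ Y a d = y' := by
      intro b' y' hab' hdb' hne he
      have hcase := hmeet a b' d hab' had hdb'.symm
      rcases e2_eq_iff hne (he.symm.trans (hTXY a b' hab')) with ⟨h1, h2⟩ | ⟨h1, h2⟩ <;>
        rw [← h1, ← h2] at hcase
      · rcases hcase with h | h | h | h
        exacts [absurd h.symm hd.1, absurd h.symm hd.2, Or.inl h.symm, Or.inr h.symm]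
      · rcases hcase with h | h | h | h
        exacts [Or.inl h.symm, Or.inr h.symm, absurd h.symm hd.1, absurd h.symm hd.2]
    have hy1 := share hba.symm hdb hxy hb
    have hz1 := share hca.symm hdc hxz hc
    have hdyz : T (e2 a d) = e2 y z := by
      rw [hTXY a d had]
      rcases hy1 with h | h <;> rcases hz1 with h' | h'
      · exact absurd (h.symm.trans h') hyz
      · rw [h, h']
      · rw [h, h', e2_comm]
      · exact absurd (h.symm.trans h') hyz
    -- a fourth edge has nowhere to go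
    obtain ⟨k, hk⟩ : ∃ k, k ∉ ({a, b, c, d} : Finset (Fin n)) := by
      by_contra h
      push Not at h
      have := (Finset.card_le_card (fun l _ => h l : (Finset.univ : Finset (Fin n)) ⊆ {a, b, c, d})).trans
        Finset.card_le_four
      rw [Finset.card_univ, Fintype.card_fin] at this
      omega
    simp only [Finset.mem_insert, Finset.mem_singleton, not_or, ← ne_eq] at hk
    obtain ⟨hka, hkb, hkc, hkd⟩ := hk
    have meet' : ∀ {b' u v : _}, a ≠ b' → k ≠ b' → u ≠ v → T (e2 a b') = e2 u v →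
        (X a k = u ∨ Y a k = u) ∨ (X a k = v ∨ Y a k = v) := by
      intro b' u v hab' hkb' hne he
      have hcase := hmeet a b' k hab' (Ne.symm hka) hkb'.symm
      rcases e2_eq_iff hne (he.symm.trans (hTXY a b' hab')) with ⟨h1, h2⟩ | ⟨h1, h2⟩ <;>
        rw [← h1, ← h2] at hcase <;> rcases hcase with h | h | h | h <;> simp [h]
    have g1 := meet' hba.symm hkb hxy hb
    have g2 := meet' hca.symm hkc hxz hc
    have g3 := meet' had hkd hyz hdyz
    have hno : ∀ {b' u v : _}, a ≠ b' → k ≠ b' → T (e2 a b') = e2 u v →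
        ¬ ((X a k = u ∧ Y a k = v) ∨ (X a k = v ∧ Y a k = u)) := by
      intro b' u v hab' hkb' he h
      have h1 : T (e2 a k) = T (e2 a b') := by
        rw [hTXY a k (Ne.symm hka), he]
        rcases h with ⟨h, h'⟩ | ⟨h, h'⟩
        · rw [h, h']
        · rw [h, h', e2_comm]
      rcases e2_eq_iff (Ne.symm hka) (hTe_inj _ _ (e2_sum _ _) (e2_sum _ _) h1) with ⟨-, h'⟩ | ⟨-, h'⟩
      exacts [hkb' h', hka h']
    have p1 := hno hba.symm hkb hb
    have p2 := hno hca.symm hkc hc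
    have p3 := hno had hkd hdyz
    grind
  choose π hπ using hstar
  have hne : ∀ a b, a ≠ b → π a ≠ π b := by
    intro a b hab he
    obtain ⟨c, hca, hcb, -⟩ := exists_ne_three (by omega) a b b
    obtain ⟨d, hda, hdb, hdc⟩ := exists_ne_three (by omega) a b c
    -- two disjoint edges map to edges with a common point
    obtain ⟨y, hy1, hy⟩ : ∃ y, π a ≠ y ∧ T (e2 a c) = e2 (π a) y := by
      rcases hπ a c hca.symm with h | h
      · exact ⟨_, h ▸ hXY a c hca.symm, by rw [hTXY a c hca.symm, h]⟩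
      · exact ⟨_, h ▸ (hXY a c hca.symm).symm, by rw [hTXY a c hca.symm, h, e2_comm]⟩
    obtain ⟨z, hz1, hz⟩ : ∃ z, π a ≠ z ∧ T (e2 b d) = e2 (π a) z := by
      rcases hπ b d hdb.symm with h | h
      · exact ⟨_, he ▸ h ▸ hXY b d hdb.symm, by rw [hTXY b d hdb.symm, h, he]⟩
      · exact ⟨_, he ▸ h ▸ (hXY b d hdb.symm).symm, by rw [hTXY b d hdb.symm, h, he, e2_comm]⟩
    have hyz : y ≠ z := fun h => by
      rcases e2_eq_iff hca.symm (hTe_inj _ _ (e2_sum a c) (e2_sum b d) (by rw [hy, hz, h])) with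
        ⟨h', -⟩ | ⟨h', -⟩
      exacts [hab h', hda h'.symm]
    obtain ⟨u, v, huv, hu⟩ := honto y z hyz
    have hsum : T (e2 a c + e2 b d) = T (e2 u v) := by
      rw [hTadd _ _ (e2_sum a c) (e2_sum b d), hy, hz, hu, e2_comm (π a) y, e2_add]
    have h4 := hTe_inj _ _ (by
      simp only [Pi.add_apply, Finset.sum_add_distrib, e2_sum, add_zero]) (e2_sum u v) hsum
    have l1 := congrFun h4 a
    have l2 := congrFun h4 b
    have l3 := congrFun h4 c
    rw [Pi.add_apply, e2_left hca.symm, e2_apply_ne hab (Ne.symm hda), add_zero] at l1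
    rw [Pi.add_apply, e2_left hdb.symm, e2_apply_ne (Ne.symm hab) (Ne.symm hcb), zero_add] at l2
    rw [Pi.add_apply, e2_comm a c, e2_left hca, e2_apply_ne hcb (Ne.symm hdc), add_zero] at l3
    have hin : ∀ l, e2 u v l = 1 → l = u ∨ l = v := fun l hl => by
      by_contra hl'
      push Not at hl'
      rw [e2_apply_ne hl'.1 hl'.2] at hl
      exact zero_ne_one hl
    rcases hin a l1.symm with q1 | q1 <;> rcases hin b l2.symm with q2 | q2 <;>
      rcases hin c l3.symm with q3 | q3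
    all_goals first
      | exact hab (q1.trans q2.symm)
      | exact hca (q3.trans q1.symm)
      | exact hcb (q3.trans q2.symm)
  have hTπ : ∀ a b, a ≠ b → T (e2 a b) = e2 (π a) (π b) := by
    intro a b hab
    rw [hTXY a b hab]
    have h1 := hπ a b hab
    have h2 : X a b = π b ∨ Y a b = π b := by
      have hsw : e2 (X a b) (Y a b) = e2 (X b a) (Y b a) := by
        rw [← hTXY a b hab, ← hTXY b a (Ne.symm hab), e2_comm]
      rcases e2_eq_iff (hXY a b hab) hsw
        with ⟨q, q'⟩ | ⟨q, q'⟩ <;> rcases hπ b a (Ne.symm hab) with r | r <;> simp [q, q', r]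
    rcases h1 with h1 | h1 <;> rcases h2 with h2 | h2
    · exact absurd (h1.symm.trans h2) (hne a b hab)
    · rw [h1, h2]
    · rw [h1, h2, e2_comm]
    · exact absurd (h1.symm.trans h2) (hne a b hab)
  have hπinj : Function.Injective π := fun a b h => by
    by_contra hab
    exact hne a b hab h
  let P0 : Perm (Fin n) := Equiv.ofBijective π (Finite.injective_iff_bijective.1 hπinj)
  refine ⟨P0, fun v hv => ?_⟩
  set o : Fin n := ⟨0, by omega⟩ with ho
  -- write the vector through edges at `o`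
  have key : ∀ s : Finset (Fin n), ∀ v : Fin n → ZMod 2, (∀ l, l ∉ s → l ≠ o → v l = 0) →
      ∑ i, v i = 0 → T v = fun l => v (P0⁻¹ l) := by
    intro s
    induction s using Finset.induction_on with
    | empty =>
      intro v h0 hsum
      have hv : v = 0 := funext fun l => by
        by_cases hl : l = o
        · rw [Finset.sum_eq_single o (fun b _ hb => h0 b (Finset.notMem_empty b) hb) (by simp)] at hsum
          rw [hl]
          exact hsum
        · exact h0 l (Finset.notMem_empty l) hl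
      subst hv
      rw [hT0]
      rfl
    | insert a s has ih =>
      intro v h0 hsum
      by_cases ha : v a = 0 ∨ a = o
      · refine ih v (fun l hl hlo => ?_) hsum
        by_cases hla : l = a
        · rcases ha with ha | ha
          · rw [hla, ha]
          · exact absurd (hla.trans ha) hlo
        · exact h0 l (by simp [hla, hl]) hlo
      push Not at ha
      have hva : v a = 1 := (Block.zmod_two_cases (v a)).resolve_left ha.1
      have hsum' : ∑ i, (v + e2 o a) i = 0 := by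
        simp only [Pi.add_apply, Finset.sum_add_distrib, hsum, e2_sum, add_zero]
      have h1 := ih (v + e2 o a) (fun l hl hlo => by
        by_cases hla : l = a
        · rw [hla, Pi.add_apply, hva, e2_comm, e2_left ha.2]; decide
        · rw [Pi.add_apply, h0 l (by simp [hla, hl]) hlo, e2_apply_ne hlo hla, add_zero]) hsum'
      rw [hTadd v _ hsum (e2_sum o a), hTπ o a (Ne.symm ha.2)] at h1
      have h2 : (fun l => (v + e2 o a) (P0⁻¹ l)) = (fun l => v (P0⁻¹ l)) + e2 (π o) (π a) := by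
        rw [show e2 (π o) (π a) = e2 (P0 o) (P0 a) from rfl, ← e2_perm]
        rfl
      rw [h2] at h1
      exact add_right_cancel h1
  exact key Finset.univ v (fun l hl => absurd (Finset.mem_univ l) hl) hv

namespace AltCo

variable (C : AltCo p E n)
include C

omit [Finite G] hp in
theorem mov_mem_conj {g x : G} (hg : g ∈ Subgroup.normalizer (E : Set G)) (hx : x ∈ mov p E) :
    g * x * g⁻¹ ∈ mov p E :=
  (Subgroup.mem_normalizer_iff.1
    (normalizer_mov (p := p) (H := Subgroup.normalizer (E : Set G)) le_rfl hg) x).1 hx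

omit [Finite G] hp in
theorem c_one : C.c 1 = 0 := by
  have := C.c_mul 1 (one_mem _) 1 (one_mem _)
  rw [mul_one] at this
  exact left_eq_add.1 this

omit [Finite G] hp in
theorem sq_one {x : G} (hx : x ∈ mov p E) : x * x = 1 := by
  have h := (omegaOneCenter_props (mov_le E hx)).2.2
  rwa [C.two, sq] at h

omit [Finite G] hp in
theorem inv_self {x : G} (hx : x ∈ mov p E) : x⁻¹ = x := inv_eq_of_mul_eq_one_right (C.sq_one hx)

omit [Finite G] hp in
theorem comm {x y : G} (hx : x ∈ mov p E) (hy : y ∈ mov p E) : x * y = y * x :=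
  omega_comm x (mov_le E hx) y (mov_le E hy)

omit [Finite G] hp in
theorem fix_of_rho {e : ↥E} (hS : Shape p E) (he : C.ρ e = 1) {x : G} (hx : x ∈ mov p E) :
    (e : G) * x * (e : G)⁻¹ = x := by
  rw [Subgroup.mem_centralizer_iff.1 (omegaOneCenter_props (hS.movW hx)).2.1 (e : G) ((C.ker e).1 he),
    mul_inv_cancel_right]

omit [Finite G] hp in
theorem conj_eq_of_rho {e e' : ↥E} (hS : Shape p E) (h : C.ρ e = C.ρ e') {x : G} (hx : x ∈ mov p E) :
    (e : G) * x * (e : G)⁻¹ = (e' : G) * x * (e' : G)⁻¹ := by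
  have h1 := C.fix_of_rho hS (e := e'⁻¹ * e) (by rw [map_mul, map_inv, h, inv_mul_cancel]) hx
  rw [Subgroup.coe_mul, Subgroup.coe_inv] at h1
  calc (e : G) * x * (e : G)⁻¹ =
        (e' : G) * (((e' : G)⁻¹ * e) * x * ((e' : G)⁻¹ * e)⁻¹) * (e' : G)⁻¹ := by group
    _ = _ := by rw [h1]

/-- `[V, σ]` for a permutation `σ`. -/
def Im (σ : Perm (Fin n)) : Set G :=
  {d | ∃ g : ↥E, C.ρ g = σ ∧ ∃ x ∈ mov p E, d = x⁻¹ * ((g : G) * x * (g : G)⁻¹)}

omit [Finite G] hp in
theorem Im_le {σ : Perm (Fin n)} {d : G} (h : d ∈ C.Im σ) : d ∈ mov p E := by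
  obtain ⟨g, -, x, hx, rfl⟩ := h
  exact mul_mem (inv_mem hx) (C.mov_mem_conj (Subgroup.le_normalizer g.2) hx)

omit [Finite G] hp in
theorem Im_mul (hS : Shape p E) {σ : Perm (Fin n)} {d d' : G} (h : d ∈ C.Im σ) (h' : d' ∈ C.Im σ) :
    d * d' ∈ C.Im σ := by
  obtain ⟨g, hg, x, hx, rfl⟩ := h
  obtain ⟨g', hg', y, hy, rfl⟩ := h'
  refine ⟨g, hg, x * y, mul_mem hx hy, ?_⟩
  rw [C.conj_eq_of_rho hS (e := g') (e' := g) (hg'.trans hg.symm) hy,
    show (g : G) * (x * y) * (g : G)⁻¹ = ((g : G) * x * (g : G)⁻¹) * ((g : G) * y * (g : G)⁻¹) by group]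
  have hgx := C.mov_mem_conj (Subgroup.le_normalizer g.2) hx
  have hgy := C.mov_mem_conj (Subgroup.le_normalizer g.2) hy
  rw [mul_inv_rev, C.comm (inv_mem hy) (inv_mem hx)]
  calc x⁻¹ * ((g : G) * x * (g : G)⁻¹) * (y⁻¹ * ((g : G) * y * (g : G)⁻¹))
      = x⁻¹ * (((g : G) * x * (g : G)⁻¹) * y⁻¹) * ((g : G) * y * (g : G)⁻¹) := by group
    _ = _ := by rw [C.comm hgx (inv_mem hy)]; group

omit [Finite G] hp in
theorem Im_conj {σ : Perm (Fin n)} {d : G} (h : d ∈ C.Im σ) (e : ↥E) :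
    (e : G) * d * (e : G)⁻¹ ∈ C.Im (C.ρ e * σ * (C.ρ e)⁻¹) := by
  obtain ⟨g, rfl, x, hx, rfl⟩ := h
  refine ⟨e * g * e⁻¹, by rw [map_mul, map_mul, map_inv], (e : G) * x * (e : G)⁻¹,
    C.mov_mem_conj (Subgroup.le_normalizer e.2) hx, ?_⟩
  push_cast
  group

omit [Finite G] hp in
theorem Im_inv {σ : Perm (Fin n)} {d : G} (h : d ∈ C.Im σ) : d ∈ C.Im σ⁻¹ := by
  have hd := C.Im_le h
  obtain ⟨g, rfl, x, hx, rfl⟩ := h
  have hgx := C.mov_mem_conj (Subgroup.le_normalizer g.2) hx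
  refine ⟨g⁻¹, map_inv _ _, (g : G) * x * (g : G)⁻¹, hgx, ?_⟩
  calc x⁻¹ * ((g : G) * x * (g : G)⁻¹) = (x⁻¹ * ((g : G) * x * (g : G)⁻¹))⁻¹ := (C.inv_self hd).symm
    _ = _ := by push_cast; group

omit [Finite G] hp in
/-- `[V, σ]` misses the centraliser when `σ³ = 1`. -/
theorem Im_fixed (hS : Shape p E) {σ : Perm (Fin n)} (hσ : σ * (σ * σ) = 1) {d : G} (h : d ∈ C.Im σ)
    (hd : C.c d = 0) : d = 1 := by
  have hdm := C.Im_le h
  have hdc := (C.c_zero d hdm).1 hd
  obtain ⟨g, rfl, x, hx, rfl⟩ := h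
  set d := x⁻¹ * ((g : G) * x * (g : G)⁻¹) with hdd
  have h1 : (g : G) * x * (g : G)⁻¹ = x * d := by rw [hdd, mul_inv_cancel_left]
  have hgd : (g : G) * d * (g : G)⁻¹ = d := by
    rw [Subgroup.mem_centralizer_iff.1 hdc (g : G) g.2, mul_inv_cancel_right]
  have h3 := C.fix_of_rho hS (e := g * (g * g)) (by rw [map_mul, map_mul]; exact hσ) hx
  push_cast at h3
  have h4 : (g : G) * ((g : G) * g) * x * ((g : G) * ((g : G) * g))⁻¹ = x * (d * (d * d)) := by
    calc (g : G) * ((g : G) * g) * x * ((g : G) * ((g : G) * g))⁻¹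
        = (g : G) * ((g : G) * ((g : G) * x * (g : G)⁻¹) * (g : G)⁻¹) * (g : G)⁻¹ := by group
      _ = (g : G) * ((g : G) * (x * d) * (g : G)⁻¹) * (g : G)⁻¹ := by rw [h1]
      _ = (g : G) * (((g : G) * x * (g : G)⁻¹) * ((g : G) * d * (g : G)⁻¹)) * (g : G)⁻¹ := by group
      _ = (g : G) * ((x * d) * d) * (g : G)⁻¹ := by rw [h1, hgd]
      _ = ((g : G) * x * (g : G)⁻¹) * ((g : G) * d * (g : G)⁻¹) * ((g : G) * d * (g : G)⁻¹) := by group
      _ = _ := by rw [hgd, h1]; group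
  rw [h4, C.sq_one hdm, mul_one, mul_eq_left] at h3
  exact h3

omit [Finite G] hp in
theorem exists_edge {a b c : Fin n} (hab : a ≠ b) (hac : a ≠ c) (hbc : b ≠ c) :
    ∃ d ∈ C.Im (cyc a b c), C.c d = e2 a b := by
  obtain ⟨g, hg⟩ : cyc a b c ∈ C.ρ.range := C.range ▸ cyc_mem hab hbc
  obtain ⟨x, hx, hcx⟩ := C.c_surj (e2 b c) (e2_sum b c)
  refine ⟨_, ⟨g, hg, x, hx, rfl⟩, ?_⟩
  rw [C.inv_self hx, C.c_mul _ hx _ (C.mov_mem_conj (Subgroup.le_normalizer g.2) hx),
    funext (C.c_conj g x hx), hcx, hg, e2_perm, (cyc_apply hab hac hbc).2.1, (cyc_apply hab hac hbc).2.2,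
    e2_comm b c, e2_comm c a]
  calc e2 c b + e2 a c = e2 a c + e2 c b := add_comm _ _
    _ = e2 a b := e2_add a c b

omit [Finite G] hp in
theorem edge_unique (hS : Shape p E) {σ : Perm (Fin n)} (hσ : σ * (σ * σ) = 1) {d d' : G}
    (h : d ∈ C.Im σ) (h' : d' ∈ C.Im σ) (he : C.c d = C.c d') : d = d' := by
  have h1 := C.Im_fixed hS hσ (C.Im_mul hS h h') (by
    rw [C.c_mul _ (C.Im_le h) _ (C.Im_le h'), he]
    funext i
    exact CharTwo.add_self_eq_zero (_ : ZMod 2))
  exact (mul_eq_one_iff_eq_inv.1 h1).trans (C.inv_self (C.Im_le h'))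

omit [Finite G] hp in
/-- The canonical lift of `e2 a b`. -/
theorem canon (hS : Shape p E) : ∃ f : Fin n → Fin n → G,
    (∀ a b, f a b ∈ mov p E ∧ C.c (f a b) = e2 a b) ∧
    (∀ a, f a a = 1) ∧ (∀ a b, f a b = f b a) ∧
    (∀ (e : ↥E) a b, (e : G) * f a b * (e : G)⁻¹ = f (C.ρ e a) (C.ρ e b)) ∧
    ∀ a b c, f a b * f b c = f a c := by
  classical
  have hn := C.big
  have hW : ∀ a b c : Fin n, ∃ d, a ≠ b → a ≠ c → b ≠ c → d ∈ C.Im (cyc a b c) ∧ C.c d = e2 a b := by
    intro a b c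
    by_cases h : a ≠ b ∧ a ≠ c ∧ b ≠ c
    · obtain ⟨d, hd, hd'⟩ := C.exists_edge h.1 h.2.1 h.2.2
      exact ⟨d, fun _ _ _ => ⟨hd, hd'⟩⟩
    · exact ⟨1, fun h1 h2 h3 => absurd ⟨h1, h2, h3⟩ h⟩
  choose w hw using hW
  have hsym : ∀ a b c, a ≠ b → a ≠ c → b ≠ c → w a b c = w b a c := by
    intro a b c h1 h2 h3
    obtain ⟨m1, m2⟩ := hw a b c h1 h2 h3
    obtain ⟨n1, n2⟩ := hw b a c h1.symm h3 h2
    rw [cyc_swap h1 h2 h3] at n1
    exact C.edge_unique hS (cyc_cube h1 h2 h3) m1 (by simpa using C.Im_inv n1) (by rw [m2, n2, e2_comm])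
  have heq : ∀ (e : ↥E) a b c, a ≠ b → a ≠ c → b ≠ c →
      (e : G) * w a b c * (e : G)⁻¹ = w (C.ρ e a) (C.ρ e b) (C.ρ e c) := by
    intro e a b c h1 h2 h3
    obtain ⟨m1, m2⟩ := hw a b c h1 h2 h3
    set σ := C.ρ e with hσ
    obtain ⟨n1, n2⟩ := hw (σ a) (σ b) (σ c) (σ.injective.ne h1) (σ.injective.ne h2) (σ.injective.ne h3)
    have hcyc : σ * cyc a b c * σ⁻¹ = cyc (σ a) (σ b) (σ c) := by
      simp only [cyc, swap_apply_apply]
      group
    refine C.edge_unique hS (cyc_cube (σ.injective.ne h1) (σ.injective.ne h2) (σ.injective.ne h3))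
      (hcyc ▸ C.Im_conj m1 e) n1 ?_
    rw [funext (C.c_conj e _ (C.Im_le m1)), m2, n2, e2_perm]
  have hindep : ∀ a b c d, a ≠ b → c ≠ a → c ≠ b → d ≠ a → d ≠ b → w a b c = w a b d := by
    intro a b d k hab hda hdb hka hkb
    by_cases hdk : d = k
    · rw [hdk]
    obtain ⟨c, hc⟩ : ∃ c, c ∉ ({a, b, d, k} : Finset (Fin n)) := by
      by_contra h
      push Not at h
      have := (Finset.card_le_card (fun l _ => h l : (Finset.univ : Finset (Fin n)) ⊆ {a, b, d, k})).trans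
        Finset.card_le_four
      rw [Finset.card_univ, Fintype.card_fin] at this
      omega
    simp only [Finset.mem_insert, Finset.mem_singleton, not_or, ← ne_eq] at hc
    obtain ⟨hca, hcb, hcd, hck⟩ := hc
    have hτ : swap a b * swap d k ∈ C.ρ.range := by
      rw [C.range, Perm.mem_alternatingGroup, map_mul, Perm.sign_swap hab, Perm.sign_swap hdk]; rfl
    obtain ⟨e, he⟩ := hτ
    have ha : C.ρ e a = b := by rw [he, Perm.mul_apply, swap_apply_of_ne_of_ne hda.symm hka.symm, swap_apply_left]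
    have hb : C.ρ e b = a := by
      rw [he, Perm.mul_apply, swap_apply_of_ne_of_ne hdb.symm hkb.symm, swap_apply_right]
    have hd' : C.ρ e d = k := by
      rw [he, Perm.mul_apply, swap_apply_left, swap_apply_of_ne_of_ne hka hkb]
    have hc' : C.ρ e c = c := by
      rw [he, Perm.mul_apply, swap_apply_of_ne_of_ne hcd hck, swap_apply_of_ne_of_ne hca hcb]
    obtain ⟨m1, m2⟩ := hw a b c hab hca.symm hcb.symm
    obtain ⟨d1, d2⟩ := hw a b d hab hda.symm hdb.symm
    have hz : w a b c * w a b d ∈ Subgroup.centralizer (E : Set G) :=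
      (C.c_zero _ (mul_mem (C.Im_le m1) (C.Im_le d1))).1 (by
        rw [C.c_mul _ (C.Im_le m1) _ (C.Im_le d1), m2, d2]
        funext i
        exact CharTwo.add_self_eq_zero (_ : ZMod 2))
    have h1 : (e : G) * (w a b c * w a b d) * (e : G)⁻¹ = w a b c * w a b d := by
      rw [Subgroup.mem_centralizer_iff.1 hz (e : G) e.2, mul_inv_cancel_right]
    rw [← conj_mul, heq e a b c hab hca.symm hcb.symm, heq e a b d hab hda.symm hdb.symm, ha, hb, hc', hd',
      ← hsym a b c hab hca.symm hcb.symm, ← hsym a b k hab hka.symm hkb.symm, mul_right_inj] at h1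
    exact h1.symm
  have hpick : ∀ a b : Fin n, ∃ c, c ≠ a ∧ c ≠ b := fun a b => by
    obtain ⟨c, h1, h2, -⟩ := exists_ne_three (by omega) a b b
    exact ⟨c, h1, h2⟩
  choose t ht1 ht2 using hpick
  let f : Fin n → Fin n → G := fun a b => if a = b then 1 else w a b (t a b)
  have hfe : ∀ {a b : Fin n} {c : Fin n}, a ≠ b → c ≠ a → c ≠ b → f a b = w a b c := fun {a b c} h h1 h2 => by
    rw [show f a b = w a b (t a b) from if_neg h]
    exact hindep a b _ c h (ht1 a b) (ht2 a b) h1 h2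
  have hf1 : ∀ a, f a a = 1 := fun a => if_pos rfl
  refine ⟨f, fun a b => ?_, hf1, fun a b => ?_, fun e a b => ?_, fun a b c => ?_⟩
  · by_cases h : a = b
    · rw [h, hf1, C.c_one, e2_self]; exact ⟨one_mem _, rfl⟩
    · rw [hfe h (ht1 a b) (ht2 a b)]
      obtain ⟨m1, m2⟩ := hw a b _ h (ht1 a b).symm (ht2 a b).symm
      exact ⟨C.Im_le m1, m2⟩
  · by_cases h : a = b
    · rw [h]
    · rw [hfe h (ht1 a b) (ht2 a b), hfe (Ne.symm h) (ht2 a b) (ht1 a b)]
      exact hsym _ _ _ h (ht1 a b).symm (ht2 a b).symm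
  · by_cases h : a = b
    · rw [h, hf1, hf1, mul_one, mul_inv_cancel]
    · rw [hfe h (ht1 a b) (ht2 a b), heq e a b _ h (ht1 a b).symm (ht2 a b).symm,
        hfe ((C.ρ e).injective.ne h) ((C.ρ e).injective.ne (ht1 a b)) ((C.ρ e).injective.ne (ht2 a b))]
  · by_cases hab : a = b
    · rw [hab, hf1, one_mul]
    by_cases hbc : b = c
    · rw [hbc, hf1, mul_one]
    by_cases hac : a = c
    · subst hac
      rw [hfe hab (ht1 a b) (ht2 a b), hfe (Ne.symm hab) (ht2 a b) (ht1 a b),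
        ← hsym _ _ _ hab (ht1 a b).symm (ht2 a b).symm, hf1]
      exact C.sq_one (C.Im_le (hw a b _ hab (ht1 a b).symm (ht2 a b).symm).1)
    rw [hfe hab (Ne.symm hac) (Ne.symm hbc), hfe hbc hab hac, hfe hac (Ne.symm hab) hbc]
    obtain ⟨m1, m2⟩ := hw a b c hab hac hbc
    obtain ⟨n1, n2⟩ := hw b c a hbc (Ne.symm hab) (Ne.symm hac)
    obtain ⟨r1, r2⟩ := hw a c b hac hab (Ne.symm hbc)
    rw [cyc_rot hab hac hbc] at n1
    have hr : cyc a c b = (cyc a b c)⁻¹ := by
      rw [← cyc_rot hac hab (Ne.symm hbc), cyc_swap hbc (Ne.symm hab) (Ne.symm hac), cyc_rot hab hac hbc]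
    rw [hr] at r1
    refine C.edge_unique hS (cyc_cube hab hac hbc) (C.Im_mul hS m1 n1) (by simpa using C.Im_inv r1) ?_
    rw [C.c_mul _ (C.Im_le m1) _ (C.Im_le n1), m2, n2, r2, e2_add]

omit [Finite G] hp in
/-- `C(E)` meets `[V, E]` trivially. -/
theorem disj (hS : Shape p E) : mov p E ⊓ Subgroup.centralizer (E : Set G) = ⊥ := by
  classical
  obtain ⟨f, hf, -, hf2, hfE, hf3⟩ := C.canon hS
  set o : Fin n := ⟨0, by have := C.big; omega⟩ with ho
  letI : CommGroup ↥(mov p E) :=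
    { (inferInstance : Group ↥(mov p E)) with mul_comm := fun x y => Subtype.ext (C.comm x.2 y.2) }
  let F : Fin n → ↥(mov p E) := fun a => ⟨f o a, (hf o a).1⟩
  let s : (Fin n → ZMod 2) → ↥(mov p E) := fun v => ∏ a, F a ^ (v a).val
  have hsq : ∀ x : ↥(mov p E), x * x = 1 := fun x => Subtype.ext (C.sq_one x.2)
  have hval : ∀ x y : ZMod 2, ∀ m : ↥(mov p E), m ^ (x + y).val = m ^ x.val * m ^ y.val := by
    intro x y m
    rcases Block.zmod_two_cases x with rfl | rfl <;> rcases Block.zmod_two_cases y with rfl | rfl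
    · simp
    · simp
    · simp
    · rw [show ((1 : ZMod 2) + 1).val = 0 from rfl, show (1 : ZMod 2).val = 1 from rfl, pow_zero, pow_one,
        hsq]
  have hs_add : ∀ u v, s (u + v) = s u * s v := fun u v => by
    simp only [s, Pi.add_apply, hval, Finset.prod_mul_distrib]
  have hs_single : ∀ a, s (Pi.single a 1) = F a := fun a => by
    show ∏ l, F l ^ ((Pi.single a (1 : ZMod 2) : Fin n → ZMod 2) l).val = F a
    rw [Finset.prod_eq_single a (fun l _ hl => by simp [hl]) (by simp), Pi.single_eq_same,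
      show (1 : ZMod 2).val = 1 from rfl, pow_one]
  have hcs : ∀ v l, l ≠ o → C.c ((s v : ↥(mov p E)) : G) l = v l := by
    intro v l hl
    let χ : ↥(mov p E) →* Multiplicative (ZMod 2) :=
      { toFun := fun x => Multiplicative.ofAdd (C.c (x : G) l)
        map_one' := by rw [Subgroup.coe_one, C.c_one]; rfl
        map_mul' := fun x y => by
          rw [Subgroup.coe_mul, C.c_mul _ x.2 _ y.2]; rfl }
    show Multiplicative.toAdd (χ (s v)) = v l
    rw [map_prod, toAdd_prod, Finset.sum_eq_single l]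
    · rw [map_pow, toAdd_pow]
      show (v l).val • C.c (f o l) l = v l
      rw [(hf o l).2, e2_comm, e2_left hl, nsmul_one, ZMod.natCast_zmod_val]
    · intro b _ hb
      rw [map_pow, toAdd_pow]
      show (v b).val • C.c (f o b) l = 0
      rw [(hf o b).2, e2_apply_ne hl (Ne.symm hb), smul_zero]
    · simp
  -- the lifts form a subgroup covering the quotient
  let M : Subgroup G :=
    { carrier := {x | ∃ v, ((s v : ↥(mov p E)) : G) = x}
      one_mem' := ⟨0, by simp [s]⟩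
      mul_mem' := by
        rintro _ _ ⟨u, rfl⟩ ⟨v, rfl⟩
        exact ⟨u + v, by rw [hs_add, Subgroup.coe_mul]⟩
      inv_mem' := by
        rintro _ ⟨u, rfl⟩
        exact ⟨u, (C.inv_self (s u).2).symm⟩ }
  have hMmov : M ≤ mov p E := by rintro _ ⟨u, rfl⟩; exact (s u).2
  have hfM : ∀ a b, f a b ∈ M := fun a b => by
    rw [← hf3 a o b, hf2 a o]
    exact mul_mem ⟨_, congrArg Subtype.val (hs_single a)⟩ ⟨_, congrArg Subtype.val (hs_single b)⟩
  have hMconj : ∀ e : ↥E, ∀ x ∈ M, (e : G) * x * (e : G)⁻¹ ∈ M := by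
    rintro e _ ⟨u, rfl⟩
    let S' : Subgroup ↥(mov p E) := (M.comap (MulAut.conj (e : G)).toMonoidHom).subgroupOf (mov p E)
    suffices h : s u ∈ S' from h
    refine Subgroup.prod_mem _ fun a _ => pow_mem ?_ _
    show (e : G) * f o a * (e : G)⁻¹ ∈ M
    rw [hfE]
    exact hfM _ _
  have hcov : ∀ x ∈ mov p E, ∃ m ∈ M, m⁻¹ * x ∈ Subgroup.centralizer (E : Set G) := by
    intro x hx
    refine ⟨((s (C.c x) : ↥(mov p E)) : G), ⟨_, rfl⟩, ?_⟩
    refine (C.c_zero _ (mul_mem (inv_mem (s _).2) hx)).1 ?_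
    rw [C.inv_self (s _).2, C.c_mul _ (s _).2 _ hx]
    have hne : ∀ l, l ≠ o → C.c ((s (C.c x) : ↥(mov p E)) : G) l + C.c x l = 0 := fun l hl => by
      rw [hcs _ l hl]
      exact CharTwo.add_self_eq_zero (_ : ZMod 2)
    funext l
    by_cases hl : l = o
    · have he := C.c_even _ (mul_mem (s (C.c x)).2 hx)
      simp only [C.c_mul _ (s _).2 _ hx, Pi.add_apply] at he
      rw [Finset.sum_eq_single o (fun b _ hb => hne b hb) (by simp)] at he
      rw [hl]
      exact he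
    · exact hne l hl
  have hmov : mov p E ≤ M := by
    rw [← hS.movE]
    refine Subgroup.commutator_le.2 fun x hx e he => ?_
    obtain ⟨m, hm, hz⟩ := hcov x hx
    have hze : e * (m⁻¹ * x) * e⁻¹ = m⁻¹ * x := by
      rw [Subgroup.mem_centralizer_iff.1 hz e he, mul_inv_cancel_right]
    have e1 : ⁅x, e⁆ = m * (e * m⁻¹ * e⁻¹) := by
      have hm' : e * m⁻¹ * e⁻¹ ∈ mov p E :=
        hMmov (hMconj ⟨e, he⟩ m⁻¹ (inv_mem hm))
      calc ⁅x, e⁆ = m * (m⁻¹ * x) * (e * (m⁻¹ * x) * e⁻¹)⁻¹ * (e * m⁻¹ * e⁻¹) := by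
            simp only [commutatorElement_def]; group
        _ = _ := by rw [hze, mul_inv_cancel_right]
    rw [e1]
    exact mul_mem hm (hMconj ⟨e, he⟩ _ (inv_mem hm))
  rw [Subgroup.eq_bot_iff_forall]
  rintro z ⟨hz, hzc⟩
  obtain ⟨v, rfl⟩ := hmov hz
  have h0 : ∀ l, l ≠ o → v l = 0 := fun l hl => by
    rw [← hcs v l hl, (C.c_zero _ hz).2 hzc]; rfl
  have : s v = 1 := Finset.prod_eq_one fun a _ => by
    by_cases ha : a = o
    · subst ha
      have hFo : F o = 1 := Subtype.ext (mul_eq_left.1 (hf3 o o o))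
      rw [hFo, one_pow]
    · rw [h0 a ha, ZMod.val_zero, pow_zero]
  rw [this]; rfl

omit [Finite G] hp in
theorem Im_supp {σ : Perm (Fin n)} {d : G} (hd : d ∈ C.Im σ) {l : Fin n} (hl : σ l = l) :
    C.c d l = 0 := by
  obtain ⟨e, rfl, x, hx, rfl⟩ := hd
  rw [C.inv_self hx, C.c_mul _ hx _ (C.mov_mem_conj (Subgroup.le_normalizer e.2) hx), Pi.add_apply,
    C.c_conj e x hx, show (C.ρ e)⁻¹ l = l from Equiv.Perm.inv_eq_iff_eq.2 hl.symm]
  exact CharTwo.add_self_eq_zero (_ : ZMod 2)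

omit [Finite G] hp in
theorem Im_cyc {a b c : Fin n} (hab : a ≠ b) (hac : a ≠ c) (hbc : b ≠ c) {d : G}
    (hd : d ∈ C.Im (cyc a b c)) :
    C.c d = 0 ∨ C.c d = e2 a b ∨ C.c d = e2 b c ∨ C.c d = e2 a c := by
    set v := C.c d with hv
    have hz : ∀ l, l ≠ a → l ≠ b → l ≠ c → v l = 0 := fun l h1 h2 h3 => C.Im_supp hd (cyc_apply_ne h1 h2 h3)
    have hsum : v a + v b + v c = 0 := by
      rw [← C.c_even d (C.Im_le hd), ← hv]
      symm
      rw [← Finset.sum_subset (Finset.subset_univ ({a, b, c} : Finset (Fin n)))]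
      · rw [Finset.sum_insert (by simp [hab, hac]), Finset.sum_pair hbc, add_assoc]
      · intro l _ hl
        simp only [Finset.mem_insert, Finset.mem_singleton, not_or] at hl
        exact hz l hl.1 hl.2.1 hl.2.2
    have hcases : ∀ x y z : ZMod 2, x + y + z = 0 →
        (x = 0 ∧ y = 0 ∧ z = 0) ∨ (x = 1 ∧ y = 1 ∧ z = 0) ∨ (x = 0 ∧ y = 1 ∧ z = 1) ∨
          (x = 1 ∧ y = 0 ∧ z = 1) := by decide
    have hext : ∀ w : Fin n → ZMod 2, (∀ l, l ≠ a → l ≠ b → l ≠ c → w l = 0) → v a = w a → v b = w b →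
        v c = w c → v = w := fun w hw ha hb hc => funext fun l => by
      by_cases h1 : l = a
      · rw [h1]; exact ha
      by_cases h2 : l = b
      · rw [h2]; exact hb
      by_cases h3 : l = c
      · rw [h3]; exact hc
      rw [hz l h1 h2 h3, hw l h1 h2 h3]
    rcases hcases _ _ _ hsum with ⟨ha, hb, hc⟩ | ⟨ha, hb, hc⟩ | ⟨ha, hb, hc⟩ | ⟨ha, hb, hc⟩
    · exact Or.inl (hext 0 (fun _ _ _ _ => rfl) ha hb hc)
    · exact Or.inr (Or.inl (hext _ (fun l h1 h2 _ => e2_apply_ne h1 h2) (by rw [ha, e2_left hab])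
        (by rw [hb, e2_comm, e2_left hab.symm]) (by rw [hc, e2_apply_ne hac.symm hbc.symm])))
    · exact Or.inr (Or.inr (Or.inl (hext _ (fun l _ h2 h3 => e2_apply_ne h2 h3)
        (by rw [ha, e2_apply_ne hab hac]) (by rw [hb, e2_left hbc])
        (by rw [hc, e2_comm, e2_left hbc.symm]))))
    · exact Or.inr (Or.inr (Or.inr (hext _ (fun l h1 _ h3 => e2_apply_ne h1 h3) (by rw [ha, e2_left hac])
        (by rw [hb, e2_apply_ne hab.symm hbc]) (by rw [hc, e2_comm, e2_left hac.symm]))))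

/-- Vectors lying in a short `[V, σ]`, `σ³ = 1`. -/
def Sh (v : Fin n → ZMod 2) : Prop := v ≠ 0 ∧ ∃ σ : Perm (Fin n), σ * (σ * σ) = 1 ∧
  ∃ S : Finset (Fin n → ZMod 2), S.card ≤ 4 ∧ (∀ d ∈ C.Im σ, C.c d ∈ S) ∧ ∃ d ∈ C.Im σ, C.c d = v

omit [Finite G] hp in
theorem sh_iff (v : Fin n → ZMod 2) : C.Sh v ↔ ∃ a b, a ≠ b ∧ v = e2 a b := by
    classical
    have hn := C.big
    constructor
    · rintro ⟨hv, σ, hσ, S, hcard, hS', d, hd, rfl⟩
      by_cases hσ1 : ∀ l, σ l = l
      · exact absurd (funext fun l => C.Im_supp hd (hσ1 l)) hv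
      push Not at hσ1
      obtain ⟨a, ha⟩ := hσ1
      set b := σ a with hb
      set c := σ b with hc
      have hca : σ c = a := Equiv.Perm.congr_fun hσ a
      have hab : a ≠ b := Ne.symm ha
      have hbc : b ≠ c := fun h => hab (σ.injective h)
      have hac : a ≠ c := fun h => hbc (σ.injective (show σ b = σ c by rw [hca]; exact h.symm))
      have hσr : σ ∈ C.ρ.range := by
        obtain ⟨g', hg', -⟩ := hd
        exact ⟨g', hg'⟩
      obtain ⟨g', hg'⟩ := hσr
      have hmk : ∀ i j, i ≠ j → e2 i j + e2 (σ i) (σ j) ∈ S := by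
        intro i j hij
        obtain ⟨x, hx, hcx⟩ := C.c_surj _ (e2_sum i j)
        have h1 := hS' _ ⟨g', hg', x, hx, rfl⟩
        rwa [C.inv_self hx, C.c_mul _ hx _ (C.mov_mem_conj (Subgroup.le_normalizer g'.2) hx),
          funext (C.c_conj g' x hx), hcx, hg', e2_perm] at h1
      have e_ac : e2 a c ∈ S := by
        have := hmk a b hab
        rwa [← hb, ← hc, e2_add] at this
      have e_ab : e2 b a ∈ S := by
        have := hmk b c hbc
        rwa [← hc, hca, e2_add] at this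
      have e_bc : e2 c b ∈ S := by
        have := hmk c a hac.symm
        rwa [hca, ← hb, e2_add] at this
      have e_0 : (0 : Fin n → ZMod 2) ∈ S := by
        have := hS' 1 ⟨g', hg', 1, one_mem _, by simp⟩
        rwa [C.c_one] at this
      have hfix : ∀ l, l ≠ a → l ≠ b → l ≠ c → σ l = l := by
        intro l h1 h2 h3
        by_contra hl
        have hla : σ l ≠ a := fun h => h3 (σ.injective (h.trans hca.symm))
        have e5 : e2 a l + e2 b (σ l) ∈ S := by
          have := hmk a l (Ne.symm h1)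
          rwa [← hb] at this
        set v5 := e2 a l + e2 b (σ l) with hv5
        have h5 : v5 l = 1 := by
          rw [hv5, Pi.add_apply, e2_comm a l, e2_left h1, e2_apply_ne h2 (Ne.symm hl), add_zero]
        have hsub : ({0, e2 a c, e2 b a, e2 c b, v5} : Finset (Fin n → ZMod 2)) ⊆ S := by
          simp [Finset.insert_subset_iff, e_0, e_ac, e_ab, e_bc, e5]
        have hne0 : ∀ {i j : Fin n}, i ≠ j → (0 : Fin n → ZMod 2) ≠ e2 i j := fun h => (e2_ne h).symm
        have n1 : e2 a c ≠ e2 b a := fun h => by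
          rcases e2_eq_iff hac h with ⟨h', -⟩ | ⟨-, h'⟩
          exacts [hab h', hbc h'.symm]
        have n2 : e2 a c ≠ e2 c b := fun h => by
          rcases e2_eq_iff hac h with ⟨h', -⟩ | ⟨h', -⟩
          exacts [hac h', hab h']
        have n3 : e2 b a ≠ e2 c b := fun h => by
          rcases e2_eq_iff hab.symm h with ⟨h', -⟩ | ⟨-, h'⟩
          exacts [hbc h', hac h']
        have m : ∀ {i j : Fin n}, l ≠ i → l ≠ j → v5 ≠ e2 i j := fun hi hj h => by
          rw [h, e2_apply_ne hi hj] at h5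
          exact zero_ne_one h5
        have m0 : v5 ≠ 0 := fun h => by rw [h] at h5; exact zero_ne_one h5
        have hc5 : ({0, e2 a c, e2 b a, e2 c b, v5} : Finset (Fin n → ZMod 2)).card = 5 := by
          rw [Finset.card_insert_of_notMem, Finset.card_insert_of_notMem, Finset.card_insert_of_notMem,
            Finset.card_pair]
          · exact (m h3 h2).symm
          · simp [n3, (m h2 h1).symm]
          · simp [n1, n2, (m h1 h3).symm]
          · simp [hne0 hac, hne0 hab.symm, hne0 hbc.symm, Ne.symm m0]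
        have := Finset.card_le_card hsub
        omega
      have hσc : σ = cyc a b c := by
        obtain ⟨h1, h2, h3⟩ := cyc_apply hab hac hbc
        refine Equiv.ext fun l => ?_
        by_cases e1 : l = a
        · rw [e1, h1]
        by_cases e2 : l = b
        · rw [e2, h2]
        by_cases e3 : l = c
        · rw [e3, h3, hca]
        rw [hfix l e1 e2 e3, cyc_apply_ne e1 e2 e3]
      rcases C.Im_cyc hab hac hbc (hσc ▸ hd) with h | h | h | h
      exacts [absurd h hv, ⟨a, b, hab, h⟩, ⟨b, c, hbc, h⟩, ⟨a, c, hac, h⟩]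
    · rintro ⟨a, b, hab, rfl⟩
      obtain ⟨c, hca, hcb, -⟩ := exists_ne_three (by omega) a b b
      refine ⟨e2_ne hab, cyc a b c, cyc_cube hab hca.symm hcb.symm, {0, e2 a b, e2 b c, e2 a c},
        Finset.card_le_four, fun d hd => ?_, C.exists_edge hab hca.symm hcb.symm⟩
      rcases C.Im_cyc hab hca.symm hcb.symm hd with h | h | h | h <;> simp [h]

/-- An element normalising `E` permutes the points. -/
theorem exists_perm (hS : Shape p E) {g : G} (hg : g ∈ Subgroup.normalizer (E : Set G)) :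
    ∃ π : Perm (Fin n), ∀ x ∈ mov p E, ∀ l, C.c (g * x * g⁻¹) l = C.c x (π⁻¹ l) := by
  classical
  have hn := C.big
  have hd := C.disj hS
  have hinj : ∀ x ∈ mov p E, ∀ y ∈ mov p E, C.c x = C.c y → x = y := fun x hx y hy h => by
    have h1 : x * y ∈ mov p E ⊓ Subgroup.centralizer (E : Set G) := Subgroup.mem_inf.2 ⟨mul_mem hx hy,
      (C.c_zero _ (mul_mem hx hy)).1 (by
        rw [C.c_mul x hx y hy, h]; funext i; exact CharTwo.add_self_eq_zero (_ : ZMod 2))⟩
    rw [hd, Subgroup.mem_bot, mul_eq_one_iff_eq_inv, C.inv_self hy] at h1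
    exact h1
  choose x0 hx0 hcx0 using C.c_surj
  have hEn : ∀ e ∈ E, g * e * g⁻¹ ∈ E := fun e he => (Subgroup.mem_normalizer_iff.1 hg e).1 he
  have hmn : ∀ x ∈ mov p E, g * x * g⁻¹ ∈ mov p E := fun x hx => C.mov_mem_conj hg hx
  -- the linear map induced by `g`
  let T : (Fin n → ZMod 2) → Fin n → ZMod 2 := fun v =>
    if h : ∑ i, v i = 0 then C.c (g * x0 v h * g⁻¹) else 0
  have hT : ∀ x ∈ mov p E, T (C.c x) = C.c (g * x * g⁻¹) := fun x hx => by
    show dite _ _ _ = _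
    rw [dif_pos (C.c_even x hx), hinj _ (hx0 _ (C.c_even x hx)) x hx (hcx0 _ _)]
  have hTinj : ∀ x ∈ mov p E, ∀ y ∈ mov p E, T (C.c x) = T (C.c y) → x = y := fun x hx y hy h => by
    rw [hT x hx, hT y hy] at h
    have h2 := hinj _ (hmn x hx) _ (hmn y hy) h
    exact mul_left_cancel (mul_right_cancel h2)
  have hT0 : T 0 = 0 := by
    have := hT 1 (one_mem _)
    rwa [C.c_one, mul_one, mul_inv_cancel, C.c_one] at this
  have hTadd : ∀ u v, ∑ i, u i = 0 → ∑ i, v i = 0 → T (u + v) = T u + T v := by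
    intro u v hu hv
    obtain ⟨x, hx, rfl⟩ := C.c_surj u hu
    obtain ⟨y, hy, rfl⟩ := C.c_surj v hv
    rw [← C.c_mul x hx y hy, hT _ (mul_mem hx hy), hT x hx, hT y hy, ← conj_mul,
      C.c_mul _ (hmn x hx) _ (hmn y hy)]
  have hTSh : ∀ v, C.Sh v → C.Sh (T v) := by
    rintro v ⟨hv, σ, hσ, S, hcard, hS', d, hd, rfl⟩
    refine ⟨fun h => hv ?_, ?_⟩
    · have h1 := hTinj d (C.Im_le hd) 1 (one_mem _) (by rw [h, C.c_one, hT0])
      rw [h1, C.c_one]
    obtain ⟨e, rfl, y, hy, rfl⟩ := hd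
    let e' : ↥E := ⟨g * (e : G) * g⁻¹, hEn _ e.2⟩
    refine ⟨C.ρ e', ?_, S.image T, Finset.card_image_le.trans hcard, ?_, ?_⟩
    · have h1 : ((e * (e * e) : ↥E) : G) ∈ pCoreOf p E := (C.ker _).1 (by rw [map_mul, map_mul]; exact hσ)
      rw [← map_mul, ← map_mul, C.ker]
      push_cast
      have h2 := (Subgroup.mem_normalizer_iff.1 (normalizer_Q hS le_rfl hg) _).1 h1
      push_cast at h2
      rwa [show g * (e : G) * g⁻¹ * (g * (e : G) * g⁻¹ * (g * (e : G) * g⁻¹)) =
        g * ((e : G) * ((e : G) * e)) * g⁻¹ by group]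
    · rintro _ ⟨k, hk, x, hx, rfl⟩
      have hx' : g⁻¹ * x * g ∈ mov p E := by simpa using C.mov_mem_conj (inv_mem hg) hx
      have hin : (g⁻¹ * x * g)⁻¹ * ((e : G) * (g⁻¹ * x * g) * (e : G)⁻¹) ∈ C.Im (C.ρ e) :=
        ⟨e, rfl, _, hx', rfl⟩
      refine Finset.mem_image.2 ⟨_, hS' _ hin, ?_⟩
      rw [hT _ (C.Im_le hin), C.conj_eq_of_rho hS hk hx]
      congr 1
      show _ = x⁻¹ * ((g * (e : G) * g⁻¹) * x * (g * (e : G) * g⁻¹)⁻¹)
      group
    · refine ⟨_, ⟨e', rfl, g * y * g⁻¹, hmn y hy, rfl⟩, ?_⟩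
      rw [hT _ (C.Im_le ⟨e, rfl, y, hy, rfl⟩)]
      congr 1
      show (g * y * g⁻¹)⁻¹ * (g * (e : G) * g⁻¹ * (g * y * g⁻¹) * (g * (e : G) * g⁻¹)⁻¹) = _
      group
  obtain ⟨P0, hP0⟩ := perm_of_edges hn T hT0 hTadd
    (fun u v hu hv h => by
      obtain ⟨x, hx, rfl⟩ := C.c_surj u hu
      obtain ⟨y, hy, rfl⟩ := C.c_surj v hv
      rw [hTinj x hx y hy h])
    (fun a b h => (C.sh_iff _).1 (hTSh _ ((C.sh_iff _).2 ⟨a, b, h, rfl⟩)))
  exact ⟨P0, fun x hx l => by rw [← hT x hx, hP0 _ (C.c_even x hx)]⟩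

/-- An element of odd order normalising `E` acts on `[V, E]` like an element of `E`. -/
theorem exists_inner (hS : Shape p E) {g : G} (hg : g ∈ Subgroup.normalizer (E : Set G))
    (ho : (orderOf g).Coprime p) :
    ∃ e ∈ E, ∀ x ∈ mov p E, e * x * e⁻¹ = g * x * g⁻¹ := by
  classical
  have hn := C.big
  obtain ⟨π, hπ⟩ := C.exists_perm hS hg
  have hd := C.disj hS
  have hpow : ∀ k : ℕ, ∀ x ∈ mov p E, ∀ l, C.c (g ^ k * x * (g ^ k)⁻¹) l = C.c x ((π ^ k)⁻¹ l) := by
    intro k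
    induction k with
    | zero => intro x _ l; simp
    | succ k ih =>
      intro x hx l
      rw [show g ^ (k + 1) * x * (g ^ (k + 1))⁻¹ = g * (g ^ k * x * (g ^ k)⁻¹) * g⁻¹ by
        rw [pow_succ']; group, hπ _ (C.mov_mem_conj (pow_mem hg k) hx), ih x hx, pow_succ', mul_inv_rev,
        Perm.mul_apply]
  have hπ1 : π ^ orderOf g = 1 := by
    by_contra hne
    obtain ⟨v, hv, hne'⟩ := perm_witness (show 3 ≤ n by omega) hne
    obtain ⟨x, hx, rfl⟩ := C.c_surj v hv
    refine hne' (funext fun l => ?_)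
    rw [← hpow (orderOf g) x hx l, pow_orderOf_eq_one]
    simp
  have heven : π ∈ C.ρ.range := by
    rw [C.range, Perm.mem_alternatingGroup]
    rcases Int.units_eq_one_or (Perm.sign π) with h | h
    · exact h
    exfalso
    have h1 := congrArg Perm.sign hπ1
    rw [map_pow, map_one, h] at h1
    have hodd : Odd (orderOf g) := by
      rw [C.two] at ho
      exact Nat.coprime_two_right.1 ho
    rw [hodd.neg_one_pow] at h1
    exact absurd h1 (by decide)
  obtain ⟨e, he⟩ := heven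
  refine ⟨e, e.2, fun x hx => ?_⟩
  have h1 : (e : G) * x * (e : G)⁻¹ ∈ mov p E := C.mov_mem_conj (Subgroup.le_normalizer e.2) hx
  have h2 : g * x * g⁻¹ ∈ mov p E := C.mov_mem_conj hg hx
  have h3 : ((e : G) * x * (e : G)⁻¹) * (g * x * g⁻¹) ∈ mov p E ⊓ Subgroup.centralizer (E : Set G) :=
    Subgroup.mem_inf.2 ⟨mul_mem h1 h2, (C.c_zero _ (mul_mem h1 h2)).1 (by
      rw [C.c_mul _ h1 _ h2]
      funext l
      rw [Pi.add_apply, C.c_conj e x hx, hπ x hx, he]
      exact CharTwo.add_self_eq_zero (_ : ZMod 2))⟩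
  rw [hd, Subgroup.mem_bot, mul_eq_one_iff_eq_inv, C.inv_self h2] at h3
  exact h3

end AltCo

end Cfsg.Agent.LocalEven.BlockNormal
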