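import Cfsg.Agent.Lib.LocalEven.Subnormal.Main

/-!
# Coordinates on `[V, E] / C(E)` for a subnormal block

`[V, E]` modulo the centraliser of `E` is a natural module for `SL₂(q)` with `q ≥ 4`, the even weight
module of an alternating group of odd degree at least 5, or `E` is one of the two small blocks.
-/

set_option autoImplicit false

open scoped commutatorElement

namespace Cfsg.Agent.LocalEven.BlockNormal

open Cfsg Cfsg.Agent.Fusion Cfsg.Agent.LocalEven.Block Cfsg.Agent.LocalEven.SubnBlock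

variable {G : Type*} [Group G]

/-- Natural coordinates. -/
structure LinCo (p : ℕ) (E : Subgroup G) (F : Type) [Field F] [Fintype F] where
  ρ : ↥E →* Matrix.SpecialLinearGroup (Fin 2) F
  c : G → Fin 2 → F
  big : 4 ≤ Fintype.card F
  card : ∃ n, Fintype.card F = p ^ n
  surj : Function.Surjective ρ
  ker : ∀ e : ↥E, ρ e = 1 ↔ (e : G) ∈ pCoreOf p E
  c_mul : ∀ x ∈ mov p E, ∀ y ∈ mov p E, c (x * y) = c x + c y
  c_surj : ∀ v, ∃ x ∈ mov p E, c x = v
  c_zero : ∀ x ∈ mov p E, c x = 0 ↔ x ∈ Subgroup.centralizer (E : Set G)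
  c_conj : ∀ e : ↥E, ∀ x ∈ mov p E,
    c ((e : G) * x * (e : G)⁻¹) = (ρ e : Matrix (Fin 2) (Fin 2) F).mulVec (c x)

/-- Even weight coordinates. -/
structure AltCo (p : ℕ) (E : Subgroup G) (n : ℕ) where
  ρ : ↥E →* Equiv.Perm (Fin n)
  c : G → Fin n → ZMod 2
  two : p = 2
  odd : ∃ m, n = 2 * m + 1
  big : 5 ≤ n
  range : ρ.range = alternatingGroup (Fin n)
  ker : ∀ e : ↥E, ρ e = 1 ↔ (e : G) ∈ pCoreOf p E
  c_mul : ∀ x ∈ mov p E, ∀ y ∈ mov p E, c (x * y) = c x + c y
  c_even : ∀ x ∈ mov p E, ∑ i, c x i = 0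
  c_surj : ∀ v : Fin n → ZMod 2, ∑ i, v i = 0 → ∃ x ∈ mov p E, c x = v
  c_zero : ∀ x ∈ mov p E, c x = 0 ↔ x ∈ Subgroup.centralizer (E : Set G)
  c_conj : ∀ e : ↥E, ∀ x ∈ mov p E, ∀ i, c ((e : G) * x * (e : G)⁻¹) i = c x ((ρ e)⁻¹ i)

variable [Finite G] {p : ℕ} [hp : Fact p.Prime] {E : Subgroup G}

/-- The kernel of a map of `E` killing `O_p(E)` onto a copy of `E / O_p(E)`. -/
theorem ker_eq {H : Type*} [Group H] {K : Subgroup H} (ρ : ↥E →* H) (hρ : ρ.range = K)
    (iso : Nonempty (↥E ⧸ pCore p ↥E ≃* ↥K)) (hle : pCore p ↥E ≤ ρ.ker) (e : ↥E) :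
    ρ e = 1 ↔ (e : G) ∈ pCoreOf p E := by
  obtain ⟨iso⟩ := iso
  have h : pCore p ↥E = ρ.ker := by
    refine Subgroup.eq_of_le_of_card_ge hle (le_of_eq ?_)
    have h3 := Subgroup.card_mul_index ρ.ker
    have h4 := Subgroup.card_mul_index (pCore p ↥E)
    rw [Subgroup.index_ker, hρ, ← Nat.card_congr iso.toEquiv, ← Subgroup.index] at h3
    have h5 : 0 < (pCore p ↥E).index := Nat.pos_of_ne_zero Subgroup.index_ne_zero_of_finite
    exact Nat.eq_of_mul_eq_mul_right h5 (h3.trans h4.symm)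
  rw [← MonoidHom.mem_ker, ← h, pCoreOf]
  exact (Subgroup.mem_map_iff_mem (f := E.subtype) E.subtype_injective (x := e)).symm

/-- A quotient of a `q`-group is not quasisimple. -/
theorem not_qs {X : Type*} [Group X] [Finite X] {q : ℕ} [Fact q.Prime] (h : IsPGroup q X) :
    ¬ Cfsg.IsQuasisimple X := fun hq => by
  haveI := h.isNilpotent
  haveI := Solv.qs_nontrivial hq
  haveI := hq.1
  exact Group.IsPerfect.not_isSolvable (G := X) inferInstance

theorem bar_isPGroup (hS : Shape p E) {q : ℕ} {K : Type*} [Group K] (iso : ↥E ⧸ pCore p ↥E ≃* K)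
    (hK : IsPGroup q K) : IsPGroup q ↥(bar p E) := by
  let φ : ↥E →* ↥(bar p E) :=
    { toFun := fun e => ⟨QuotientGroup.mk' (pCore p G) (e : G), e, e.2, rfl⟩
      map_one' := Subtype.ext (map_one _)
      map_mul' := fun a b => Subtype.ext (map_mul (QuotientGroup.mk' (pCore p G)) (a : G) b) }
  have hle : pCore p ↥E ≤ φ.ker := fun e he => by
    refine Subtype.ext ((QuotientGroup.eq_one_iff _).2 ?_)
    exact (hS.inter.le (Subgroup.mem_map_of_mem E.subtype he)).2
  refine (hK.of_equiv iso.symm).of_surjective (QuotientGroup.lift _ φ hle) ?_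
  rintro ⟨_, e, he, rfl⟩
  exact ⟨QuotientGroup.mk ⟨e, he⟩, rfl⟩

theorem mov_cover (hS : Shape p E) (hE : ∃ T : Subgroup G, IsBaumannBlock p T E) :
    omegaOneCenter p (pCoreOf p E) ≤
      mov p E ⊔ omegaOneCenter p (pCoreOf p E) ⊓ Subgroup.centralizer (E : Set G) := by
  obtain ⟨T, hT⟩ := hE
  obtain ⟨hn, -, hirr⟩ := block_section hT
  have hZn : E ≤ Subgroup.normalizer
      ((omegaOneCenter p (pCoreOf p E) ⊓ Subgroup.centralizer (E : Set G) : Subgroup G) : Set G) :=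
    Block.le_normalizer_inf hn (normalizer_centralizer Subgroup.le_normalizer)
  rcases hirr _ le_sup_right (sup_le hS.movW inf_le_left)
      (le_normalizer_sup (Subgroup.normalizer_commutator_ge_right _ _) hZn) with h | h
  · exact absurd ((le_sup_left.trans_eq h).trans inf_le_right) hS.ne
  · exact h.ge

/-- The three kinds. -/
theorem kinds {T : Subgroup G} (hE : IsBaumannBlock p T E) (hS : Shape p E) :
    SmallKind p E ∨ (∃ (F : Type) (_ : Field F) (_ : Fintype F), Nonempty (LinCo p E F)) ∨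
      ∃ n, Nonempty (AltCo p E n) := by
  classical
  rcases hS.kind with ⟨hqs, -⟩ | h
  swap
  · exact Or.inl h
  refine Or.inr ?_
  have hcover := mov_cover hS ⟨T, hE⟩
  set W := omegaOneCenter p (pCoreOf p E) with hW
  have hsplit : ∀ w ∈ W, ∃ s ∈ mov p E, s⁻¹ * w ∈ W ⊓ Subgroup.centralizer (E : Set G) := by
    intro w hw
    obtain ⟨s, hs, z, hz, rfl⟩ := mem_sup_abelian (A := mov p E)
      (B := W ⊓ Subgroup.centralizer (E : Set G))
      (fun a ha b hb => omega_comm _ (Subgroup.mem_inf.1 hb).1 _ (hS.movW ha)) (hcover hw)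
    exact ⟨s, hs, by rwa [inv_mul_cancel_left]⟩
  have hQfix : ∀ e : ↥E, e ∈ pCore p ↥E → ∀ w ∈ W, (e : G) * w * (e : G)⁻¹ = w := fun e he w hw => by
    rw [Subgroup.mem_centralizer_iff.1 (omegaOneCenter_props hw).2.1 (e : G)
      (Subgroup.mem_map_of_mem E.subtype he), mul_inv_cancel_right]
  obtain ⟨-, -, -, -, hcase⟩ := hE
  rcases hcase with ⟨F, _, _, n, hF, iso, hact, -⟩ | ⟨hp2, m, iso, hact, -⟩
  · left
    have h4 : 4 ≤ Fintype.card F := by
      by_contra h4
      obtain ⟨iso⟩ := iso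
      have hc2 : Fintype.card F = 2 ∨ Fintype.card F = 3 := by
        have := Fintype.one_lt_card (α := F); omega
      rcases hc2 with hc | hc
      · haveI : Fact (Nat.Prime 3) := ⟨Nat.prime_three⟩
        refine not_qs (bar_isPGroup hS (q := 3) iso fun x => ⟨1, Subtype.ext ?_⟩) hqs
        show (x : Matrix.SpecialLinearGroup (Fin 2) F) ^ (3 ^ 1) = 1
        rw [pow_one, pow_succ', pow_two]
        exact two_facts hc _ x.2
      · haveI : Fact (Nat.Prime 2) := ⟨Nat.prime_two⟩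
        refine not_qs (bar_isPGroup hS (q := 2) iso fun x => ⟨2, Subtype.ext (Subtype.ext ?_)⟩) hqs
        show (((x : Matrix.SpecialLinearGroup (Fin 2) F) ^ (2 ^ 2) : Matrix.SpecialLinearGroup (Fin 2) F) :
          Matrix (Fin 2) (Fin 2) F) = 1
        rw [Matrix.SpecialLinearGroup.coe_pow, show (2 : ℕ) ^ 2 = 2 * 2 from rfl, pow_mul]
        rcases (three_facts hc).1 _ x.2 with h | h | h
        · simp [h]
        · simp [h]
        · rw [← sq] at h; rw [h]; simp
    refine ⟨F, inferInstance, inferInstance, ⟨?_⟩⟩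
    choose hn hAW ρ ψ hρ hψ hker hconj using hact
    let c : G → Fin 2 → F := fun x => if h : x ∈ W then Multiplicative.toAdd (ψ ⟨x, h⟩) else 0
    have hc : ∀ x (h : x ∈ W), c x = Multiplicative.toAdd (ψ ⟨x, h⟩) := fun x h => dif_pos h
    have hsurj : Function.Surjective ρ := MonoidHom.range_eq_top.1 (by rw [hρ, (sl2_quasisimple h4).1])
    have hcj : ∀ (e : ↥E) (x : G), x ∈ W →
        c ((e : G) * x * (e : G)⁻¹) = (ρ e : Matrix (Fin 2) (Fin 2) F).mulVec (c x) := fun e x hx => by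
      obtain ⟨w, hw, hw'⟩ := hconj e ⟨x, hx⟩
      rw [← hw, hc _ w.2, hc x hx]
      exact hw'
    have hlift : ∀ v, ∃ x ∈ W, c x = v := fun v => by
      obtain ⟨u, hu⟩ := hψ (Multiplicative.ofAdd v)
      exact ⟨u, u.2, by rw [hc _ u.2, Subtype.coe_eta, hu]; rfl⟩
    refine ⟨ρ, c, h4, ⟨n, hF⟩, hsurj, fun e => ker_eq ρ hρ iso (fun e he => ?_) e, ?_, fun v => ?_,
      fun x hx => ?_, fun e x hx => hcj e x (hS.movW hx)⟩
    · refine sl_ext fun v => ?_
      obtain ⟨x, hx, rfl⟩ := hlift v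
      rw [← hcj e x hx, hQfix e he x hx]
    · intro x hx y hy
      rw [hc x (hS.movW hx), hc y (hS.movW hy), hc _ (mul_mem (hS.movW hx) (hS.movW hy)), ← toAdd_mul,
        ← map_mul]
      rfl
    · obtain ⟨x, hx, rfl⟩ := hlift v
      obtain ⟨s, hs, hz⟩ := hsplit x hx
      refine ⟨s, hs, ?_⟩
      rw [hc x hx, hc s (hS.movW hs), Multiplicative.toAdd.injective.eq_iff, ← inv_mul_eq_one, ← map_inv,
        ← map_mul]
      exact (hker _).2 hz
    · rw [hc x (hS.movW hx), toAdd_eq_zero, hker]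
      exact ⟨fun h => (Subgroup.mem_inf.1 h).2, fun h => Subgroup.mem_inf.2 ⟨hS.movW hx, h⟩⟩
  · right
    subst hp2
    have hm2 : 2 ≤ m := by
      by_contra hm2
      obtain ⟨iso⟩ := iso
      haveI : Fact (Nat.Prime 3) := ⟨Nat.prime_three⟩
      interval_cases m
      · refine not_qs (bar_isPGroup hS (q := 3) iso fun x => ⟨0, Subtype.ext ?_⟩) hqs
        exact Equiv.ext fun i => Fin.ext (by omega)
      · refine not_qs (bar_isPGroup hS (q := 3) iso fun x => ⟨1, Subtype.ext ?_⟩) hqs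
        show (x : Equiv.Perm (Fin 3)) ^ (3 ^ 1) = 1
        rw [pow_one, pow_succ', pow_two]
        exact alt_three_cube _ x.2
    refine ⟨2 * m + 1, ⟨?_⟩⟩
    choose hn hAW ρ ψ hρ hev hψ hker hconj using hact
    let c : G → Fin (2 * m + 1) → ZMod 2 :=
      fun x => if h : x ∈ W then Multiplicative.toAdd (ψ ⟨x, h⟩) else 0
    have hc : ∀ x (h : x ∈ W), c x = Multiplicative.toAdd (ψ ⟨x, h⟩) := fun x h => dif_pos h
    have hcj : ∀ (e : ↥E) (x : G), x ∈ W → ∀ i, c ((e : G) * x * (e : G)⁻¹) i = c x ((ρ e)⁻¹ i) :=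
      fun e x hx i => by
      obtain ⟨w, hw, hw'⟩ := hconj e ⟨x, hx⟩
      rw [← hw, hc _ w.2, hc x hx]
      exact hw' i
    refine ⟨ρ, c, rfl, ⟨m, rfl⟩, by omega, hρ, fun e => ker_eq ρ hρ iso (fun e he => ?_) e, ?_,
      fun x hx => by rw [hc x (hS.movW hx)]; exact hev _, fun v hv => ?_, fun x hx => ?_,
      fun e x hx i => hcj e x (hS.movW hx) i⟩
    · rw [MonoidHom.mem_ker]
      by_contra hne
      obtain ⟨v, hv, hne'⟩ := perm_witness (show 3 ≤ 2 * m + 1 by omega) hne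
      obtain ⟨u, hu⟩ := hψ v hv
      refine hne' (funext fun i => ?_)
      have h1 := hcj e u u.2 i
      rw [hQfix e he u u.2, hc _ u.2, Subtype.coe_eta, hu] at h1
      simpa using h1.symm
    · intro x hx y hy
      rw [hc x (hS.movW hx), hc y (hS.movW hy), hc _ (mul_mem (hS.movW hx) (hS.movW hy)), ← toAdd_mul,
        ← map_mul]
      rfl
    · obtain ⟨u, hu⟩ := hψ v hv
      obtain ⟨s, hs, hz⟩ := hsplit u u.2
      refine ⟨s, hs, ?_⟩
      rw [← hu, hc s (hS.movW hs), Multiplicative.toAdd.injective.eq_iff, ← inv_mul_eq_one, ← map_inv,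
        ← map_mul]
      exact (hker _).2 hz
    · rw [hc x (hS.movW hx), toAdd_eq_zero, hker]
      exact ⟨fun h => (Subgroup.mem_inf.1 h).2, fun h => Subgroup.mem_inf.2 ⟨hS.movW hx, h⟩⟩

end Cfsg.Agent.LocalEven.BlockNormal
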