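import Cfsg.Agent.Lib.LocalEven.BlockNormal.Sec
import Cfsg.Agent.Lib.LocalEven.BlockNormal.Model
import Cfsg.Agent.S2984

/-!
# Facts on an arbitrary block

No subnormality is assumed: `[V, X] = [W, X]`, and either `O_p(X) = [V, X]` or the block is exceptional with
natural coordinates on both sections.
-/

set_option autoImplicit false

open scoped commutatorElement

namespace Cfsg.Agent.LocalEven.BlockNormal

open Cfsg Cfsg.Agent.Fusion Cfsg.Agent.LocalEven.Block Cfsg.Agent.LocalEven.SubnBlock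

variable {G : Type*} [Group G]

/-- An exceptional block. -/
structure ExcD (p : ℕ) (T X : Subgroup G) (F : Type) [Field F] [Fintype F] where
  three : p = 3
  card : ∃ n, Fintype.card F = p ^ n
  three_le : 3 ≤ Fintype.card F
  S1 : Sec X (mov p X) (Subgroup.centralizer (X : Set G)) F
  S2 : Sec X (pCoreOf p X) (omegaOneCenter p (pCoreOf p X)) F
  ker1 : ∀ e : ↥X, S1.ρ e = 1 ↔ (e : G) ∈ pCoreOf p X
  ker2 : ∀ e : ↥X, S2.ρ e = 1 ↔ (e : G) ∈ pCoreOf p X
  zeq : ⁅pCoreOf p X, pCoreOf p X⁆ = omegaOneCenter p (pCoreOf p X) ⊓ Subgroup.centralizer (X : Set G)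
  cent : X ⊓ Subgroup.centralizer (X : Set G) = omegaOneCenter p (pCoreOf p X) ⊓ Subgroup.centralizer (X : Set G)
  zne : ⁅pCoreOf p X, pCoreOf p X⁆ ≠ ⊥
  irrQ : ∀ S : Subgroup G, omegaOneCenter p (pCoreOf p X) ≤ S → S ≤ pCoreOf p X →
    X ≤ Subgroup.normalizer (S : Set G) → S = omegaOneCenter p (pCoreOf p X) ∨ S = pCoreOf p X
  witQ : Noncomm X (pCoreOf p X) (omegaOneCenter p (pCoreOf p X))
  W_ne : omegaOneCenter p (pCoreOf p X) ≠ pCoreOf p X
  quad : ∀ b : G, b ∈ baumannSubgroupOf p T → b ∉ Subgroup.centralizer (omegaOneCenter p (pCoreOf p X) : Set G) →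
    ¬ ⁅⁅pCoreOf p X, Subgroup.zpowers b⁆, Subgroup.zpowers b⁆ ≤ X ⊓ Subgroup.centralizer (X : Set G)

/-- What is used about a block. -/
structure Pre (p : ℕ) (T X : Subgroup G) : Prop where
  res : pResidualOf p X = X
  baumann : ⁅X, baumannSubgroupOf p T⁆ = X
  normR : pCore p G ≤ Subgroup.normalizer (X : Set G)
  commR : ⁅pCore p G, X⁆ ≤ pCoreOf p X
  QX : ⁅pCoreOf p X, X⁆ = pCoreOf p X
  normQ : X ≤ Subgroup.normalizer (pCoreOf p X : Set G)
  normW : X ≤ Subgroup.normalizer (omegaOneCenter p (pCoreOf p X) : Set G)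
  movW : mov p X ≤ omegaOneCenter p (pCoreOf p X)
  movX : ⁅mov p X, X⁆ = mov p X
  movEq : ⁅omegaOneCenter p (pCoreOf p X), X⁆ = mov p X
  irr : ∀ S : Subgroup G, S ≤ mov p X → X ≤ Subgroup.normalizer (S : Set G) →
    S ≤ Subgroup.centralizer (X : Set G) ∨ S = mov p X
  ne : ¬ mov p X ≤ Subgroup.centralizer (X : Set G)
  cover : omegaOneCenter p (pCoreOf p X) ≤
    mov p X ⊔ omegaOneCenter p (pCoreOf p X) ⊓ Subgroup.centralizer (X : Set G)
  qcase : pCoreOf p X = mov p X ∨ ∃ (F : Type) (_ : Field F) (_ : Fintype F), Nonempty (ExcD p T X F)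

variable [Finite G] {p : ℕ} [hp : Fact p.Prime] {X : Subgroup G}

omit [Finite G] hp in
theorem W_central {a w : G} (ha : a ∈ pCoreOf p X) (hw : w ∈ omegaOneCenter p (pCoreOf p X)) :
    a * w = w * a :=
  Subgroup.mem_centralizer_iff.1 (omegaOneCenter_props hw).2.1 a ha

theorem pre_of_block (hG : Subgroup.centralizer (pCore p G : Set G) ≤ pCore p G) (T : Sylow p G)
    (hX : IsBaumannBlock p (T : Subgroup G) X) : Pre p (T : Subgroup G) X := by
  obtain ⟨-, hWV, -⟩ := S2984.result hG T X hX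
  obtain ⟨hWn, hnc, hirr⟩ := block_section hX
  obtain ⟨hres, hXB, hQX, hΩ, hcase⟩ := id hX
  haveI hRn : (pCore p G).Normal := inferInstance
  have hRp : IsPGroup p ↥(pCore p G) := Fusion.isPGroup_pCore p G
  set Q := pCoreOf p X with hQ
  set W := omegaOneCenter p Q with hW
  set Z := W ⊓ Subgroup.centralizer (X : Set G) with hZ
  haveI hVn : (vSub p G).Normal := vSub_normal
  have hnR : pCore p G ≤ Subgroup.normalizer (X : Set G) := normal_le_normalizer T hX hRp
  have hXR : X ≤ Subgroup.normalizer (pCore p G : Set G) :=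
    Subgroup.normalizer_eq_top (H := pCore p G) ▸ le_top
  have hXV : X ≤ Subgroup.normalizer (vSub p G : Set G) :=
    Subgroup.normalizer_eq_top (H := vSub p G) ▸ le_top
  have hcommR : ⁅pCore p G, X⁆ ≤ Q := commutator_le_pCoreOf hRp hXR hnR
  have hnQ : X ≤ Subgroup.normalizer (Q : Set G) := le_normalizer_of_conj fun g hg x hx => by
    obtain ⟨y, hy, rfl⟩ := hx
    exact ⟨⟨g, hg⟩ * y * ⟨g, hg⟩⁻¹, Subgroup.Normal.conj_mem inferInstance y hy _, rfl⟩
  have hmQ : mov p X ≤ Q :=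
    (Subgroup.commutator_mono (fun v hv => (omegaOneCenter_props hv).1) le_rfl).trans hcommR
  have hWQ : W ≤ Q := fun x hx => (omegaOneCenter_props hx).1
  have hWp : IsPGroup p ↥W := isPGroup_omegaOneCenter _
  have hmovn : X ≤ Subgroup.normalizer (mov p X : Set G) := Subgroup.normalizer_commutator_ge_right _ _
  have hmovX : ⁅mov p X, X⁆ = mov p X := comm_comm_eq hres (isPGroup_omegaOneCenter _) omega_comm hXV
  -- exceptional data
  have hexc : Q = W ∨ ∃ (F : Type) (_ : Field F) (_ : Fintype F) (n : ℕ), p = 3 ∧ Fintype.card F = p ^ n ∧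
      Nonempty (↥X ⧸ pCore p ↥X ≃* ↥(commutator (Matrix.SpecialLinearGroup (Fin 2) F))) ∧
      ActsAsSL2OnSection F (commutator (Matrix.SpecialLinearGroup (Fin 2) F)) X W Z ∧
      ActsAsSL2OnSection F (commutator (Matrix.SpecialLinearGroup (Fin 2) F)) X Q W ∧
      ⁅Q, Q⁆ = Z ∧ X ⊓ Subgroup.centralizer (X : Set G) = Z ∧
      Nat.card ↥(X ⊓ Subgroup.centralizer (X : Set G)) = 3 ^ n ∧
      ∀ b : G, b ∈ baumannSubgroupOf p (T : Subgroup G) → b ∉ Subgroup.centralizer (W : Set G) →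
        ¬ ⁅⁅Q, Subgroup.zpowers b⁆, Subgroup.zpowers b⁆ ≤ X ⊓ Subgroup.centralizer (X : Set G) := by
    rcases hcase with ⟨F, _, _, n, hF, iso, hact, hQW | ⟨hp3, hact', hzeq, -, hcent, hzc, hquad⟩⟩ |
      ⟨-, m, -, -, hQW⟩
    · exact Or.inl hQW
    · exact Or.inr ⟨F, inferInstance, inferInstance, n, hp3, hF, iso, hact, hact', hzeq, hcent, hzc, hquad⟩
    · exact Or.inl hQW
  -- `[V, X] ≤ W`
  have hmovW : mov p X ≤ W := by
    rcases hexc with h | ⟨F, _, _, n, hp3, hF, -, -, hact', hzeq, hcent, hzc, -⟩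
    · exact h ▸ hmQ
    obtain ⟨hn', hWQ', ρ, ψ, hρ, hψ, hker, hact''⟩ := hact'
    have hirrQ : ∀ S : Subgroup G, W ≤ S → S ≤ Q → X ≤ Subgroup.normalizer (S : Set G) → S = W ∨ S = Q :=
      section_dichotomy hWQ' ψ
        (fun e v => ((ρ e : Matrix.SpecialLinearGroup (Fin 2) F) : Matrix (Fin 2) (Fin 2) F).mulVec v)
        hker hact'' fun S hS _ => by
          refine (sl2_irred S fun M hM v hv => ?_).imp_right fun h u => h _
          obtain ⟨e, rfl⟩ : M ∈ ρ.range := hρ ▸ hM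
          exact hS e v hv
    rcases hirrQ (mov p X ⊔ W) le_sup_right (sup_le hmQ hWQ) (le_normalizer_sup hmovn hWn) with h | h
    · exact le_sup_left.trans h.le
    exfalso
    have hn0 : n ≠ 0 := fun h => by
      have := Fintype.one_lt_card (α := F); rw [hF, h, pow_zero] at this; omega
    have hab : ⁅Q, Q⁆ = ⊥ := by
      rw [Subgroup.commutator_eq_bot_iff_le_centralizer]
      intro a ha
      refine Subgroup.mem_centralizer_iff.2 fun b hb => ?_
      obtain ⟨s, hs, w, hw, rfl⟩ := mem_sup_abelian (A := mov p X) (B := W)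
        (fun x hx y hy => (W_central (hmQ hx) hy).symm) (h.ge ha)
      obtain ⟨s', hs', w', hw', rfl⟩ := mem_sup_abelian (A := mov p X) (B := W)
        (fun x hx y hy => (W_central (hmQ hx) hy).symm) (h.ge hb)
      have c1 : s' * w' * s = s * (s' * w') := by
        rw [mul_assoc, ← W_central (hmQ hs) hw', ← mul_assoc, ← mul_assoc,
          omega_comm _ (mov_le X hs') _ (mov_le X hs)]
      calc s' * w' * (s * w) = (s' * w' * s) * w := by group
        _ = s * ((s' * w') * w) := by rw [c1]; group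
        _ = s * (w * (s' * w')) := by rw [W_central (mul_mem (hmQ hs') (hWQ hw')) hw]
        _ = _ := by group
    rw [hzeq, ← hcent] at hab
    rw [hab, Subgroup.card_bot] at hzc
    exact absurd hzc.symm (Nat.one_lt_pow hn0 (by norm_num)).ne'
  have hmov : ⁅W, X⁆ = mov p X := by
    refine le_antisymm ?_ ?_
    · rw [← comm_comm_eq hres hWp omega_comm hWn]
      exact Subgroup.commutator_mono hWV le_rfl
    · rw [← hmovX]
      exact Subgroup.commutator_mono hmovW le_rfl
  have hne : ¬ mov p X ≤ Subgroup.centralizer (X : Set G) := fun h => by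
    have h1 : ⁅mov p X, X⁆ = ⊥ := Subgroup.commutator_eq_bot_iff_le_centralizer.2 h
    rw [hmovX, ← hmov, Subgroup.commutator_eq_bot_iff_le_centralizer] at h1
    exact hnc h1
  have hZn : X ≤ Subgroup.normalizer (Z : Set G) :=
    Block.le_normalizer_inf hWn (normalizer_centralizer Subgroup.le_normalizer)
  have hirr' : ∀ S : Subgroup G, S ≤ mov p X → X ≤ Subgroup.normalizer (S : Set G) →
      S ≤ Subgroup.centralizer (X : Set G) ∨ S = mov p X := by
    intro S hS hSn
    rcases hirr (S ⊔ Z) le_sup_right (sup_le (hS.trans hmovW) inf_le_left)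
      (le_normalizer_sup hSn hZn) with h | h
    · exact Or.inl ((le_sup_left.trans_eq h).trans inf_le_right)
    · refine Or.inr (le_antisymm hS ?_)
      rw [← hmov, ← h]
      refine (Subgroup.commutator_le.2 fun x hx e he => ?_)
      obtain ⟨s, hs', z, hz, rfl⟩ := mem_sup_abelian (A := S) (B := Z)
        (fun a ha b hb => omega_comm _ hb.1 _ (hmovW (hS ha))) hx
      have hze : z * e = e * z := (Subgroup.mem_centralizer_iff.1 hz.2 e he).symm
      have e1 : ⁅s * z, e⁆ = ⁅s, e⁆ := by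
        calc ⁅s * z, e⁆ = s * (z * e) * z⁻¹ * s⁻¹ * e⁻¹ := by simp [commutatorElement_def]; group
          _ = _ := by rw [hze, commutatorElement_def]; group
      rw [e1]
      exact (comm_mem hs' (hSn he)).1
  have hcov : W ≤ mov p X ⊔ Z := by
    rcases hirr (mov p X ⊔ Z) le_sup_right (sup_le hmovW inf_le_left) (le_normalizer_sup hmovn hZn) with h | h
    · exact absurd ((le_sup_left.trans_eq h).trans inf_le_right) hne
    · exact h.ge
  refine ⟨hres, hXB, hnR, hcommR, hQX, hnQ, hWn, hmovW, hmovX, hmov, hirr', hne, hcov, ?_⟩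
  rcases hexc with h | ⟨F, _, _, n, hp3, hF, iso, hact, hact', hzeq, hcent, hzc, hquad⟩
  · refine Or.inl ?_
    show Q = _
    rw [← hQX, h, hmov]
  refine Or.inr ⟨F, inferInstance, inferInstance, ?_⟩
  have hn0 : n ≠ 0 := fun h => by
    have := Fintype.one_lt_card (α := F); rw [hF, h, pow_zero] at this; omega
  have h3F : 3 ≤ Fintype.card F := by
    rw [hF, hp3]; exact Nat.le_self_pow hn0 3
  obtain ⟨hwit, -, -, -, hidx, -⟩ := linear_facts (p := p) hact'
  obtain ⟨S₁⟩ := exists_sec hact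
  obtain ⟨S₂⟩ := exists_sec hact'
  have hsplit : ∀ w ∈ W, ∃ s ∈ mov p X, s⁻¹ * w ∈ Z := by
    intro w hw
    obtain ⟨s, hs', z, hz, rfl⟩ := mem_sup_abelian (A := mov p X) (B := Z)
      (fun a ha b hb => omega_comm _ hb.1 _ (hmovW ha)) (hcov hw)
    exact ⟨s, hs', by rwa [inv_mul_cancel_left]⟩
  let S₁' : Sec X (mov p X) (Subgroup.centralizer (X : Set G)) F :=
    { c := S₁.c
      c_mul := fun x hx y hy => S₁.c_mul x (hmovW hx) y (hmovW hy)
      c_surj := fun v => by
        obtain ⟨w, hw, rfl⟩ := S₁.c_surj v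
        obtain ⟨s, hs, hz⟩ := hsplit w hw
        exact ⟨s, hs, (S₁.eq_iff (hmovW hs) hw).2 hz⟩
      c_zero := fun x hx => (S₁.c_zero x (hmovW hx)).trans
        ⟨fun h => h.2, fun h => Subgroup.mem_inf.2 ⟨hmovW hx, h⟩⟩
      ρ := S₁.ρ
      range := S₁.range
      norm := hmovn
      c_conj := fun e x hx => S₁.c_conj e x (hmovW hx) }
  have hQmem : ∀ e : ↥X, e ∈ pCore p ↥X → (e : G) ∈ Q := fun e he =>
    Subgroup.mem_map_of_mem X.subtype he
  have hk1 : ∀ e : ↥X, S₁.ρ e = 1 ↔ (e : G) ∈ Q := fun e => ker_eq S₁.ρ S₁.range iso (fun e' he => by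
    refine sl_ext fun v => ?_
    obtain ⟨w, hw, rfl⟩ := S₁.c_surj v
    rw [← S₁.c_conj e' w hw, W_central (hQmem e' he) hw, mul_inv_cancel_right]) e
  have hk2 : ∀ e : ↥X, S₂.ρ e = 1 ↔ (e : G) ∈ Q := fun e => ker_eq S₂.ρ S₂.range iso (fun e' he => by
    refine sl_ext fun v => ?_
    obtain ⟨a, ha, rfl⟩ := S₂.c_surj v
    have hq := hQmem e' he
    rw [← S₂.c_conj e' a ha]
    refine ((S₂.eq_iff ha (mul_mem (mul_mem hq ha) (inv_mem hq))).2 ?_).symm
    rw [show a⁻¹ * ((e' : G) * a * (e' : G)⁻¹) = ⁅a⁻¹, (e' : G)⁆ by rw [commutatorElement_def]; group]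
    exact (hzeq.le (Subgroup.commutator_mem_commutator (inv_mem ha) hq) : _ ∈ W ⊓ _).1) e
  refine ⟨⟨hp3, ⟨n, hF⟩, h3F, S₁', S₂, hk1, hk2, hzeq, hcent, ?_, ?_, hwit h3F, ?_, hquad⟩⟩
  · intro h
    rw [hzeq, ← hcent] at h
    rw [h, Subgroup.card_bot] at hzc
    exact absurd hzc.symm (Nat.one_lt_pow hn0 (by norm_num)).ne'
  · obtain ⟨hn', hWQ', ρ, ψ, hρ, hψ, hker, hact''⟩ := hact'
    exact section_dichotomy hWQ' ψ
      (fun e v => ((ρ e : Matrix.SpecialLinearGroup (Fin 2) F) : Matrix (Fin 2) (Fin 2) F).mulVec v)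
      hker hact'' fun S hS _ => by
        refine (sl2_irred S fun M hM v hv => ?_).imp_right fun h u => h _
        obtain ⟨e, rfl⟩ : M ∈ ρ.range := hρ ▸ hM
        exact hS e v hv
  · intro h
    replace h : W = Q := h
    rw [h, Subgroup.relIndex_self] at hidx
    have : 3 ^ 2 ≤ Fintype.card F ^ 2 := Nat.pow_le_pow_left h3F 2
    omega

end Cfsg.Agent.LocalEven.BlockNormal
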