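import Cfsg.Agent.Lib.LocalEven.BlockNormal.Alt
import Cfsg.Agent.Lib.LocalEven.ParabolicInherit

/-!
# A fixed vector of `[V, E]` outside `C(E)` for any `p`-group normalising `E`

The norm over the cosets of a Sylow subgroup moves a fixed vector of `V` into `[V, E]`; a torus
then gives an invariant complement to `C(E)`.
-/

set_option autoImplicit false

open scoped commutatorElement

namespace Cfsg.Agent.LocalEven.BlockNormal

open Cfsg Cfsg.Agent.Fusion Cfsg.Agent.LocalEven.Block Cfsg.Agent.LocalEven.SubnBlock Matrix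

section line

variable {F : Type} [Field F]

/-- `(1 a; 0 1)`. -/
def ut (a : F) : SpecialLinearGroup (Fin 2) F := ⟨!![1, a; 0, 1], by simp [Matrix.det_fin_two]⟩

/-- `(a 0; 0 a⁻¹)`. -/
def dt (a : F) (ha : a ≠ 0) : SpecialLinearGroup (Fin 2) F :=
  ⟨!![a, 0; 0, a⁻¹], by simp [Matrix.det_fin_two, ha]⟩

theorem ut_e1 (a : F) : (ut a : Matrix (Fin 2) (Fin 2) F).mulVec ![1, 0] = ![1, 0] := by
  funext i; fin_cases i <;> simp [ut, Matrix.mulVec, dotProduct, Fin.sum_univ_two]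

theorem ut_mul (a b : F) : ut a * ut b = ut (a + b) := by
  apply Subtype.ext
  show !![1, a; 0, 1] * !![1, b; 0, 1] = !![1, a + b; 0, 1]
  simp [Matrix.mul_fin_two, add_comm b a]

theorem eq_ut {M : SpecialLinearGroup (Fin 2) F}
    (h : (M : Matrix (Fin 2) (Fin 2) F).mulVec ![1, 0] = ![1, 0]) : ∃ a, M = ut a := by
  have h0 := congrFun h 0
  have h1 := congrFun h 1
  simp [Matrix.mulVec, dotProduct, Fin.sum_univ_two] at h0 h1
  have hd := M.2
  rw [Matrix.det_fin_two] at hd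
  simp [h0, h1] at hd
  refine ⟨(M : Matrix (Fin 2) (Fin 2) F) 0 1, ?_⟩
  ext i j
  fin_cases i <;> fin_cases j <;> simp [ut, h0, h1, hd]

theorem exists_to_e1 {w : Fin 2 → F} (hw : w ≠ 0) :
    ∃ g : SpecialLinearGroup (Fin 2) F, (g : Matrix (Fin 2) (Fin 2) F).mulVec ![1, 0] = w := by
  by_cases h0 : w 0 = 0
  · have h1 : w 1 ≠ 0 := fun h => hw (funext fun i => by fin_cases i <;> [exact h0; exact h])
    refine ⟨⟨!![0, -(w 1)⁻¹; w 1, 0], by simp [Matrix.det_fin_two, h1]⟩, ?_⟩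
    funext i; fin_cases i <;> simp [Matrix.mulVec, dotProduct, Fin.sum_univ_two, h0]
  · refine ⟨⟨!![w 0, 0; w 1, (w 0)⁻¹], by simp [Matrix.det_fin_two, h0]⟩, ?_⟩
    funext i; fin_cases i <;> simp [Matrix.mulVec, dotProduct, Fin.sum_univ_two]

theorem act_mul_vec (g h : SpecialLinearGroup (Fin 2) F) (v : Fin 2 → F) :
    ((g * h : SpecialLinearGroup (Fin 2) F) : Matrix (Fin 2) (Fin 2) F).mulVec v =
      (g : Matrix (Fin 2) (Fin 2) F).mulVec ((h : Matrix (Fin 2) (Fin 2) F).mulVec v) :=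
  (Matrix.mulVec_mulVec v _ _).symm

theorem act_inv_vec (g : SpecialLinearGroup (Fin 2) F) (v : Fin 2 → F) :
    ((g⁻¹ : SpecialLinearGroup (Fin 2) F) : Matrix (Fin 2) (Fin 2) F).mulVec
      ((g : Matrix (Fin 2) (Fin 2) F).mulVec v) = v := by
  rw [← act_mul_vec, inv_mul_cancel]
  exact Matrix.one_mulVec v

theorem dt_conj (a : F) (ha : a ≠ 0) (b : F) : dt a ha * ut b * (dt a ha)⁻¹ = ut (a * a * b) := by
  rw [mul_inv_eq_iff_eq_mul]
  apply Subtype.ext
  show !![a, 0; 0, a⁻¹] * !![1, b; 0, 1] = !![1, a * a * b; 0, 1] * !![a, 0; 0, a⁻¹]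
  ext i j
  fin_cases i <;> fin_cases j <;> simp [Matrix.mul_fin_two] <;> field_simp

/-- The stabiliser of a nonzero vector. -/
def stabVec (w : Fin 2 → F) : Subgroup (SpecialLinearGroup (Fin 2) F) where
  carrier := {M | (M : Matrix (Fin 2) (Fin 2) F).mulVec w = w}
  one_mem' := Matrix.one_mulVec w
  mul_mem' := fun {a b} ha hb => by
    show _ = w
    rw [act_mul_vec, hb, ha]
  inv_mem' := fun {a} ha => by
    show _ = w
    conv_lhs => rw [← (show (a : Matrix (Fin 2) (Fin 2) F).mulVec w = w from ha)]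
    exact act_inv_vec a w

/-- A nonzero vector stabiliser is a translated copy of the unitriangular group, normalised by a torus
element moving the vector. -/
theorem stab_facts [Fintype F] (hq : 3 ≤ Fintype.card F) {p : ℕ} [hp : Fact p.Prime] {n : ℕ}
    (hF : Fintype.card F = p ^ n) {w : Fin 2 → F} (hw : w ≠ 0) :
    IsPGroup p ↥(stabVec w) ∧ ∃ k : SpecialLinearGroup (Fin 2) F,
      (∀ M ∈ stabVec w, k * M * k⁻¹ ∈ stabVec w) ∧ (k : Matrix (Fin 2) (Fin 2) F).mulVec w ≠ w := by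
  classical
  obtain ⟨g, rfl⟩ := exists_to_e1 hw
  have hmem : ∀ M, M ∈ stabVec ((g : Matrix (Fin 2) (Fin 2) F).mulVec ![1, 0]) ↔ ∃ a, M = g * ut a * g⁻¹ := by
    intro M
    constructor
    · intro h
      have h' : ((g⁻¹ * M * g : SpecialLinearGroup (Fin 2) F) : Matrix (Fin 2) (Fin 2) F).mulVec ![1, 0] =
          ![1, 0] := by
        rw [act_mul_vec, act_mul_vec, show (M : Matrix (Fin 2) (Fin 2) F).mulVec _ = _ from h, act_inv_vec]
      obtain ⟨a, ha⟩ := eq_ut h'
      exact ⟨a, by rw [← ha]; group⟩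
    · rintro ⟨a, rfl⟩
      show _ = _
      rw [act_mul_vec, act_mul_vec, act_inv_vec, ut_e1]
  refine ⟨fun ⟨M, hM⟩ => ⟨n, Subtype.ext ?_⟩, ?_⟩
  · obtain ⟨a, rfl⟩ := (hmem M).1 hM
    show (g * ut a * g⁻¹) ^ p ^ n = 1
    have hpow : ∀ k : ℕ, ut a ^ k = ut ((k : F) * a) := by
      intro k
      induction k with
      | zero => rw [pow_zero, Nat.cast_zero, zero_mul]; ext i j; fin_cases i <;> fin_cases j <;> simp [ut]
      | succ k ih => rw [pow_succ, ih, ut_mul, Nat.cast_succ, add_mul, one_mul]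
    rw [conj_pow, hpow, ← hF, FiniteField.cast_card_eq_zero, zero_mul,
      show ut (0 : F) = 1 by ext i j; fin_cases i <;> fin_cases j <;> simp [ut], mul_one, mul_inv_cancel]
  · obtain ⟨a, ha0, ha1⟩ : ∃ a : F, a ≠ 0 ∧ a ≠ 1 := by
      by_contra hc
      push Not at hc
      have hsub : (Finset.univ : Finset F) ⊆ {0, 1} := fun z _ => by
        by_cases hz : z = 0
        · simp [hz]
        · simp [hc z hz]
      have := (Finset.card_le_card hsub).trans Finset.card_le_two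
      rw [Finset.card_univ] at this
      omega
    refine ⟨g * dt a ha0 * g⁻¹, fun M hM => ?_, fun h => ?_⟩
    · obtain ⟨b, rfl⟩ := (hmem M).1 hM
      refine (hmem _).2 ⟨a * a * b, ?_⟩
      rw [← dt_conj a ha0 b]
      group
    · have h2 := congrArg ((g⁻¹ : SpecialLinearGroup (Fin 2) F) : Matrix (Fin 2) (Fin 2) F).mulVec h
      rw [act_mul_vec, act_mul_vec, act_inv_vec g ![1, 0], act_inv_vec] at h2
      have h3 := congrFun h2 0
      simp [dt, Matrix.mulVec, dotProduct, Fin.sum_univ_two] at h3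
      exact ha1 h3

end line

variable {G : Type*} [Group G] [Finite G] {p : ℕ} [hp : Fact p.Prime] {E : Subgroup G}

omit [Finite G] hp in
theorem mem_normalizer_inf_centralizer {H X : Subgroup G} {S : Subgroup G}
    (hX : H ≤ Subgroup.normalizer (X : Set G)) (hS : H ≤ Subgroup.normalizer (S : Set G)) :
    H ≤ Subgroup.normalizer ((X ⊓ Subgroup.centralizer (S : Set G) : Subgroup G) : Set G) :=
  Block.le_normalizer_inf hX (normalizer_centralizer hS)

/-- A fixed vector of `V` moved by `E` gives one in `[V, E]`. -/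
theorem transfer {S : Subgroup G} (hSE : SylIn p S E) {y : G} (hy : y ∈ vSub p G)
    (hfix : ∀ s ∈ S, s * y * s⁻¹ = y) (hne : y ∉ Subgroup.centralizer (E : Set G)) :
    ∃ v ∈ mov p E, (∀ s ∈ S, s * v * s⁻¹ = v) ∧ v ∉ Subgroup.centralizer (E : Set G) := by
  classical
  haveI hVn := vSub_normal (p := p) (G := G)
  letI : CommGroup ↥(vSub p G) := { (inferInstance : Group ↥(vSub p G)) with
    mul_comm := fun a b => Subtype.ext (omega_comm _ a.2 _ b.2) }
  let K : Subgroup ↥E := S.subgroupOf E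
  haveI : Fintype (↥E ⧸ K) := Fintype.ofFinite _
  let cE : ↥E → ↥(vSub p G) := fun e => MulAut.conjNormal (e : G) ⟨y, hy⟩
  have hcE : ∀ e : ↥E, ((cE e : ↥(vSub p G)) : G) = (e : G) * y * (e : G)⁻¹ := fun e =>
    MulAut.conjNormal_apply _ _
  let φ : ↥E ⧸ K → ↥(vSub p G) := fun q => Quotient.liftOn' q cE fun a b hab => by
    rw [QuotientGroup.leftRel_apply] at hab
    refine Subtype.ext ?_
    rw [hcE, hcE]
    have h1 : ((a : G)⁻¹ * b) * y * ((a : G)⁻¹ * b)⁻¹ = y := hfix _ hab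
    conv_lhs => rw [← h1]
    group
  set N : ↥(vSub p G) := ∏ q, φ q with hN
  have hNfix : ∀ e : ↥E, (e : G) * (N : G) * (e : G)⁻¹ = N := by
    intro e
    rw [← MulAut.conjNormal_apply]
    refine congrArg Subtype.val ?_
    rw [hN, map_prod]
    refine Fintype.prod_equiv (MulAction.toPerm e) _ _ fun q => ?_
    induction q using QuotientGroup.induction_on with
    | H a =>
      show MulAut.conjNormal (e : G) (cE a) = cE (e * a)
      refine Subtype.ext ?_
      rw [MulAut.conjNormal_apply, hcE, hcE, Subgroup.coe_mul]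
      group
  set y' : ↥(vSub p G) := ⟨y, hy⟩ with hy'
  set m := Fintype.card (↥E ⧸ K) with hm
  have hmem : N * (y' ^ m)⁻¹ ∈ (mov p E).subgroupOf (vSub p G) := by
    have h1 : N * (y' ^ m)⁻¹ = ∏ q, φ q * y'⁻¹ := by
      rw [Finset.prod_mul_distrib, Finset.prod_const, Finset.card_univ, inv_pow]
    rw [h1]
    refine Subgroup.prod_mem _ fun q _ => ?_
    induction q using QuotientGroup.induction_on with
    | H a =>
      rw [Subgroup.mem_subgroupOf]
      show ((cE a : ↥(vSub p G)) : G) * ((y' : G))⁻¹ ∈ mov p E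
      rw [hcE, show (a : G) * y * (a : G)⁻¹ * y⁻¹ = ⁅(a : G), y⁆ by rw [commutatorElement_def]]
      rw [← commutatorElement_inv]
      exact inv_mem (Subgroup.commutator_mem_commutator hy a.2)
  have hmco : m.Coprime p := by
    have h1 := hSE.not_dvd
    rw [hm, ← Nat.card_eq_fintype_card, ← Subgroup.index_eq_card]
    exact Nat.Coprime.symm ((Nat.Prime.coprime_iff_not_dvd hp.out).2 h1)
  have hyp : y ^ p = 1 := (omegaOneCenter_props hy).2.2
  obtain ⟨j, hj⟩ : ∃ j : ℕ, (y ^ m) ^ j = y :=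
    exists_pow_eq_self_of_coprime (hmco.coprime_dvd_right (orderOf_dvd_of_pow_eq_one hyp))
  have hS : ∀ s ∈ S, s * (N : G) * s⁻¹ = N := fun s hs => hNfix ⟨s, hSE.le hs⟩
  refine ⟨y * ((N : G) ^ j)⁻¹, ?_, fun s hs => ?_, fun h => hne ?_⟩
  · have h2 : (((N * (y' ^ m)⁻¹) ^ j)⁻¹ : ↥(vSub p G)) ∈ (mov p E).subgroupOf (vSub p G) :=
      inv_mem (pow_mem hmem j)
    rw [Subgroup.mem_subgroupOf, mul_pow, inv_pow, mul_inv, inv_inv, mul_comm] at h2
    push_cast at h2
    rwa [show ((y' : G) ^ m) ^ j = y from hj] at h2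
  · rw [show s * (y * ((N : G) ^ j)⁻¹) * s⁻¹ = (s * y * s⁻¹) * ((s * (N : G) * s⁻¹) ^ j)⁻¹ by
      rw [conj_pow]; group, hfix s hs, hS s hs]
  · have hNc : (N : G) ^ j ∈ Subgroup.centralizer (E : Set G) := by
      refine pow_mem (Subgroup.mem_centralizer_iff.2 fun e he => ?_) j
      calc e * (N : G) = e * (N : G) * e⁻¹ * e := by group
        _ = (N : G) * e := by rw [hNfix ⟨e, he⟩]
    simpa using mul_mem h hNc

/-- The hypothesis `[E, Ω₁(Z(T))] ≠ 1` inside `V`. -/
theorem exists_moved (hG : Subgroup.centralizer (pCore p G : Set G) ≤ pCore p G) (T : Sylow p G)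
    (hE : IsBaumannBlock p (T : Subgroup G) E) :
    ∃ y ∈ vSub p G, (∀ t ∈ (T : Subgroup G), t * y * t⁻¹ = y) ∧ y ∉ Subgroup.centralizer (E : Set G) := by
  obtain ⟨y, hy, hne⟩ : ∃ y ∈ omegaOneCenter p (T : Subgroup G), y ∉ Subgroup.centralizer (E : Set G) := by
    by_contra h
    push Not at h
    refine hE.2.2.2.1 ?_
    rw [Subgroup.commutator_comm]
    exact Subgroup.commutator_eq_bot_iff_le_centralizer.2 h
  obtain ⟨h1, h2, h3⟩ := omegaOneCenter_props hy
  have hc : y ∈ Subgroup.centralizer (pCore p G : Set G) :=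
    Subgroup.centralizer_le (Fusion.pCore_le_sylow T) h2
  refine ⟨y, mem_omegaOneCenter (hG hc) hc h3, fun t ht => ?_, hne⟩
  rw [Subgroup.mem_centralizer_iff.1 h2 t ht, mul_inv_cancel_right]

/-- A block has a fixed vector for each of its Sylow subgroups. -/
theorem exists_fixed_sylow (hG : Subgroup.centralizer (pCore p G : Set G) ≤ pCore p G) (T₀ : Sylow p G)
    (hE : IsBaumannBlock p (T₀ : Subgroup G) E) (hs : E.IsSubnormal) {S : Subgroup G} (hSE : SylIn p S E) :
    ∃ v ∈ mov p E, (∀ s ∈ S, s * v * s⁻¹ = v) ∧ v ∉ Subgroup.centralizer (E : Set G) := by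
  obtain ⟨y, hy, hyT, hne⟩ := exists_moved hG T₀ hE
  obtain ⟨v, hv, hvS, hvne⟩ := transfer (sylIn_inf_subnormal T₀ hs) hy
    (fun s hs => hyT s (Subgroup.mem_inf.1 hs).1) hne
  obtain ⟨g, hg, hgS⟩ := (sylIn_inf_subnormal T₀ hs).conj_eq hSE
  have hgn : g ∈ Subgroup.normalizer (E : Set G) := Subgroup.le_normalizer hg
  refine ⟨g * v * g⁻¹, ?_, fun s hs => ?_, fun h => hvne ?_⟩
  · exact (Subgroup.mem_normalizer_iff.1
      (normalizer_mov (p := p) (H := Subgroup.normalizer (E : Set G)) le_rfl hgn) v).1 hv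
  · obtain ⟨t, ht, rfl⟩ : ∃ t ∈ (T₀ : Subgroup G) ⊓ E, g * t * g⁻¹ = s := by
      rw [← hgS] at hs
      exact ⟨g⁻¹ * s * g, Fusion.mem_cj.1 hs, by group⟩
    calc g * t * g⁻¹ * (g * v * g⁻¹) * (g * t * g⁻¹)⁻¹ = g * (t * v * t⁻¹) * g⁻¹ := by group
      _ = _ := by rw [hvS t ht]
  · refine Subgroup.mem_centralizer_iff.2 fun e he => ?_
    have h1 := Subgroup.mem_centralizer_iff.1 h _ ((Subgroup.mem_normalizer_iff.1 hgn e).1 he)
    calc e * v = g⁻¹ * (g * e * g⁻¹ * (g * v * g⁻¹)) * g := by group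
      _ = g⁻¹ * (g * v * g⁻¹ * (g * e * g⁻¹)) * g := by rw [h1]
      _ = v * e := by group

/-- A torus complement. -/
theorem LinCo.exists_complement {F : Type} [Field F] [Fintype F] (C : LinCo p E F) (hS : Shape p E)
    {S : Subgroup G} (hSE : SylIn p S E) {v : G} (hv : v ∈ mov p E) (hvS : ∀ s ∈ S, s * v * s⁻¹ = v)
    (hvne : v ∉ Subgroup.centralizer (E : Set G)) :
    ∃ k ∈ E ⊓ Subgroup.normalizer (S : Set G), C.c (k * v * k⁻¹) ≠ C.c v := by
  obtain ⟨n, hn⟩ := C.card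
  have hw : C.c v ≠ 0 := fun h => hvne ((C.c_zero v hv).1 h)
  obtain ⟨hUp, k₀, hk₀, hk₀v⟩ := stab_facts (by have := C.big; omega) hn hw
  obtain ⟨k, hk⟩ := C.surj k₀
  set U := stabVec (C.c v) with hU
  have hle : (S.subgroupOf E).map C.ρ ≤ U := by
    rintro _ ⟨s, hs, rfl⟩
    show _ = _
    rw [← C.c_conj s v hv, hvS (s : G) hs]
  have heq : (S.subgroupOf E).map C.ρ = U := by
    refine le_antisymm hle (Subgroup.relIndex_eq_one.1 ?_)
    obtain ⟨j, hj⟩ := hUp.index (((S.subgroupOf E).map C.ρ).subgroupOf U)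
    rw [Subgroup.relIndex, hj]
    by_contra hne
    have hdvd : p ∣ (S.subgroupOf E).index := by
      refine Nat.dvd_trans ?_ ((Subgroup.index_map_dvd _ C.surj))
      refine Nat.dvd_trans ?_ (Dvd.intro _ (Subgroup.relIndex_mul_index hle))
      rw [Subgroup.relIndex, hj]
      refine dvd_pow_self p fun h => hne ?_
      rw [h, pow_zero]
    exact hSE.not_dvd hdvd
  refine ⟨k, Subgroup.mem_inf.2 ⟨k.2, mem_normalizer_of_cj_le (Subgroup.map_le_iff_le_comap.2 fun s hs => ?_)⟩,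
    ?_⟩
  · show (k : G) * s * (k : G)⁻¹ ∈ S
    set s' : ↥E := ⟨s, hSE.le hs⟩ with hs'
    obtain ⟨t, ht, htρ⟩ : C.ρ (k * s' * k⁻¹) ∈ (S.subgroupOf E).map C.ρ := by
      rw [heq, map_mul, map_mul, map_inv, hk]
      exact hk₀ _ (hle ⟨s', hs, rfl⟩)
    have hQ : ((t⁻¹ * (k * s' * k⁻¹) : ↥E) : G) ∈ pCoreOf p E :=
      (C.ker _).1 (by rw [map_mul, map_inv, htρ, inv_mul_cancel])
    have hQS : pCoreOf p E ≤ S := by
      obtain ⟨T', hT'⟩ := hSE.exists_sylow_subgroupOf
      rw [pCoreOf, ← (Subgroup.map_subgroupOf_eq_of_le hSE.le)]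
      refine Subgroup.map_mono ?_
      rw [← hT']
      exact Fusion.pCore_le_sylow T'
    have h3 := mul_mem (show (t : G) ∈ S from ht) (hQS hQ)
    simpa [hs', mul_assoc] using h3
  · rw [C.c_conj k v hv, hk]
    exact hk₀v

/-- Every `p`-group normalising `E` and a Sylow subgroup of `E` fixes a vector of `[V, E]` outside `C(E)`. -/
theorem exists_fixed (hG : Subgroup.centralizer (pCore p G : Set G) ≤ pCore p G) (T₀ : Sylow p G)
    (hE : IsBaumannBlock p (T₀ : Subgroup G) E) (hs : E.IsSubnormal) (T : Sylow p G) :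
    ∃ x ∈ mov p E, x ∉ Subgroup.centralizer (E : Set G) ∧
      ∀ t ∈ (T : Subgroup G) ⊓ Subgroup.normalizer (E : Set G), t * x * t⁻¹ = x := by
  have hS := shape_of_block hG T₀ hE hs
  set P := (T : Subgroup G) ⊓ Subgroup.normalizer (E : Set G) with hP
  have hPp : IsPGroup p ↥P := T.isPGroup'.to_le inf_le_left
  have hPE : P ≤ Subgroup.normalizer (E : Set G) := inf_le_right
  have hmp : IsPGroup p ↥(mov p E) := (isPGroup_omegaOneCenter _).to_le hS.movW
  have key : ∀ M : Subgroup G, M ≤ mov p E → P ≤ Subgroup.normalizer (M : Set G) → M ≠ ⊥ →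
      M ⊓ Subgroup.centralizer (E : Set G) = ⊥ →
      ∃ x ∈ mov p E, x ∉ Subgroup.centralizer (E : Set G) ∧ ∀ t ∈ P, t * x * t⁻¹ = x := by
    intro M hM hPM hne hd
    obtain ⟨x, hx, hx1, hfix⟩ := fixed_mod hPp (hmp.to_le hM) (bot_lt_iff_ne_bot.2 hne) hPM
    refine ⟨x, hM hx, fun h => hx1 (hd ▸ Subgroup.mem_inf.2 ⟨hx, h⟩), fun t ht => ?_⟩
    have h1 := Subgroup.mem_bot.1 (hfix t ht)
    rwa [commutatorElement_def, mul_inv_eq_one] at h1
  have whole : mov p E ⊓ Subgroup.centralizer (E : Set G) = ⊥ →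
      ∃ x ∈ mov p E, x ∉ Subgroup.centralizer (E : Set G) ∧ ∀ t ∈ P, t * x * t⁻¹ = x :=
    fun h => key _ le_rfl (normalizer_mov hPE) (fun h' => hS.ne (by rw [h']; exact bot_le)) h
  rcases kinds hE hS with hk | ⟨F, _, _, ⟨C⟩⟩ | ⟨n, ⟨C⟩⟩
  · exact whole hk.disj
  swap
  · exact whole (C.disj hS)
  have hSE := sylIn_inf_subnormal T hs
  set S := (T : Subgroup G) ⊓ E with hSdef
  obtain ⟨v, hv, hvS, hvne⟩ := exists_fixed_sylow hG T₀ hE hs hSE
  obtain ⟨k, hk, hkv⟩ := C.exists_complement hS hSE hv hvS hvne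
  set X := mov p E ⊓ Subgroup.centralizer (S : Set G) with hX
  set K := E ⊓ Subgroup.normalizer (S : Set G) with hK
  have hPS : P ≤ Subgroup.normalizer (S : Set G) :=
    Block.le_normalizer_inf (inf_le_left.trans Subgroup.le_normalizer) hPE
  have hPX : P ≤ Subgroup.normalizer (X : Set G) := mem_normalizer_inf_centralizer (normalizer_mov hPE) hPS
  have hPK : P ≤ Subgroup.normalizer (K : Set G) := Block.le_normalizer_inf hPE fun t ht => by
    rw [Fusion.mem_normalizer_iff_cj, Fusion.cj_normalizer, Fusion.cj_eq_self (hPS ht)]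
  have hKX : K ≤ Subgroup.normalizer (X : Set G) :=
    mem_normalizer_inf_centralizer (normalizer_mov (inf_le_left.trans Subgroup.le_normalizer)) inf_le_right
  have hvX : v ∈ X := Subgroup.mem_inf.2 ⟨hv, Subgroup.mem_centralizer_iff.2 fun s hs => by
    calc s * v = s * v * s⁻¹ * s := by group
      _ = v * s := by rw [hvS s hs]⟩
  have hMX : ⁅X, K⁆ ≤ X := Subgroup.le_normalizer_iff_commutator_le_left.1 hKX
  refine key ⁅X, K⁆ (hMX.trans inf_le_left) ?_ ?_ ?_
  · intro t ht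
    rw [Fusion.mem_normalizer_iff_cj, Fusion.cj_commutator, Fusion.cj_eq_self (hPX ht),
      Fusion.cj_eq_self (hPK ht)]
  · intro h
    refine hkv ?_
    have h1 : ⁅v, k⁆ ∈ ⁅X, K⁆ := Subgroup.commutator_mem_commutator hvX hk
    rw [h, Subgroup.mem_bot, commutatorElement_eq_one_iff_mul_comm] at h1
    rw [← h1, mul_inv_cancel_right]
  · rw [Subgroup.eq_bot_iff_forall]
    rintro z ⟨hz, hzc⟩
    have hSK : S ≤ K := le_inf inf_le_right Subgroup.le_normalizer
    refine fixed_comm_eq_one (E := K) (W := X) (Q := S) hSK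
      ((Subgroup.normal_subgroupOf_iff_le_normalizer hSK).2 inf_le_right) hKX
      (fun a ha b hb => omega_comm _ (mov_le E ha.1) _ (mov_le E hb.1))
      (fun a ha w hw => Subgroup.mem_centralizer_iff.1 hw.2 a ha) ?_ hz
      (fun e he => Subgroup.mem_centralizer_iff.1 hzc e he.1)
      (omegaOneCenter_props (mov_le E ((Subgroup.mem_inf.1 (hMX hz)).1))).2.2
    exact Nat.Coprime.symm ((Nat.Prime.coprime_iff_not_dvd hp.out).2 (hSE.mono hSK inf_le_left).not_dvd)

end Cfsg.Agent.LocalEven.BlockNormal
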