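import Cfsg.Agent.Lib.LocalEven.BlockNormal.Fix
import Cfsg.Agent.Lib.LocalEven.NaturalSL2

/-!
# Semilinear maps of a natural section

An element normalising the group and the section acts semilinearly; a linear one of `p`-power order fixing a
nonzero vector is a shear.
-/

set_option autoImplicit false

open scoped commutatorElement

namespace Cfsg.Agent.LocalEven.BlockNormal

open Cfsg Cfsg.Agent.Fusion Cfsg.Agent.LocalEven.Block Cfsg.Agent.LocalEven.SubnBlock Matrix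

variable {F : Type} [Field F]

section algebra

/-- The determinant pairing. -/
def dd (w v : Fin 2 → F) : F := w 0 * v 1 - w 1 * v 0

theorem dd_self (w : Fin 2 → F) : dd w w = 0 := by simp [dd, mul_comm]

theorem dd_add (w u v : Fin 2 → F) : dd w (u + v) = dd w u + dd w v := by
  simp only [dd, Pi.add_apply]; ring

theorem dd_smul (w v : Fin 2 → F) (l : F) : dd w (l • v) = l * dd w v := by
  simp only [dd, Pi.smul_apply, smul_eq_mul]; ring

theorem decomp {w v' : Fin 2 → F} (h : dd w v' = 1) (v : Fin 2 → F) :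
    v = dd v v' • w + dd w v • v' := by
  simp only [dd] at h
  funext i
  fin_cases i <;> simp [dd] <;> linear_combination (-(v _)) * h

theorem exists_dual {w : Fin 2 → F} (hw : w ≠ 0) : ∃ v', dd w v' = 1 := by
  by_cases h0 : w 0 = 0
  · have h1 : w 1 ≠ 0 := fun h => hw (funext fun i => by fin_cases i <;> [exact h0; exact h])
    exact ⟨![-(w 1)⁻¹, 0], by simp [dd, h1]⟩
  · exact ⟨![0, (w 0)⁻¹], by simp [dd, h0]⟩

/-- The shear along `w`. -/
def shearM (w : Fin 2 → F) (t : F) : SpecialLinearGroup (Fin 2) F :=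
  ⟨!![1 - t * w 1 * w 0, t * w 0 * w 0; -(t * w 1 * w 1), 1 + t * w 0 * w 1],
    by simp [Matrix.det_fin_two]; ring⟩

theorem shearM_act (w v : Fin 2 → F) (t : F) :
    (shearM w t : Matrix (Fin 2) (Fin 2) F).mulVec v = v + (t * dd w v) • w := by
  funext i
  fin_cases i <;> simp [shearM, dd, Matrix.mulVec, dotProduct, Fin.sum_univ_two] <;> ring

/-- Additive maps commuting with the commutators of `SL₂` are scalars. -/
theorem commutant [Fintype F] (hq : 3 ≤ Fintype.card F) (T : (Fin 2 → F) → Fin 2 → F)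
    (hadd : ∀ u v, T (u + v) = T u + T v)
    (hc : ∀ M ∈ commutator (SpecialLinearGroup (Fin 2) F), ∀ v,
      T ((M : Matrix (Fin 2) (Fin 2) F).mulVec v) = (M : Matrix (Fin 2) (Fin 2) F).mulVec (T v)) :
    ∃ s : F, ∀ v, T v = s • v := by
  classical
  let Th : (Fin 2 → F) →+ (Fin 2 → F) := AddMonoidHom.mk' T hadd
  have hsub : ∀ u v, T (u - v) = T u - T v := fun u v => map_sub Th u v
  have hC : ∀ (x : F) v, T ![v 0 - x * v 1, -x * v 0 + (1 + x * x) * v 1] =
      ![T v 0 - x * T v 1, -x * T v 0 + (1 + x * x) * T v 1] := fun x v => by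
    have h := hc ⁅weylW, trU x⁆ (Subgroup.commutator_mem_commutator (Subgroup.mem_top _) (Subgroup.mem_top _)) v
    rwa [comm_mulVec, comm_mulVec] at h
  have hD : ∀ (x : F) v, T ![(1 + x * x) * v 0 + x * v 1, x * v 0 + v 1] =
      ![(1 + x * x) * T v 0 + x * T v 1, x * T v 0 + T v 1] := fun x v => by
    have h := hC x ![(1 + x * x) * v 0 + x * v 1, x * v 0 + v 1]
    simp only [Matrix.cons_val_zero, Matrix.cons_val_one] at h
    have e : (![(1 + x * x) * v 0 + x * v 1 - x * (x * v 0 + v 1),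
        -x * ((1 + x * x) * v 0 + x * v 1) + (1 + x * x) * (x * v 0 + v 1)] : Fin 2 → F) = v := by
      funext i; fin_cases i <;> simp <;> ring
    rw [e] at h
    set r := T ![(1 + x * x) * v 0 + x * v 1, x * v 0 + v 1] with hr
    funext i
    fin_cases i <;> simp [h] <;> ring
  have hsq : ∀ (x : F) v, T ((x * x) • v) = (x * x) • T v := fun x v => by
    have e : ((x * x) • v : Fin 2 → F) = (![v 0 - x * v 1, -x * v 0 + (1 + x * x) * v 1] - v) +
        (![(1 + x * x) * v 0 + x * v 1, x * v 0 + v 1] - v) := by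
      funext i; fin_cases i <;> simp [Matrix.vecHead, Matrix.vecTail] <;> ring
    rw [e, hadd, hsub, hsub, hC, hD]
    funext i; fin_cases i <;> simp [Matrix.vecHead, Matrix.vecTail] <;> ring
  have hlin : ∀ (l : F) v, T (l • v) = l • T v := fun l v => by
    obtain ⟨a, b, rfl⟩ := sum_two_squares l
    rw [add_smul, hadd, hsq, hsq, add_smul]
  obtain ⟨y, hy0, hy1⟩ : ∃ y : F, y ≠ 0 ∧ y ≠ 1 := by
    by_contra hc'
    push Not at hc'
    have hsub' : (Finset.univ : Finset F) ⊆ {0, 1} := fun z _ => by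
      by_cases hz : z = 0
      · simp [hz]
      · simp [hc' z hz]
    have := (Finset.card_le_card hsub').trans Finset.card_le_two
    rw [Finset.card_univ] at this
    omega
  set a := T ![1, 0] with ha
  set b := T ![0, 1] with hb
  have hdec : ∀ v, T v = v 0 • a + v 1 • b := fun v => by
    have e : v = v 0 • ![1, 0] + v 1 • ![0, 1] := by funext i; fin_cases i <;> simp
    conv_lhs => rw [e]
    rw [hadd, hlin, hlin]
  have k1 := hC 1 ![1, 0]
  have k2 := hC y ![1, 0]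
  have k3 := hC 1 ![0, 1]
  rw [hdec] at k1 k2 k3
  simp only [← ha, ← hb, Matrix.cons_val_zero, Matrix.cons_val_one] at k1 k2 k3
  have e11 := congrFun k1 0
  have e12 := congrFun k1 1
  have e21 := congrFun k2 0
  have e22 := congrFun k2 1
  have e31 := congrFun k3 0
  simp at e11 e12 e21 e22 e31
  have ha1 : a 1 = 0 := by
    have h5 : (y * (y - 1)) * a 1 = 0 := by linear_combination y * e12 - e22
    exact (mul_eq_zero.1 h5).resolve_left (mul_ne_zero hy0 (sub_ne_zero.2 hy1))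
  have hb0 : b 0 = 0 := by linear_combination -e11 + ha1
  have hbd : b 1 = a 0 := by linear_combination -e12 - ha1
  refine ⟨a 0, fun v => ?_⟩
  rw [hdec]
  funext i
  fin_cases i <;> simp [ha1, hb0, hbd] <;> ring

end algebra

theorem exists_natCast [Fintype F] {p : ℕ} [hp : Fact p.Prime] (hq : Fintype.card F = p) (l : F) :
    ∃ k : ℕ, (k : F) = l := by
  obtain ⟨a, rfl⟩ := (ZMod.ringEquivOfPrime F hp.out hq).surjective l
  exact ⟨a.val, by rw [← map_natCast (ZMod.ringEquivOfPrime F hp.out hq), ZMod.natCast_val, ZMod.cast_id]⟩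

theorem ringEquiv_prime [Fintype F] {p : ℕ} [hp : Fact p.Prime] (hq : Fintype.card F = p) (σ : F ≃+* F)
    (l : F) : σ l = l := by
  obtain ⟨k, rfl⟩ := exists_natCast hq l
  exact map_natCast σ k

variable {G : Type*} [Group G]

/-- Coordinates on a section. -/
structure Coord (U A : Subgroup G) (F : Type) [Field F] where
  c : G → Fin 2 → F
  c_mul : ∀ x ∈ U, ∀ y ∈ U, c (x * y) = c x + c y
  c_surj : ∀ v, ∃ x ∈ U, c x = v
  c_zero : ∀ x ∈ U, c x = 0 ↔ x ∈ A

/-- A natural section. -/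
structure Sec (E U A : Subgroup G) (F : Type) [Field F] extends Coord U A F where
  ρ : ↥E →* SpecialLinearGroup (Fin 2) F
  range : ρ.range = commutator (SpecialLinearGroup (Fin 2) F)
  norm : E ≤ Subgroup.normalizer (U : Set G)
  c_conj : ∀ e : ↥E, ∀ x ∈ U, c ((e : G) * x * (e : G)⁻¹) = (ρ e : Matrix (Fin 2) (Fin 2) F).mulVec (c x)

theorem exists_sec {E U A : Subgroup G}
    (h : ActsAsSL2OnSection F (commutator (SpecialLinearGroup (Fin 2) F)) E U A) :
    Nonempty (Sec E U A F) := by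
  classical
  obtain ⟨hn, -, ρ, ψ, hρ, hψ, hker, hact⟩ := h
  let c : G → Fin 2 → F := fun x => if h : x ∈ U then Multiplicative.toAdd (ψ ⟨x, h⟩) else 0
  have hc : ∀ x (h : x ∈ U), c x = Multiplicative.toAdd (ψ ⟨x, h⟩) := fun x h => dif_pos h
  refine ⟨⟨⟨c, fun x hx y hy => ?_, fun v => ?_, fun x hx => ?_⟩, ρ, hρ, hn, fun e x hx => ?_⟩⟩
  · rw [hc x hx, hc y hy, hc _ (mul_mem hx hy), ← toAdd_mul, ← map_mul]
    rfl
  · obtain ⟨u, hu⟩ := hψ (Multiplicative.ofAdd v)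
    exact ⟨u, u.2, by rw [hc _ u.2, Subtype.coe_eta, hu]; rfl⟩
  · rw [hc x hx, toAdd_eq_zero, hker]
  · obtain ⟨w, hw, hw'⟩ := hact e ⟨x, hx⟩
    show c _ = (ρ e : Matrix (Fin 2) (Fin 2) F).mulVec (c x)
    rw [← hw, hc _ w.2, hc x hx]
    exact hw'

namespace Coord

variable {U A : Subgroup G} (S : Coord U A F)
include S

theorem c_one : S.c 1 = 0 := (S.c_zero 1 (one_mem _)).2 (one_mem _)

theorem c_inv {x : G} (hx : x ∈ U) : S.c x⁻¹ = -S.c x := by
  have := S.c_mul x hx x⁻¹ (inv_mem hx)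
  rw [mul_inv_cancel, S.c_one] at this
  exact (neg_eq_of_add_eq_zero_right this.symm).symm

theorem conj_mem {g x : G} (hU : g ∈ Subgroup.normalizer (U : Set G)) (hx : x ∈ U) : g * x * g⁻¹ ∈ U :=
  (Subgroup.mem_normalizer_iff.1 hU x).1 hx

theorem congr_conj {g x y : G} (hU : g ∈ Subgroup.normalizer (U : Set G))
    (hA : g ∈ Subgroup.normalizer (A : Set G)) (hx : x ∈ U) (hy : y ∈ U) (h : S.c x = S.c y) :
    S.c (g * x * g⁻¹) = S.c (g * y * g⁻¹) := by
  have h1 : x⁻¹ * y ∈ A := (S.c_zero _ (mul_mem (inv_mem hx) hy)).1 (by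
    rw [S.c_mul _ (inv_mem hx) _ hy, S.c_inv hx, h, neg_add_cancel])
  have h2 := (Subgroup.mem_normalizer_iff.1 hA _).1 h1
  rw [show g * (x⁻¹ * y) * g⁻¹ = (g * x * g⁻¹)⁻¹ * (g * y * g⁻¹) by group,
    ← S.c_zero _ (mul_mem (inv_mem (S.conj_mem hU hx)) (S.conj_mem hU hy)),
    S.c_mul _ (inv_mem (S.conj_mem hU hx)) _ (S.conj_mem hU hy), S.c_inv (S.conj_mem hU hx)] at h2
  exact (neg_add_eq_zero.1 h2)

/-- `σ` is the field automorphism of `g`. -/
def IsSemi (g : G) (σ : F → F) : Prop :=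
  ∀ x ∈ U, ∀ y ∈ U, ∀ l : F, S.c y = l • S.c x → S.c (g * y * g⁻¹) = σ l • S.c (g * x * g⁻¹)

theorem semi_unique {g : G} (hU : g ∈ Subgroup.normalizer (U : Set G))
    (hA : g ∈ Subgroup.normalizer (A : Set G)) {σ τ : F → F} (h : S.IsSemi g σ) (h' : S.IsSemi g τ) :
    ∀ l, σ l = τ l := fun l => by
  obtain ⟨x, hx, hxc⟩ := S.c_surj ![1, 0]
  obtain ⟨y, hy, hyc⟩ := S.c_surj (l • ![1, 0])
  have h1 := (h x hx y hy l (by rw [hyc, hxc])).symm.trans (h' x hx y hy l (by rw [hyc, hxc]))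
  have hne : S.c (g * x * g⁻¹) ≠ 0 := fun h0 => by
    have hxA : x ∈ A := (Subgroup.mem_normalizer_iff.1 hA x).2 ((S.c_zero _ (S.conj_mem hU hx)).1 h0)
    rw [← S.c_zero x hx, hxc] at hxA
    simpa using congrFun hxA 0
  exact smul_left_injective F hne h1

theorem semi_one : S.IsSemi 1 id := fun x _ y _ l h => by simpa using h

theorem semi_mul {g h : G} (hU : h ∈ Subgroup.normalizer (U : Set G)) {σ τ : F → F}
    (hg : S.IsSemi g σ) (hh : S.IsSemi h τ) : S.IsSemi (g * h) (σ ∘ τ) := fun x hx y hy l e => by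
  rw [show g * h * y * (g * h)⁻¹ = g * (h * y * h⁻¹) * g⁻¹ by group,
    show g * h * x * (g * h)⁻¹ = g * (h * x * h⁻¹) * g⁻¹ by group]
  exact hg _ (S.conj_mem hU hx) _ (S.conj_mem hU hy) _ (hh x hx y hy l e)

/-- With a fixed vector the pairing is multiplied by `δ ∘ σ`. -/
theorem exists_delta {g : G} (hU : g ∈ Subgroup.normalizer (U : Set G)) {σ : F → F} (hg : S.IsSemi g σ)
    {x : G} (hx : x ∈ U) (hne : S.c x ≠ 0) (hfix : S.c (g * x * g⁻¹) = S.c x) :
    ∃ v' : G, v' ∈ U ∧ dd (S.c x) (S.c v') = 1 ∧ ∀ y ∈ U,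
      S.c (g * y * g⁻¹) = σ (dd (S.c y) (S.c v')) • S.c x + σ (dd (S.c x) (S.c y)) • S.c (g * v' * g⁻¹) ∧
      dd (S.c x) (S.c (g * y * g⁻¹)) =
        dd (S.c x) (S.c (g * v' * g⁻¹)) * σ (dd (S.c x) (S.c y)) := by
  obtain ⟨v, hv⟩ := exists_dual hne
  obtain ⟨v', hv', rfl⟩ := S.c_surj v
  refine ⟨v', hv', hv, fun y hy => ?_⟩
  obtain ⟨a, ha, hac⟩ := S.c_surj (dd (S.c y) (S.c v') • S.c x)
  obtain ⟨b, hb, hbc⟩ := S.c_surj (dd (S.c x) (S.c y) • S.c v')
  have hy' : (a * b)⁻¹ * y ∈ A := (S.c_zero _ (mul_mem (inv_mem (mul_mem ha hb)) hy)).1 (by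
    rw [S.c_mul _ (inv_mem (mul_mem ha hb)) _ hy, S.c_inv (mul_mem ha hb), S.c_mul a ha b hb, hac, hbc,
      ← decomp hv, neg_add_cancel])
  have heq : S.c (g * y * g⁻¹) =
      σ (dd (S.c y) (S.c v')) • S.c x + σ (dd (S.c x) (S.c y)) • S.c (g * v' * g⁻¹) := by
    obtain ⟨z, hz⟩ : ∃ z, (a * b)⁻¹ * y = z := ⟨_, rfl⟩
    have h1 := hg x hx a ha _ hac
    have h2 := hg v' hv' b hb _ hbc
    rw [hfix] at h1
    have hyab : S.c y = S.c (a * b) := by
      have := (S.c_zero _ (mul_mem (inv_mem (mul_mem ha hb)) hy)).2 hy'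
      rw [S.c_mul _ (inv_mem (mul_mem ha hb)) _ hy, S.c_inv (mul_mem ha hb), neg_add_eq_zero] at this
      exact this.symm
    have h3 := hg (a * b) (mul_mem ha hb) y hy 1 (by rw [one_smul, hyab])
    have hone : σ 1 = 1 := by
      have h4 := hg x hx x hx 1 (one_smul _ _).symm
      rw [hfix] at h4
      exact (smul_left_injective F hne (h4.symm.trans (one_smul _ _).symm))
    rw [hone, one_smul, show g * (a * b) * g⁻¹ = (g * a * g⁻¹) * (g * b * g⁻¹) by group,
      S.c_mul _ (S.conj_mem hU ha) _ (S.conj_mem hU hb), h1, h2] at h3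
    exact h3
  refine ⟨heq, ?_⟩
  rw [heq, dd_add, dd_smul, dd_smul, dd_self, mul_zero, zero_add, mul_comm]

/-- A linear element fixing a vector and the pairing with it is a shear. -/
theorem shear_of_pres {g : G} (hU : g ∈ Subgroup.normalizer (U : Set G)) (hg : S.IsSemi g id)
    {x : G} (hx : x ∈ U) (hne : S.c x ≠ 0) (hfix : S.c (g * x * g⁻¹) = S.c x)
    (hpres : ∀ y ∈ U, dd (S.c x) (S.c (g * y * g⁻¹)) = dd (S.c x) (S.c y)) :
    ∃ t : F, ∀ y ∈ U, S.c (g * y * g⁻¹) = S.c y + (t * dd (S.c x) (S.c y)) • S.c x := by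
  obtain ⟨v', hv', hd, hall⟩ := S.exists_delta hU hg hx hne hfix
  obtain ⟨t, ht⟩ : ∃ t, dd (S.c (g * v' * g⁻¹) - S.c v') (S.c v') = t := ⟨_, rfl⟩
  refine ⟨t, fun y hy => ?_⟩
  have h3 := decomp hd (S.c (g * v' * g⁻¹) - S.c v')
  have h4 : dd (S.c x) (S.c (g * v' * g⁻¹) - S.c v') = 0 := by
    rw [sub_eq_add_neg, dd_add, ← neg_one_smul F (S.c v'), dd_smul, hd, hpres v' hv', hd]
    ring
  rw [h4, zero_smul, add_zero, sub_eq_iff_eq_add', ht] at h3
  rw [(hall y hy).1, id_eq, id_eq]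
  conv_rhs => rw [decomp hd (S.c y)]
  rw [dd_add, dd_smul, dd_smul, dd_self, hd, h3]
  module

/-- A linear element of `p`-power order fixing a vector is a shear. -/
theorem exists_shear [Fintype F] {p : ℕ} [Fact p.Prime] {n : ℕ} (hF : Fintype.card F = p ^ n)
    {g : G} (hU : g ∈ Subgroup.normalizer (U : Set G)) (hg : S.IsSemi g id)
    {x : G} (hx : x ∈ U) (hne : S.c x ≠ 0) (hfix : S.c (g * x * g⁻¹) = S.c x) {k : ℕ}
    (hord : g ^ p ^ k = 1) :
    ∃ t : F, ∀ y ∈ U, S.c (g * y * g⁻¹) = S.c y + (t * dd (S.c x) (S.c y)) • S.c x := by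
  haveI := NatSL2.charP_of_card hF
  obtain ⟨v', hv', hd, hall⟩ := S.exists_delta hU hg hx hne hfix
  set δ := dd (S.c x) (S.c (g * v' * g⁻¹)) with hδ
  have hpow : ∀ j : ℕ, dd (S.c x) (S.c (g ^ j * v' * (g ^ j)⁻¹)) = δ ^ j := by
    intro j
    induction j with
    | zero => simpa using hd
    | succ j ih =>
      rw [show g ^ (j + 1) * v' * (g ^ (j + 1))⁻¹ = g * (g ^ j * v' * (g ^ j)⁻¹) * g⁻¹ by
        rw [pow_succ']; group, (hall _ (S.conj_mem (pow_mem hU j) hv')).2, ih, id_eq, pow_succ']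
  have hδ1 : δ = 1 := by
    have h1 := hpow (p ^ k)
    rw [hord] at h1
    simp only [one_mul, inv_one, mul_one, hd] at h1
    have h2 : (δ - 1) ^ p ^ k = 0 := by rw [sub_pow_char_pow, one_pow, ← h1, sub_self]
    exact sub_eq_zero.1 (pow_eq_zero_iff (pow_ne_zero _ (Fact.out : p.Prime).ne_zero) |>.1 h2)
  exact S.shear_of_pres hU hg hx hne hfix fun y hy => by rw [(hall y hy).2, hδ1, one_mul, id_eq]

/-- A shear preserves the pairing. -/
theorem shear_dd {w a b : Fin 2 → F} (t : F) :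
    dd (a + (t * dd w a) • w) (b + (t * dd w b) • w) = dd a b := by
  simp only [dd, Pi.add_apply, Pi.smul_apply, smul_eq_mul]
  ring

/-- Powers of a shear. -/
theorem shear_pow {g x : G} (hU : g ∈ Subgroup.normalizer (U : Set G)) {t : F}
    (hs : ∀ y ∈ U, S.c (g * y * g⁻¹) = S.c y + (t * dd (S.c x) (S.c y)) • S.c x) :
    ∀ (i : ℕ) (y : G), y ∈ U →
      S.c (g ^ i * y * (g ^ i)⁻¹) = S.c y + ((i : F) * t * dd (S.c x) (S.c y)) • S.c x := by
  intro i
  induction i with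
  | zero => intro y _; simp
  | succ i ih =>
    intro y hy
    rw [show g ^ (i + 1) * y * (g ^ (i + 1))⁻¹ = g * (g ^ i * y * (g ^ i)⁻¹) * g⁻¹ by
      rw [pow_succ']; group, hs _ (S.conj_mem (pow_mem hU i) hy), ih y hy, dd_add, dd_smul, dd_self,
      Nat.cast_succ]
    module

/-- A linear shear is quadratic. -/
theorem shear_quadratic {g x : G} (hU : g ∈ Subgroup.normalizer (U : Set G)) {t : F}
    (hs : ∀ y ∈ U, S.c (g * y * g⁻¹) = S.c y + (t * dd (S.c x) (S.c y)) • S.c x) :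
    ∀ y ∈ U, ∀ i j : ℕ, ⁅⁅y, g ^ i⁆, g ^ j⁆ ∈ A := by
  have hnU : ∀ (i : ℕ), ∀ y ∈ U, g ^ i * y * (g ^ i)⁻¹ ∈ U := fun i y hy => S.conj_mem (pow_mem hU i) hy
  have hcomm : ∀ (i : ℕ) (y : G), y ∈ U → ⁅y, g ^ i⁆ ∈ U ∧
      S.c ⁅y, g ^ i⁆ = (-((i : F) * t * dd (S.c x) (S.c y))) • S.c x := by
    intro i y hy
    have e : ⁅y, g ^ i⁆ = y * (g ^ i * y * (g ^ i)⁻¹)⁻¹ := by simp only [commutatorElement_def]; group
    rw [e]
    refine ⟨mul_mem hy (inv_mem (hnU i y hy)), ?_⟩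
    rw [S.c_mul _ hy _ (inv_mem (hnU i y hy)), S.c_inv (hnU i y hy), S.shear_pow hU hs i y hy]
    module
  intro y hy i j
  obtain ⟨h1, h2⟩ := hcomm i y hy
  obtain ⟨h3, h4⟩ := hcomm j _ h1
  refine (S.c_zero _ h3).1 ?_
  rw [h4, h2, dd_smul, dd_self]
  simp

theorem eq_iff {x y : G} (hx : x ∈ U) (hy : y ∈ U) : S.c x = S.c y ↔ x⁻¹ * y ∈ A := by
  rw [← S.c_zero _ (mul_mem (inv_mem hx) hy), S.c_mul _ (inv_mem hx) _ hy, S.c_inv hx, neg_add_eq_zero]

theorem c_pow {x : G} (hx : x ∈ U) : ∀ k : ℕ, S.c (x ^ k) = (k : F) • S.c x := by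
  intro k
  induction k with
  | zero => simp [S.c_one]
  | succ k ih => rw [pow_succ, S.c_mul _ (pow_mem hx k) _ hx, ih, Nat.cast_succ, add_smul, one_smul]

theorem semi_of_scalar {g : G} {s : F} (h : ∀ y ∈ U, S.c (g * y * g⁻¹) = s • S.c y) : S.IsSemi g id :=
  fun x hx y hy l e => by rw [h x hx, h y hy, e, id_eq, smul_comm]

/-- Over the prime field everything is linear. -/
theorem semi_prime [Fintype F] {p : ℕ} [hp : Fact p.Prime] (hq : Fintype.card F = p) {g : G}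
    (hU : g ∈ Subgroup.normalizer (U : Set G)) (hA : g ∈ Subgroup.normalizer (A : Set G)) :
    S.IsSemi g id := fun x hx y hy l e => by
  obtain ⟨k, rfl⟩ := exists_natCast hq l
  rw [← S.c_pow hx k] at e
  rw [id_eq, S.congr_conj hU hA hy (pow_mem hx k) e, ← S.c_pow (S.conj_mem hU hx) k, conj_pow]

end Coord

namespace Sec

variable {E U A : Subgroup G} (S : Sec E U A F)
include S

/-- Elements normalising everything are semilinear. -/
theorem exists_semi [Fintype F] (hq : 3 ≤ Fintype.card F) {g : G}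
    (hE : g ∈ Subgroup.normalizer (E : Set G))
    (hU : g ∈ Subgroup.normalizer (U : Set G)) (hA : g ∈ Subgroup.normalizer (A : Set G)) :
    ∃ σ : F ≃+* F, S.IsSemi g σ := by
  classical
  choose lf hlf hclf using S.c_surj
  let T : (Fin 2 → F) → Fin 2 → F := fun v => S.c (g * lf v * g⁻¹)
  let T' : (Fin 2 → F) → Fin 2 → F := fun v => S.c (g⁻¹ * lf v * g⁻¹⁻¹)
  have hT : ∀ x ∈ U, T (S.c x) = S.c (g * x * g⁻¹) := fun x hx =>
    S.congr_conj hU hA (hlf _) hx (hclf _)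
  have hT' : ∀ x ∈ U, T' (S.c x) = S.c (g⁻¹ * x * g⁻¹⁻¹) := fun x hx =>
    S.congr_conj (inv_mem hU) (inv_mem hA) (hlf _) hx (hclf _)
  have hTT' : ∀ v, T (T' v) = v := fun v => by
    show T (S.c _) = v
    rw [hT _ (S.conj_mem (inv_mem hU) (hlf v)), show g * (g⁻¹ * lf v * g⁻¹⁻¹) * g⁻¹ = lf v by group, hclf]
  have hT'T : ∀ v, T' (T v) = v := fun v => by
    show T' (S.c _) = v
    rw [hT' _ (S.conj_mem hU (hlf v)), show g⁻¹ * (g * lf v * g⁻¹) * g⁻¹⁻¹ = lf v by group, hclf]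
  have hTadd : ∀ u v, T (u + v) = T u + T v := fun u v => by
    obtain ⟨x, hx, rfl⟩ := S.c_surj u
    obtain ⟨y, hy, rfl⟩ := S.c_surj v
    rw [← S.c_mul x hx y hy, hT _ (mul_mem hx hy), hT x hx, hT y hy,
      show g * (x * y) * g⁻¹ = (g * x * g⁻¹) * (g * y * g⁻¹) by group,
      S.c_mul _ (S.conj_mem hU hx) _ (S.conj_mem hU hy)]
  have hT'add : ∀ u v, T' (u + v) = T' u + T' v := fun u v => by
    conv_lhs => rw [← hTT' u, ← hTT' v, ← hTadd, hT'T]
  have hscal : ∀ l : F, ∃ s : F, ∀ v, T (l • T' v) = s • v := fun l =>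
    commutant hq _ (fun u v => by rw [hT'add, smul_add, hTadd]) fun M hM v => by
      rw [← S.range] at hM
      obtain ⟨e, rfl⟩ := hM
      let e' : ↥E := ⟨g⁻¹ * (e : G) * g⁻¹⁻¹, (Subgroup.mem_normalizer_iff.1 (inv_mem hE) _).1 e.2⟩
      have h1 : ∀ u, T' ((S.ρ e : Matrix (Fin 2) (Fin 2) F).mulVec u) =
          (S.ρ e' : Matrix (Fin 2) (Fin 2) F).mulVec (T' u) := fun u => by
        obtain ⟨x, hx, rfl⟩ := S.c_surj u
        rw [← S.c_conj e x hx, hT' _ (S.conj_mem (S.norm e.2) hx), hT' x hx,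
          ← S.c_conj e' _ (S.conj_mem (inv_mem hU) hx)]
        congr 1
        show _ = g⁻¹ * (e : G) * g⁻¹⁻¹ * (g⁻¹ * x * g⁻¹⁻¹) * (g⁻¹ * (e : G) * g⁻¹⁻¹)⁻¹
        group
      have h2 : ∀ u, T ((S.ρ e' : Matrix (Fin 2) (Fin 2) F).mulVec u) =
          (S.ρ e : Matrix (Fin 2) (Fin 2) F).mulVec (T u) := fun u => by
        conv_lhs => rw [← hT'T u]
        rw [← h1, hTT']
      show T (l • T' _) = _
      rw [h1, ← Matrix.mulVec_smul, h2]
  choose s hs using hscal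
  set e0 : Fin 2 → F := ![1, 0] with he0
  have huniq : ∀ a b : F, a • e0 = b • e0 → a = b := fun a b h => by simpa [he0] using congrFun h 0
  have hone : s 1 = 1 := huniq _ _ (by rw [← hs 1 e0, one_smul, one_smul, hTT'])
  have hadd : ∀ a b, s (a + b) = s a + s b := fun a b => huniq _ _ (by
    rw [← hs (a + b) e0, add_smul, hTadd, hs, hs, add_smul])
  have hmul : ∀ a b, s (a * b) = s a * s b := fun a b => huniq _ _ (by
    rw [← hs (a * b) e0, mul_smul, mul_smul, ← hs b e0, ← hs a, hT'T])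
  let σ : F →+* F :=
    { toFun := s
      map_one' := hone
      map_mul' := hmul
      map_zero' := by
        have h00 := hadd 0 0
        rw [add_zero] at h00
        exact left_eq_add.1 h00
      map_add' := hadd }
  refine ⟨RingEquiv.ofBijective σ (Finite.injective_iff_bijective.1 σ.injective), fun x hx y hy l h => ?_⟩
  show _ = s l • _
  rw [← hT y hy, h, ← hT x hx, ← hs l, hT'T]

theorem semi_of_mem {e : G} (he : e ∈ E) : S.IsSemi e id := fun x hx y hy l h => by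
  rw [S.c_conj ⟨e, he⟩ x hx, S.c_conj ⟨e, he⟩ y hy, h, Matrix.mulVec_smul]
  rfl

/-- Elements commuting with the group on the section are linear. -/
theorem semi_of_comm [Fintype F] (hq : 3 ≤ Fintype.card F) {g : G}
    (hU : g ∈ Subgroup.normalizer (U : Set G)) (hA : g ∈ Subgroup.normalizer (A : Set G))
    (h : ∀ e : ↥E, ∀ x ∈ U, S.c (g * ((e : G) * x * (e : G)⁻¹) * g⁻¹) =
      (S.ρ e : Matrix (Fin 2) (Fin 2) F).mulVec (S.c (g * x * g⁻¹))) :
    ∃ s : F, ∀ x ∈ U, S.c (g * x * g⁻¹) = s • S.c x := by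
  choose lf hlf hclf using S.c_surj
  obtain ⟨s, hs⟩ := commutant hq (fun v => S.c (g * lf v * g⁻¹)) (fun u v => by
    show S.c (g * lf (u + v) * g⁻¹) = S.c (g * lf u * g⁻¹) + S.c (g * lf v * g⁻¹)
    rw [← S.c_mul _ (S.conj_mem hU (hlf u)) _ (S.conj_mem hU (hlf v)),
      show g * lf u * g⁻¹ * (g * lf v * g⁻¹) = g * (lf u * lf v) * g⁻¹ by group]
    exact S.congr_conj hU hA (hlf _) (mul_mem (hlf u) (hlf v)) (by rw [hclf, S.c_mul _ (hlf u) _ (hlf v), hclf, hclf]))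
    fun M hM v => by
      rw [← S.range] at hM
      obtain ⟨e, rfl⟩ := hM
      show S.c (g * lf _ * g⁻¹) = _
      rw [← h e (lf v) (hlf v)]
      exact S.congr_conj hU hA (hlf _) (S.conj_mem (S.norm e.2) (hlf v))
        (by rw [hclf, S.c_conj e _ (hlf v), hclf])
  refine ⟨s, fun x hx => ?_⟩
  rw [S.congr_conj hU hA hx (hlf (S.c x)) (hclf _).symm]
  exact hs _

end Sec

end Cfsg.Agent.LocalEven.BlockNormal
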