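import Cfsg.Agent.Lib.LocalEven.BlockNormal.Orbit
import Cfsg.Agent.Lib.LocalEven.BlockNormal.Sec

/-!
# The action on `[V, E]` is inner

The elements of `B(G)` of order prime to `p` act on `[V, E]` as elements of a subnormal block `E`; for `q ≥ 4`
all of `B(G)` does.
-/

set_option autoImplicit false

open scoped commutatorElement Pointwise

namespace Cfsg.Agent.LocalEven.BlockNormal

open Cfsg Cfsg.Agent.Fusion Cfsg.Agent.LocalEven.Block Cfsg.Agent.LocalEven.SubnBlock

variable {G : Type*} [Group G] [Finite G] {p : ℕ} [hp : Fact p.Prime] {E : Subgroup G}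

variable (p) in
/-- The elements of `N(E)` centralising `[V, E]`. -/
abbrev C0 (E : Subgroup G) : Subgroup G :=
  Subgroup.normalizer (E : Set G) ⊓ Subgroup.centralizer (mov p E : Set G)

theorem mov_comm {a b : G} (ha : a ∈ mov p E) (hb : b ∈ mov p E) : a * b = b * a :=
  omega_comm _ (mov_le E ha) _ (mov_le E hb)

theorem mov_conj {g x : G} (hg : g ∈ Subgroup.normalizer (E : Set G)) (hx : x ∈ mov p E) :
    g * x * g⁻¹ ∈ mov p E :=
  (Subgroup.mem_normalizer_iff.1 (normalizer_mov (p := p) le_rfl hg) x).1 hx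

theorem cent_norm : Subgroup.normalizer (E : Set G) ≤
    Subgroup.normalizer (Subgroup.centralizer (E : Set G) : Set G) :=
  normalizer_centralizer le_rfl

/-- `LinCo` as coordinates. -/
def LinCo.toSec {F : Type} [Field F] [Fintype F] (C : LinCo p E F) :
    Sec E (mov p E) (Subgroup.centralizer (E : Set G)) F where
  c := C.c
  c_mul := C.c_mul
  c_surj := C.c_surj
  c_zero := C.c_zero
  ρ := C.ρ
  range := by rw [(sl2_quasisimple C.big).1, MonoidHom.range_eq_top.2 C.surj]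
  norm := mov_normalizer E
  c_conj := C.c_conj

/-- Only `Q` acts trivially. -/
theorem faith {T : Subgroup G} (hT : IsBaumannBlock p T E) (hS : Shape p E) {e : G} (he : e ∈ E)
    (h : ∀ x ∈ mov p E, x⁻¹ * (e * x * e⁻¹) ∈ Subgroup.centralizer (E : Set G)) : e ∈ pCoreOf p E := by
  rcases kinds hT hS with hk | ⟨F, _, _, ⟨C⟩⟩ | ⟨n, ⟨C⟩⟩
  · rw [hS.inter]
    refine Subgroup.mem_inf.2 ⟨he, hk.faith e he fun x hx => ?_⟩
    rw [← hk.disj]
    exact Subgroup.mem_inf.2 ⟨mul_mem (inv_mem hx) (mov_conj (Subgroup.le_normalizer he) hx), h x hx⟩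
  · refine (C.ker ⟨e, he⟩).1 (sl_ext fun v => ?_)
    obtain ⟨x, hx, rfl⟩ := C.c_surj v
    have h1 := mov_conj (p := p) (Subgroup.le_normalizer he) hx
    rw [← C.c_conj ⟨e, he⟩ x hx]
    exact ((C.toSec.eq_iff hx h1).2 (h x hx)).symm
  · refine (C.ker ⟨e, he⟩).1 ?_
    by_contra hne
    have hn := C.big
    obtain ⟨v, hv, hne'⟩ := perm_witness (show 3 ≤ n by omega) hne
    obtain ⟨x, hx, rfl⟩ := C.c_surj v hv
    have h1 := mov_conj (p := p) (Subgroup.le_normalizer he) hx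
    refine hne' (funext fun l => ?_)
    have h2 := congrFun ((C.c_zero _ (mul_mem (inv_mem hx) h1)).2 (h x hx)) l
    rw [C.c_mul _ (inv_mem hx) _ h1, C.inv_self hx, Pi.add_apply, C.c_conj ⟨e, he⟩ x hx] at h2
    simpa using (CharTwo.add_eq_zero.1 (h2 : _ = (0 : ZMod 2))).symm

/-- The elements of `N(E)` trivial on `[V, E]` modulo `C(E)`. -/
def C1 (p : ℕ) [Fact p.Prime] (E : Subgroup G) : Subgroup G where
  carrier := {g | g ∈ Subgroup.normalizer (E : Set G) ∧
    ∀ x ∈ mov p E, x⁻¹ * (g * x * g⁻¹) ∈ Subgroup.centralizer (E : Set G)}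
  one_mem' := ⟨one_mem _, fun x _ => by simp⟩
  mul_mem' := by
    rintro a b ⟨ha, ha'⟩ ⟨hb, hb'⟩
    refine ⟨mul_mem ha hb, fun x hx => ?_⟩
    rw [show x⁻¹ * (a * b * x * (a * b)⁻¹) =
      x⁻¹ * (a * x * a⁻¹) * (a * (x⁻¹ * (b * x * b⁻¹)) * a⁻¹) by group]
    exact mul_mem (ha' x hx) ((Subgroup.mem_normalizer_iff.1 (cent_norm ha) _).1 (hb' x hx))
  inv_mem' := by
    rintro a ⟨ha, ha'⟩
    refine ⟨inv_mem ha, fun x hx => ?_⟩
    have h := ha' _ (mov_conj (inv_mem ha) hx)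
    rw [show (a⁻¹ * x * a⁻¹⁻¹)⁻¹ * (a * (a⁻¹ * x * a⁻¹⁻¹) * a⁻¹) = (x⁻¹ * (a⁻¹ * x * a⁻¹⁻¹))⁻¹ by group] at h
    exact inv_mem_iff.1 h

theorem C1_conj {n g : G} (hn : n ∈ Subgroup.normalizer (E : Set G)) (hg : g ∈ C1 p E) :
    n * g * n⁻¹ ∈ C1 p E := by
  refine ⟨mul_mem (mul_mem hn hg.1) (inv_mem hn), fun x hx => ?_⟩
  have h := hg.2 _ (mov_conj (inv_mem hn) hx)
  rw [show x⁻¹ * (n * g * n⁻¹ * x * (n * g * n⁻¹)⁻¹) =
    n * ((n⁻¹ * x * n⁻¹⁻¹)⁻¹ * (g * (n⁻¹ * x * n⁻¹⁻¹) * g⁻¹)) * n⁻¹ by group]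
  exact (Subgroup.mem_normalizer_iff.1 (cent_norm hn) _).1 h

theorem comm_C1_le {T : Subgroup G} (hT : IsBaumannBlock p T E) (hS : Shape p E) :
    ⁅E, C1 p E⁆ ≤ pCoreOf p E := Subgroup.commutator_le.2 fun e he g hg => by
  have h1 : ⁅e, g⁆ ∈ E := (comm_mem he hg.1).1
  have h2 : ⁅e, g⁆ ∈ C1 p E := by
    rw [commutatorElement_def]
    exact mul_mem (C1_conj (Subgroup.le_normalizer he) hg) (inv_mem hg)
  exact faith hT hS h1 h2.2

/-- Triviality modulo `C(E)` is triviality. -/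
theorem C1_le {T : Subgroup G} (hT : IsBaumannBlock p T E) (hS : Shape p E) :
    C1 p E ≤ C0 p E := by
  refine le_inf (fun g hg => hg.1) ?_
  have h1 : ⁅⁅E, C1 p E⁆, mov p E⁆ = ⊥ :=
    Subgroup.commutator_eq_bot_iff_le_centralizer.2 ((comm_C1_le hT hS).trans fun a ha =>
      Subgroup.mem_centralizer_iff.2 fun x hx =>
        (Subgroup.mem_centralizer_iff.1 (omegaOneCenter_props (hS.movW hx)).2.1 a ha).symm)
  have h2 : ⁅⁅C1 p E, mov p E⁆, E⁆ = ⊥ :=
    Subgroup.commutator_eq_bot_iff_le_centralizer.2 (Subgroup.commutator_le.2 fun g hg x hx => by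
      rw [show ⁅g, x⁆ = x * (x⁻¹ * (g * x * g⁻¹)) * x⁻¹ by rw [commutatorElement_def]; group]
      exact (Subgroup.mem_normalizer_iff.1
        (cent_norm (Subgroup.le_normalizer (mov_le_block hS hx))) _).1 (hg.2 x hx))
  have h3 := Subgroup.commutator_commutator_eq_bot_of_rotate h1 h2
  rw [hS.movE, Subgroup.commutator_comm] at h3
  exact Subgroup.commutator_eq_bot_iff_le_centralizer.1 h3

theorem C0_le_C1 : C0 p E ≤ C1 p E := fun g hg => ⟨hg.1, fun x hx => by
  rw [← Subgroup.mem_centralizer_iff.1 hg.2 x hx, mul_inv_cancel_right, inv_mul_cancel]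
  exact one_mem _⟩

theorem comm_C0_le {T : Subgroup G} (hT : IsBaumannBlock p T E) (hS : Shape p E) :
    ⁅E, C0 p E⁆ ≤ pCoreOf p E :=
  (Subgroup.commutator_mono le_rfl C0_le_C1).trans (comm_C1_le hT hS)

theorem C0_conj {n g : G} (hn : n ∈ Subgroup.normalizer (E : Set G)) (hg : g ∈ C0 p E) :
    n * g * n⁻¹ ∈ C0 p E := by
  refine Subgroup.mem_inf.2 ⟨mul_mem (mul_mem hn hg.1) (inv_mem hn), ?_⟩
  exact (Subgroup.mem_normalizer_iff.1 (normalizer_centralizer (normalizer_mov le_rfl) hn) _).1 hg.2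

theorem exists_of_mem_inn {g : G} (hg : g ∈ E ⊔ C0 p E) : ∃ e ∈ E, ∃ c ∈ C0 p E, g = e * c := by
  have h1 : g ∈ ((E ⊔ C0 p E : Subgroup G) : Set G) := hg
  rw [Subgroup.coe_mul_of_right_le_normalizer_left _ _ inf_le_left] at h1
  obtain ⟨e, he, c, hc, rfl⟩ := h1
  exact ⟨e, he, c, hc, rfl⟩

theorem mem_inn_of_eq {T : Subgroup G} (hT : IsBaumannBlock p T E) (hS : Shape p E) {g e : G}
    (hg : g ∈ Subgroup.normalizer (E : Set G)) (he : e ∈ E)
    (h : ∀ x ∈ mov p E, (g * x * g⁻¹)⁻¹ * (e * x * e⁻¹) ∈ Subgroup.centralizer (E : Set G)) :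
    g ∈ E ⊔ C0 p E := by
  have hc : g⁻¹ * e ∈ C0 p E := by
    refine C1_le hT hS ⟨mul_mem (inv_mem hg) (Subgroup.le_normalizer he), fun x hx => ?_⟩
    rw [show x⁻¹ * (g⁻¹ * e * x * (g⁻¹ * e)⁻¹) = g⁻¹ * ((g * x * g⁻¹)⁻¹ * (e * x * e⁻¹)) * g⁻¹⁻¹ by group]
    exact (Subgroup.mem_normalizer_iff.1 (cent_norm (inv_mem hg)) _).1 (h x hx)
  rw [show g = e * (g⁻¹ * e)⁻¹ by group]
  exact mul_mem (Subgroup.mem_sup_left he) (Subgroup.mem_sup_right (inv_mem hc))

/-! ### `q ≥ 4` -/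

section lin

variable {F : Type} [Field F] [Fintype F]

/-- Multiples of a vector fixed by a Sylow subgroup of `E` are reached inside its normaliser. -/
theorem LinCo.exists_scalar (C : LinCo p E F) {S : Subgroup G} (hSE : SylIn p S E) {v : G}
    (hv : v ∈ mov p E) (hvS : ∀ s ∈ S, s * v * s⁻¹ = v)
    (hvne : v ∉ Subgroup.centralizer (E : Set G)) {a : F} (ha : a ≠ 0) :
    ∃ k ∈ E ⊓ Subgroup.normalizer (S : Set G), C.c (k * v * k⁻¹) = a • C.c v := by
  obtain ⟨n, hn⟩ := C.card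
  have hw : C.c v ≠ 0 := fun h => hvne ((C.c_zero v hv).1 h)
  obtain ⟨hUp, -⟩ := stab_facts (by have := C.big; omega) hn hw
  set U := stabVec (C.c v) with hU
  obtain ⟨g, hg⟩ := exists_to_e1 hw
  obtain ⟨k, hk⟩ := C.surj (g * dt a ha * g⁻¹)
  have hkv : (C.ρ k : Matrix (Fin 2) (Fin 2) F).mulVec (C.c v) = a • C.c v := by
    rw [hk, ← hg, act_mul_vec, act_mul_vec, act_inv_vec, ← Matrix.mulVec_smul]
    congr 1
    funext i
    fin_cases i <;> simp [dt, Matrix.mulVec, dotProduct, Fin.sum_univ_two]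
  have hstab : ∀ M ∈ U, C.ρ k * M * (C.ρ k)⁻¹ ∈ U := fun M hM => by
    show _ = _
    have h1 : ((C.ρ k)⁻¹ : Matrix.SpecialLinearGroup (Fin 2) F).1.mulVec (C.c v) = a⁻¹ • C.c v := by
      have h2 := act_inv_vec (C.ρ k) (C.c v)
      rw [hkv, Matrix.mulVec_smul] at h2
      conv_rhs => rw [← h2, smul_smul, inv_mul_cancel₀ ha, one_smul]
    rw [act_mul_vec, act_mul_vec, h1, Matrix.mulVec_smul, Matrix.mulVec_smul,
      show (M : Matrix (Fin 2) (Fin 2) F).mulVec _ = _ from hM, hkv, smul_smul, inv_mul_cancel₀ ha, one_smul]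
  have hle : (S.subgroupOf E).map C.ρ ≤ U := by
    rintro _ ⟨s, hs, rfl⟩
    show _ = _
    rw [← C.c_conj s v hv, hvS (s : G) hs]
  have heq : (S.subgroupOf E).map C.ρ = U := by
    refine le_antisymm hle (Subgroup.relIndex_eq_one.1 ?_)
    obtain ⟨j, hj⟩ := hUp.index (((S.subgroupOf E).map C.ρ).subgroupOf U)
    rw [Subgroup.relIndex, hj]
    by_contra hne
    have hdvd : p ∣ (S.subgroupOf E).index := by
      refine Nat.dvd_trans ?_ ((Subgroup.index_map_dvd _ C.surj))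
      refine Nat.dvd_trans ?_ (Dvd.intro _ (Subgroup.relIndex_mul_index hle))
      rw [Subgroup.relIndex, hj]
      refine dvd_pow_self p fun h => hne ?_
      rw [h, pow_zero]
    exact hSE.not_dvd hdvd
  refine ⟨k, Subgroup.mem_inf.2 ⟨k.2, mem_normalizer_of_cj_le (Subgroup.map_le_iff_le_comap.2 fun s hs => ?_)⟩,
    by rw [C.c_conj k v hv, hkv]⟩
  show (k : G) * s * (k : G)⁻¹ ∈ S
  set s' : ↥E := ⟨s, hSE.le hs⟩ with hs'
  obtain ⟨t, ht, htρ⟩ : C.ρ (k * s' * k⁻¹) ∈ (S.subgroupOf E).map C.ρ := by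
    rw [heq, map_mul, map_mul, map_inv]
    exact hstab _ (hle ⟨s', hs, rfl⟩)
  have hQ : ((t⁻¹ * (k * s' * k⁻¹) : ↥E) : G) ∈ pCoreOf p E :=
    (C.ker _).1 (by rw [map_mul, map_inv, htρ, inv_mul_cancel])
  have hQS : pCoreOf p E ≤ S := by
    obtain ⟨T', hT'⟩ := hSE.exists_sylow_subgroupOf
    rw [pCoreOf, ← (Subgroup.map_subgroupOf_eq_of_le hSE.le)]
    refine Subgroup.map_mono ?_
    rw [← hT']
    exact Fusion.pCore_le_sylow T'
  have h3 := mul_mem (show (t : G) ∈ S from ht) (hQS hQ)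
  simpa [hs', mul_assoc] using h3

/-- An invariant complement in the fixed points of a Sylow subgroup of `E` covering a line. -/
theorem LinCo.exists_line (C : LinCo p E F) (T : Sylow p G) (hs : E.IsSubnormal) {x : G}
    (hx : x ∈ mov p E) (hxne : x ∉ Subgroup.centralizer (E : Set G))
    (hfix : ∀ t ∈ (T : Subgroup G) ⊓ Subgroup.normalizer (E : Set G), t * x * t⁻¹ = x) :
    ∃ M : Subgroup G, M ≤ mov p E ∧ M ⊓ Subgroup.centralizer (E : Set G) = ⊥ ∧
      (T : Subgroup G) ⊓ Subgroup.normalizer (E : Set G) ≤ Subgroup.normalizer (M : Set G) ∧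
      ∀ l : F, ∃ m ∈ M, C.c m = l • C.c x := by
  have hSE := sylIn_inf_subnormal T hs
  set S := (T : Subgroup G) ⊓ E with hSdef
  set P := (T : Subgroup G) ⊓ Subgroup.normalizer (E : Set G) with hP
  set X := mov p E ⊓ Subgroup.centralizer (S : Set G) with hX
  set K := E ⊓ Subgroup.normalizer (S : Set G) with hK
  have hPE : P ≤ Subgroup.normalizer (E : Set G) := inf_le_right
  have hSP : S ≤ P := inf_le_inf_left _ Subgroup.le_normalizer
  have hxS : ∀ s ∈ S, s * x * s⁻¹ = x := fun s hs' => hfix s (hSP hs')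
  have hPS : P ≤ Subgroup.normalizer (S : Set G) :=
    Block.le_normalizer_inf (inf_le_left.trans Subgroup.le_normalizer) hPE
  have hPX : P ≤ Subgroup.normalizer (X : Set G) := mem_normalizer_inf_centralizer (normalizer_mov hPE) hPS
  have hPK : P ≤ Subgroup.normalizer (K : Set G) := Block.le_normalizer_inf hPE fun t ht => by
    rw [Fusion.mem_normalizer_iff_cj, Fusion.cj_normalizer, Fusion.cj_eq_self (hPS ht)]
  have hKX : K ≤ Subgroup.normalizer (X : Set G) :=
    mem_normalizer_inf_centralizer (normalizer_mov (inf_le_left.trans Subgroup.le_normalizer)) inf_le_right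
  have hxX : x ∈ X := Subgroup.mem_inf.2 ⟨hx, Subgroup.mem_centralizer_iff.2 fun s hs => by
    calc s * x = s * x * s⁻¹ * s := by group
      _ = x * s := by rw [hxS s hs]⟩
  have hMX : ⁅X, K⁆ ≤ X := Subgroup.le_normalizer_iff_commutator_le_left.1 hKX
  refine ⟨⁅X, K⁆, hMX.trans inf_le_left, ?_, ?_, fun l => ?_⟩
  · rw [Subgroup.eq_bot_iff_forall]
    rintro z ⟨hz, hzc⟩
    have hSK : S ≤ K := le_inf inf_le_right Subgroup.le_normalizer
    refine fixed_comm_eq_one (E := K) (W := X) (Q := S) hSK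
      ((Subgroup.normal_subgroupOf_iff_le_normalizer hSK).2 inf_le_right) hKX
      (fun a ha b hb => omega_comm _ (mov_le E ha.1) _ (mov_le E hb.1))
      (fun a ha w hw => Subgroup.mem_centralizer_iff.1 hw.2 a ha) ?_ hz
      (fun e he => Subgroup.mem_centralizer_iff.1 hzc e he.1)
      (omegaOneCenter_props (mov_le E ((Subgroup.mem_inf.1 (hMX hz)).1))).2.2
    exact Nat.Coprime.symm ((Nat.Prime.coprime_iff_not_dvd hp.out).2 (hSE.mono hSK inf_le_left).not_dvd)
  · intro t ht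
    rw [Fusion.mem_normalizer_iff_cj, Fusion.cj_commutator, Fusion.cj_eq_self (hPX ht),
      Fusion.cj_eq_self (hPK ht)]
  · have key : ∀ l : F, l ≠ 1 → ∃ m ∈ ⁅X, K⁆, C.c m = l • C.c x := fun l hl => by
      obtain ⟨k, hk, hkx⟩ := C.exists_scalar hSE hx hxS hxne (a := 1 - l) (sub_ne_zero.2 (Ne.symm hl))
      have hkn : k ∈ Subgroup.normalizer (E : Set G) := Subgroup.le_normalizer hk.1
      refine ⟨⁅x, k⁆, Subgroup.commutator_mem_commutator hxX hk, ?_⟩
      rw [show ⁅x, k⁆ = x * (k * x * k⁻¹)⁻¹ by rw [commutatorElement_def]; group,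
        C.c_mul _ hx _ (inv_mem (mov_conj hkn hx))]
      show C.c x + C.toSec.c (k * x * k⁻¹)⁻¹ = _
      rw [C.toSec.c_inv (mov_conj hkn hx)]
      show C.c x + -C.c (k * x * k⁻¹) = _
      rw [hkx]
      module
    by_cases hl : l = 1
    · obtain ⟨z, hz0, hz1⟩ : ∃ z : F, z ≠ 0 ∧ z ≠ 1 := by
        classical
        by_contra hc
        push Not at hc
        have hsub : (Finset.univ : Finset F) ⊆ {0, 1} := fun z _ => by
          by_cases hz : z = 0
          · simp [hz]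
          · simp [hc z hz]
        have := (Finset.card_le_card hsub).trans Finset.card_le_two
        have := C.big
        rw [Finset.card_univ] at *
        omega
      obtain ⟨m, hm, hmc⟩ := key z hz1
      obtain ⟨m', hm', hmc'⟩ := key (1 - z) (fun h => hz0 (by linear_combination -h))
      refine ⟨m * m', mul_mem hm hm', ?_⟩
      rw [C.c_mul _ (hMX hm).1 _ (hMX hm').1, hmc, hmc', ← add_smul, hl]
      congr 1
      ring
    · exact key l hl

/-- Members of largest elementary abelian subgroups act linearly. -/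
theorem LinCo.max_linear (hG : Subgroup.centralizer (pCore p G : Set G) ≤ pCore p G) (C : LinCo p E F)
    (hE : IsSB p E) (T : Sylow p G) {A : Subgroup G}
    (hA : A ∈ maxIn (fun A : Subgroup G => IsElementaryAbelian p A) (T : Subgroup G)) {x : G}
    (hx : x ∈ mov p E) (hxne : x ∉ Subgroup.centralizer (E : Set G))
    (hfix : ∀ a ∈ A, a * x * a⁻¹ = x) : ∀ a ∈ A, C.toSec.IsSemi a id := by
  classical
  set S := C.toSec with hSdef
  obtain ⟨⟨T₀, hT₀⟩, -⟩ := id hE
  have hS := hE.shape hG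
  have hq : 3 ≤ Fintype.card F := by have := C.big; omega
  obtain ⟨n, hn⟩ := C.card
  have hAN : A ≤ Subgroup.normalizer (E : Set G) := max_normalizes hG T hA hE
  have hAU : A ≤ Subgroup.normalizer ((mov p E) : Set G) := normalizer_mov hAN
  have hAC : A ≤ Subgroup.normalizer (Subgroup.centralizer (E : Set G) : Set G) := hAN.trans cent_norm
  have hAc : ∀ a ∈ A, ∀ b ∈ A, a * b = b * a := fun a ha b hb => Local.elemAb_commute hA.2.1 ha hb
  choose σ hσ using fun a : ↥A => S.exists_semi hq (hAN a.2) (hAU a.2) (hAC a.2)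
  have hne : S.c x ≠ 0 := fun h => hxne ((C.c_zero x hx).1 h)
  let Ψ : ↥A →* (F ≃+* F) :=
    { toFun := σ
      map_one' := RingEquiv.ext fun l => S.semi_unique (one_mem _) (one_mem _) (hσ 1) S.semi_one l
      map_mul' := fun a b => RingEquiv.ext fun l =>
        S.semi_unique (hAU (a * b).2) (hAC (a * b).2) (hσ (a * b)) (S.semi_mul (hAU b.2) (hσ a) (hσ b)) l }
  by_contra hnl
  push Not at hnl
  obtain ⟨a₁, ha₁, hnl⟩ := hnl
  obtain ⟨z, hz⟩ : ∃ z, σ ⟨a₁, ha₁⟩ z ≠ z := by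
    by_contra hc
    push Not at hc
    exact hnl fun u hu y hy l e => by rw [hσ ⟨a₁, ha₁⟩ u hu y hy l e, hc, id_eq]
  -- the fixed field
  set K := {l : F // ∀ a : ↥A, σ a l = l} with hK
  have hKK : Nat.card K * Nat.card K ≤ Fintype.card F := by
    rw [← Nat.card_prod, ← Nat.card_eq_fintype_card]
    refine Nat.card_le_card_of_injective (fun q : K × K => (q.1 : F) + q.2 * z) fun q q' h => ?_
    by_cases h2 : (q.2 : F) = q'.2
    · simp only [h2, add_left_inj] at h
      exact Prod.ext (Subtype.ext h) (Subtype.ext h2)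
    · exfalso
      have hz' : z = ((q'.1 : F) - q.1) / ((q.2 : F) - q'.2) := by
        rw [eq_div_iff (sub_ne_zero.2 h2)]
        linear_combination h
      refine hz ?_
      rw [hz', map_div₀, map_sub, map_sub, q'.1.2, q.1.2, q.2.2, q'.2.2]
  have hquot : ∀ (m₀ m : F) (δ : ↥A → F), m₀ ≠ 0 → (∀ a, σ a m₀ * δ a = m₀) → (∀ a, σ a m * δ a = m) →
      ∀ a, σ a (m / m₀) = m / m₀ := fun m₀ m δ h0 h1 h2 a => by
    have hs0 : σ a m₀ ≠ 0 := (map_ne_zero (σ a)).2 h0
    rw [map_div₀, div_eq_div_iff hs0 h0]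
    linear_combination (σ a m₀) * h2 a - (σ a m) * h1 a
  -- the pairing
  obtain ⟨v, hv⟩ := exists_dual hne
  obtain ⟨v', hv', rfl⟩ := S.c_surj v
  set δ : ↥A → F := fun a => dd (S.c x) (S.c ((a : G) * v' * (a : G)⁻¹)) with hδ
  have hpair : ∀ a : ↥A, ∀ y ∈ (mov p E), dd (S.c x) (S.c ((a : G) * y * (a : G)⁻¹)) = σ a (dd (S.c x) (S.c y)) * δ a := by
    intro a y hy
    obtain ⟨w, hw, hd, hall⟩ := S.exists_delta (hAU a.2) (hσ a) hx hne (by rw [hfix a a.2])
    have h1 := (hall v' hv').2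
    rw [hv, map_one, mul_one] at h1
    rw [(hall y hy).2, mul_comm]
    exact congrArg _ h1.symm
  -- linear elements
  set A0 := Ψ.ker with hA0
  have hshear : ∀ s : ↥A0, ∃ t : F, ∀ y ∈ (mov p E),
      S.c ((s : G) * y * (s : G)⁻¹) = S.c y + (t * dd (S.c x) (S.c y)) • S.c x := by
    intro s
    have hlin : S.IsSemi (s : G) id := fun u hu y hy l e => by
      rw [hσ (s : ↥A) u hu y hy l e]
      have hs1 : σ (s : ↥A) = 1 := s.2
      rw [hs1]
      rfl
    obtain ⟨k, hk⟩ := (Fusion.isPGroup_elementary hA.2.1) (s : ↥A)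
    have hk' : (s : G) ^ p ^ k = 1 := congrArg Subtype.val hk
    exact S.exists_shear hn (hAU (s : ↥A).2) hlin hx hne (by rw [hfix _ (s : ↥A).2]) hk'
  choose t ht using hshear
  have hteq : ∀ (s : ↥A0), dd (S.c ((s : G) * v' * (s : G)⁻¹)) (S.c v') = t s := fun s => by
    rw [ht s v' hv', hv, mul_one]
    simp only [dd, Pi.add_apply, Pi.smul_apply, smul_eq_mul] at hv ⊢
    linear_combination (t s) * hv
  have htadd : ∀ s s' : ↥A0, t (s * s') = t s + t s' := fun s s' => by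
    have h1 : S.c ((s' : G) * v' * (s' : G)⁻¹) = S.c v' + (t s') • S.c x := by rw [ht s' v' hv', hv, mul_one]
    have h2 := ht s _ (S.conj_mem (hAU (s' : ↥A).2) hv')
    rw [← hteq (s * s')]
    push_cast
    rw [show (s : G) * s' * v' * ((s : G) * s')⁻¹ = (s : G) * ((s' : G) * v' * (s' : G)⁻¹) * (s : G)⁻¹ by group,
      h2, h1]
    simp only [dd, Pi.add_apply, Pi.smul_apply, smul_eq_mul] at hv ⊢
    linear_combination (t s' + t s * (S.c x 0 * S.c v' 1 - S.c x 1 * S.c v' 0 + 1)) * hv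
  let τ : ↥A0 →* Multiplicative F :=
    MonoidHom.mk' (fun s => Multiplicative.ofAdd (t s)) fun s s' => by rw [htadd]; rfl
  have hst : ∀ (a : ↥A) (s : ↥A0), σ a (t s) = t s * δ a := fun a s => by
    obtain ⟨w, hw, hwc⟩ := S.c_surj (t s • S.c x)
    have h1 : S.c ((s : G) * v' * (s : G)⁻¹) = S.c (v' * w) := by
      rw [ht s v' hv', hv, mul_one, S.c_mul _ hv' _ hw, hwc]
    have h2 := S.congr_conj (hAU a.2) (hAC a.2) (S.conj_mem (hAU (s : ↥A).2) hv') (mul_mem hv' hw) h1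
    rw [show (a : G) * (v' * w) * (a : G)⁻¹ = ((a : G) * v' * (a : G)⁻¹) * ((a : G) * w * (a : G)⁻¹) by group,
      S.c_mul _ (S.conj_mem (hAU a.2) hv') _ (S.conj_mem (hAU a.2) hw), hσ a x hx w hw _ hwc,
      hfix a a.2] at h2
    have h3 := ht s _ (S.conj_mem (hAU a.2) hv')
    rw [show (s : G) * ((a : G) * v' * (a : G)⁻¹) * (s : G)⁻¹ = (a : G) * ((s : G) * v' * (s : G)⁻¹) * (a : G)⁻¹ by
      calc (s : G) * ((a : G) * v' * (a : G)⁻¹) * (s : G)⁻¹ = ((s : G) * a) * v' * ((s : G) * a)⁻¹ := by group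
        _ = ((a : G) * s) * v' * ((a : G) * s)⁻¹ := by rw [hAc _ (s : ↥A).2 _ a.2]
        _ = _ := by group, h2] at h3
    exact smul_left_injective F hne (add_left_cancel h3)
  -- fixed points
  set Fx := (mov p E) ⊓ Subgroup.centralizer (A : Set G) with hFx
  let ψ : ↥Fx →* Multiplicative (Fin 2 → F) := MonoidHom.mk' (fun y => Multiplicative.ofAdd (S.c y))
    fun y y' => by
      show Multiplicative.ofAdd (S.c ((y : G) * y')) = _
      rw [S.c_mul _ (Subgroup.mem_inf.1 y.2).1 _ (Subgroup.mem_inf.1 y'.2).1]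
      rfl
  have hfixd : ∀ (y : ↥Fx) (a : ↥A), S.c ((a : G) * y * (a : G)⁻¹) = S.c y := fun y a => by
    rw [Subgroup.mem_centralizer_iff.1 (Subgroup.mem_inf.1 y.2).2 _ a.2, mul_inv_cancel_right]
  have hm : ∀ (y : ↥Fx) (a : ↥A), σ a (dd (S.c x) (S.c y)) * δ a = dd (S.c x) (S.c y) := fun y a => by
    rw [← hpair a y (Subgroup.mem_inf.1 y.2).1, hfixd]
  -- a fixed element on the line
  have hline : ∀ w ∈ (mov p E), dd (S.c x) (S.c w) = 0 → (∀ a : ↥A, S.c ((a : G) * w * (a : G)⁻¹) = S.c w) →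
      ∀ a, σ a (dd (S.c w) (S.c v')) = dd (S.c w) (S.c v') := fun w hw h0 hf a => by
    have h1 := decomp hv (S.c w)
    rw [h0, zero_smul, add_zero] at h1
    have h2 := hσ a x hx w hw _ h1
    rw [hfix a a.2, hf a] at h2
    exact (smul_left_injective F hne (h1.symm.trans h2)).symm
  have hcnt : Nat.card τ.range * Nat.card ψ.range ≤ Fintype.card F := by
    refine le_trans ?_ hKK
    by_cases hτ : ∃ s₀ : ↥A0, t s₀ ≠ 0
    · obtain ⟨s₀, hs₀⟩ := hτ
      have hm0 : ∀ y : ↥Fx, dd (S.c x) (S.c y) = 0 := fun y => by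
        have h1 := ht s₀ y (Subgroup.mem_inf.1 y.2).1
        rw [hfixd y (s₀ : ↥A), left_eq_add] at h1
        exact ((mul_eq_zero.1 ((smul_eq_zero.1 h1).resolve_right hne)).resolve_left hs₀)
      refine Nat.mul_le_mul (Nat.card_le_card_of_injective (fun r : τ.range =>
        (⟨Multiplicative.toAdd (r : Multiplicative F) / t s₀, fun a => ?_⟩ : K)) ?_)
        (Nat.card_le_card_of_injective (fun r : ψ.range =>
          (⟨dd (Multiplicative.toAdd (r : Multiplicative (Fin 2 → F))) (S.c v'), fun a => ?_⟩ : K)) ?_)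
      · obtain ⟨_, s, rfl⟩ := r
        show σ a (t s / t s₀) = _
        rw [map_div₀, hst, hst, mul_div_mul_right _ _ fun h => hs₀ ((map_eq_zero (σ a)).1 (by
          rw [hst, h, mul_zero]))]
        rfl
      · intro r r' h
        have h1 := (div_left_inj' hs₀).1 (congrArg Subtype.val h)
        exact Subtype.ext (Multiplicative.toAdd.injective h1)
      · obtain ⟨_, y, rfl⟩ := r
        exact hline y (Subgroup.mem_inf.1 y.2).1 (hm0 y) (hfixd y) a
      · rintro ⟨_, y, rfl⟩ ⟨_, y', rfl⟩ h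
        have h1 : dd (S.c y) (S.c v') = dd (S.c y') (S.c v') := congrArg Subtype.val h
        refine Subtype.ext (congrArg Multiplicative.ofAdd ?_)
        rw [decomp hv (S.c y), decomp hv (S.c y'), hm0, hm0, h1]
    · push Not at hτ
      have hτ1 : Nat.card τ.range = 1 := by
        rw [Subgroup.card_eq_one, MonoidHom.range_eq_bot_iff]
        exact MonoidHom.ext fun s => congrArg Multiplicative.ofAdd (hτ s)
      rw [hτ1, one_mul, ← Nat.card_prod]
      by_cases hm0 : ∀ y : ↥Fx, dd (S.c x) (S.c y) = 0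
      · refine Nat.card_le_card_of_injective (fun r : ψ.range => ((⟨0, fun a => map_zero _⟩,
          ⟨dd (Multiplicative.toAdd (r : Multiplicative (Fin 2 → F))) (S.c v'), fun a => ?_⟩) : K × K)) ?_
        · obtain ⟨_, y, rfl⟩ := r
          exact hline y (Subgroup.mem_inf.1 y.2).1 (hm0 y) (hfixd y) a
        · rintro ⟨_, y, rfl⟩ ⟨_, y', rfl⟩ h
          have h1 : dd (S.c y) (S.c v') = dd (S.c y') (S.c v') := congrArg (fun q : K × K => (q.2 : F)) h
          refine Subtype.ext (congrArg Multiplicative.ofAdd ?_)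
          rw [decomp hv (S.c y), decomp hv (S.c y'), hm0, hm0, h1]
      push Not at hm0
      obtain ⟨y₀, hy₀⟩ := hm0
      let r₁ : ψ.range → F := fun r =>
        dd (S.c x) (Multiplicative.toAdd (r : Multiplicative (Fin 2 → F))) / dd (S.c x) (S.c y₀)
      let r₂ : ψ.range → F := fun r =>
        dd (Multiplicative.toAdd (r : Multiplicative (Fin 2 → F)) - r₁ r • S.c y₀) (S.c v')
      have hr₁ : ∀ r a, σ a (r₁ r) = r₁ r := by
        rintro ⟨_, y, rfl⟩ a
        exact hquot _ _ δ hy₀ (fun b => hm y₀ b) (fun b => hm y b) a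
      have hr₂ : ∀ r a, σ a (r₂ r) = r₂ r := by
        rintro ⟨_, y, rfl⟩ a
        set r : ψ.range := ⟨ψ y, y, rfl⟩
        have hyU := (Subgroup.mem_inf.1 y.2).1
        obtain ⟨w, hw, hwc⟩ := S.c_surj (r₁ r • S.c y₀)
        have hcw : S.c ((y : G) * w⁻¹) = S.c y - r₁ r • S.c y₀ := by
          rw [S.c_mul _ hyU _ (inv_mem hw), S.c_inv hw, hwc, sub_eq_add_neg]
        have h0 : dd (S.c x) (S.c ((y : G) * w⁻¹)) = 0 := by
          rw [hcw, sub_eq_add_neg, dd_add, ← neg_smul, dd_smul]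
          show dd (S.c x) (S.c y) + -(dd (S.c x) (S.c y) / dd (S.c x) (S.c y₀)) * dd (S.c x) (S.c y₀) = 0
          field_simp
          ring
        have hf : ∀ b : ↥A, S.c ((b : G) * ((y : G) * w⁻¹) * (b : G)⁻¹) = S.c ((y : G) * w⁻¹) := fun b => by
          rw [show (b : G) * ((y : G) * w⁻¹) * (b : G)⁻¹ = ((b : G) * y * (b : G)⁻¹) * ((b : G) * w * (b : G)⁻¹)⁻¹ by
            group, S.c_mul _ (S.conj_mem (hAU b.2) hyU) _ (inv_mem (S.conj_mem (hAU b.2) hw)),
            S.c_inv (S.conj_mem (hAU b.2) hw), hfixd, hσ b _ (Subgroup.mem_inf.1 y₀.2).1 w hw _ hwc, hfixd,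
            hr₁, hcw, sub_eq_add_neg]
        have h := hline _ (mul_mem hyU (inv_mem hw)) h0 hf a
        rw [hcw] at h
        exact h
      refine Nat.card_le_card_of_injective
        (fun r : ψ.range => ((⟨r₁ r, hr₁ r⟩, ⟨r₂ r, hr₂ r⟩) : K × K)) fun r r' h => ?_
      have h1 : r₁ r = r₁ r' := congrArg (fun q : K × K => (q.1 : F)) h
      have h2 : r₂ r = r₂ r' := congrArg (fun q : K × K => (q.2 : F)) h
      have key : ∀ r : ψ.range, Multiplicative.toAdd (r : Multiplicative (Fin 2 → F)) =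
          r₂ r • S.c x + r₁ r • S.c y₀ := fun r => by
        have h3 := decomp hv (Multiplicative.toAdd (r : Multiplicative (Fin 2 → F)) - r₁ r • S.c y₀)
        have h4 : dd (S.c x) (Multiplicative.toAdd (r : Multiplicative (Fin 2 → F)) - r₁ r • S.c y₀) = 0 := by
          rw [sub_eq_add_neg, dd_add, ← neg_smul, dd_smul]
          show _ + -(dd (S.c x) _ / dd (S.c x) (S.c y₀)) * dd (S.c x) (S.c y₀) = 0
          field_simp
          ring
        rw [h4, zero_smul, add_zero, sub_eq_iff_eq_add] at h3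
        exact h3
      exact Subtype.ext (Multiplicative.toAdd.injective (by rw [key r, key r', h1, h2]))
  -- the number of automorphisms
  have hP : Nat.card Ψ.range < Fintype.card F := by
    obtain ⟨g, hg⟩ := IsCyclic.exists_generator (α := Fˣ)
    haveI : Finite ↥Ψ.range := Finite.of_surjective _ Ψ.rangeRestrict_surjective
    haveI := Fintype.ofFinite ↥Ψ.range
    rw [Nat.card_eq_fintype_card]
    refine Fintype.card_lt_of_injective_of_notMem (fun r : Ψ.range => (r : F ≃+* F) (g : F)) ?_ (b := 0) ?_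
    · intro r r' h
      refine Subtype.ext (RingEquiv.ext fun l => ?_)
      by_cases hl : l = 0
      · subst hl; simp
      obtain ⟨j, hj⟩ := hg (Units.mk0 l hl)
      have hj' : (g : F) ^ j = l := by
        simpa using congrArg Units.val hj
      rw [← hj', map_zpow₀, map_zpow₀]
      exact congrArg (fun u => u ^ j) h
    · rintro ⟨r, hr⟩
      exact g.ne_zero ((map_eq_zero (r : F ≃+* F)).1 hr)
  -- the count
  set B := A ⊓ Subgroup.centralizer ((mov p E) : Set G) with hB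
  set Z0 := (mov p E) ⊓ Subgroup.centralizer (E : Set G) with hZ0
  have hineq := max_ineq T hA (B := B) (W := mov p E) (U := mov p E) inf_le_left (mov_le E)
    (Subgroup.le_centralizer_iff.1 inf_le_right) le_rfl
  rw [← hFx] at hineq
  have hτker : Nat.card τ.ker ≤ Nat.card B := by
    refine Nat.card_le_card_of_injective (fun s : τ.ker => (⟨((s : ↥A0) : G), ?_⟩ : ↥B)) fun s s' h => ?_
    · refine Subgroup.mem_inf.2 ⟨((s : ↥A0) : ↥A).2, ?_⟩
      refine (C1_le hT₀ hS ⟨hAN ((s : ↥A0) : ↥A).2, fun y hy => ?_⟩).2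
      have ht0 : t (s : ↥A0) = 0 := congrArg Multiplicative.toAdd s.2
      have h1 := ht s y hy
      rw [ht0, zero_mul, zero_smul, add_zero] at h1
      exact (S.eq_iff hy (S.conj_mem (hAU ((s : ↥A0) : ↥A).2) hy)).1 h1.symm
    · exact Subtype.ext (Subtype.ext (Subtype.ext (congrArg Subtype.val h :)))
  have hψker : Nat.card ψ.ker ≤ Nat.card Z0 := by
    refine Nat.card_le_card_of_injective (fun y : ψ.ker => (⟨((y : ↥Fx) : G), ?_⟩ : ↥Z0)) fun y y' h => ?_
    · exact Subgroup.mem_inf.2 ⟨(Subgroup.mem_inf.1 (y : ↥Fx).2).1,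
        (C.c_zero _ (Subgroup.mem_inf.1 (y : ↥Fx).2).1).1 (congrArg Multiplicative.toAdd y.2)⟩
    · exact Subtype.ext (Subtype.ext (congrArg Subtype.val h :))
  let χ : ↥(mov p E) →* Multiplicative (Fin 2 → F) := MonoidHom.mk' (fun y => Multiplicative.ofAdd (S.c y))
    fun y y' => by
      show Multiplicative.ofAdd (S.c ((y : G) * y')) = _
      rw [S.c_mul _ y.2 _ y'.2]
      rfl
  have hUcard : Nat.card (mov p E) = Nat.card Z0 * Fintype.card F ^ 2 := by
    obtain ⟨-, hc⟩ := section_card (U := mov p E) (A := Z0) inf_le_left χ fun y => by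
      show Multiplicative.ofAdd (S.c y) = 1 ↔ _
      rw [ofAdd_eq_one, S.c_zero _ y.2]
      exact ⟨fun h => Subgroup.mem_inf.2 ⟨y.2, h⟩, fun h => h.2⟩
    rw [hc, MonoidHom.range_eq_top.2 (fun v => ?_), Subgroup.card_top, Nat.card_congr Multiplicative.toAdd,
      Nat.card_fun, Nat.card_fin, Nat.card_eq_fintype_card (α := F)]
    obtain ⟨y, hy, hyc⟩ := C.c_surj (Multiplicative.toAdd v)
    exact ⟨⟨y, hy⟩, congrArg Multiplicative.ofAdd hyc⟩
  have hAcard : Nat.card A = Nat.card τ.ker * Nat.card τ.range * Nat.card Ψ.range := by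
    rw [← Subgroup.index_ker τ, Subgroup.card_mul_index, ← Subgroup.index_ker Ψ, Subgroup.card_mul_index]
  have hFcard : Nat.card Fx = Nat.card ψ.ker * Nat.card ψ.range := by
    rw [← Subgroup.index_ker ψ, Subgroup.card_mul_index]
  set q := Fintype.card F with hqd
  have hq0 : 0 < q := Fintype.card_pos
  have key : (Nat.card B * Nat.card Z0) * q ^ 2 ≤ (Nat.card B * Nat.card Z0) * (Nat.card Ψ.range * q) :=
    calc (Nat.card B * Nat.card Z0) * q ^ 2 = Nat.card B * Nat.card (mov p E) := by rw [hUcard, mul_assoc]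
      _ ≤ Nat.card A * Nat.card Fx := hineq
      _ = (Nat.card τ.ker * Nat.card ψ.ker) * (Nat.card Ψ.range * (Nat.card τ.range * Nat.card ψ.range)) := by
          rw [hAcard, hFcard]; ring
      _ ≤ _ := Nat.mul_le_mul (Nat.mul_le_mul hτker hψker) (Nat.mul_le_mul_left _ hcnt)
  have key' := Nat.le_of_mul_le_mul_left key (Nat.mul_pos Nat.card_pos Nat.card_pos)
  rw [pow_two] at key'
  exact absurd (Nat.le_of_mul_le_mul_right key' hq0) (not_le.2 hP)

/-- `B(G)` acts on `[V, E]` as `E`. -/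
theorem LinCo.baumann_le_inn (hG : Subgroup.centralizer (pCore p G : Set G) ≤ pCore p G) (C : LinCo p E F)
    (hE : IsSB p E) : baumannSubgroup p G ≤ E ⊔ C0 p E := by
  refine iSup_le fun T b hb => ?_
  obtain ⟨⟨T₀, hT₀⟩, hs⟩ := id hE
  have hS := hE.shape hG
  obtain ⟨x, hx, hxne, hxT, hxb⟩ := exists_baumann_fixed hG T hE
  obtain ⟨M, hMU, hMd, hMn, hMl⟩ := C.exists_line T hs hx hxne hxT
  set S := C.toSec with hSdef
  have hne : S.c x ≠ 0 := fun h => hxne ((C.c_zero x hx).1 h)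
  have hMfix : ∀ A ∈ maxIn (fun A : Subgroup G => IsElementaryAbelian p A) (T : Subgroup G),
      ∀ m ∈ M, (∃ l : F, C.c m = l • C.c x) → ∀ a ∈ A, a * m = m * a := by
    intro A hA m hm ⟨l, hl⟩ a ha
    have haP : a ∈ (T : Subgroup G) ⊓ Subgroup.normalizer (E : Set G) :=
      Subgroup.mem_inf.2 ⟨hA.1 ha, max_normalizes hG T hA hE ha⟩
    have hlin := C.max_linear hG hE T hA hx hxne (fun a ha => hxT a
      (Subgroup.mem_inf.2 ⟨hA.1 ha, max_normalizes hG T hA hE ha⟩)) a ha x hx m (hMU hm) l hl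
    rw [hxT a haP, id_eq] at hlin
    have h1 : m⁻¹ * (a * m * a⁻¹) ∈ M ⊓ Subgroup.centralizer (E : Set G) :=
      Subgroup.mem_inf.2 ⟨mul_mem (inv_mem hm) ((Subgroup.mem_normalizer_iff.1 (hMn haP) m).1 hm),
        (S.eq_iff (hMU hm) (mov_conj haP.2 (hMU hm))).1 (hl.trans hlin.symm)⟩
    rw [hMd, Subgroup.mem_bot, inv_mul_eq_one] at h1
    exact conj_fix_iff.1 h1.symm
  obtain ⟨A, hA⟩ := (Fusion.replFamily_elementary p).maxIn_nonempty (T : Subgroup G)
  have hbn : b ∈ Subgroup.normalizer (E : Set G) := baumann_normalizes hG T hE hb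
  have hMb : ∀ m ∈ M, (∃ l : F, C.c m = l • C.c x) → b * m * b⁻¹ = m := fun m hm hl => by
    have hmp : m ^ p = 1 := (omegaOneCenter_props (mov_le E (hMU hm))).2.2
    have hmA : m ∈ A := Fusion.mem_of_maxIn hA (vSub_le_sylow T (mov_le E (hMU hm)))
      (Fusion.isElementaryAbelian_closure_insert hA.2.1 (fun a ha => (hMfix A hA m hm hl a ha).symm) hmp)
    have hmz : m ∈ omegaOne p (zElem p (T : Subgroup G)) := by
      refine Subgroup.subset_closure ⟨Subgroup.mem_inf.2 ⟨le_sSup hA hmA, ?_⟩, hmp⟩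
      refine Subgroup.mem_centralizer_iff.2 fun j hj => ?_
      have hle : jElem p (T : Subgroup G) ≤ Subgroup.centralizer {m} := sSup_le fun A hA a ha =>
        Subgroup.mem_centralizer_singleton_iff.2 (hMfix A hA m hm hl a ha)
      exact Subgroup.mem_centralizer_singleton_iff.1 (hle hj)
    rw [baumann_eq] at hb
    exact conj_fix_iff.2 (Subgroup.mem_centralizer_iff.1 (Subgroup.mem_inf.1 hb).2 m hmz).symm
  have hbU : b ∈ Subgroup.normalizer (mov p E : Set G) := normalizer_mov le_rfl hbn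
  obtain ⟨σ, hσ⟩ := S.exists_semi (by have := C.big; omega) hbn hbU (cent_norm hbn)
  have hσ1 : ∀ l, σ l = l := fun l => by
    obtain ⟨m, hm, hmc⟩ := hMl l
    have h1 := hσ x hx m (hMU hm) l hmc
    rw [hxb b hb, hMb m hm ⟨l, hmc⟩] at h1
    exact (smul_left_injective F hne (hmc.symm.trans h1)).symm
  have hlin : S.IsSemi b id := fun u hu y hy l e => by rw [hσ u hu y hy l e, hσ1, id_eq]
  obtain ⟨n, hn⟩ := C.card
  obtain ⟨k, hk⟩ := T.isPGroup' ⟨b, baumann_le _ hb⟩
  obtain ⟨t, ht⟩ := S.exists_shear hn hbU hlin hx hne (by rw [hxb b hb]) (congrArg Subtype.val hk)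
  obtain ⟨e, he⟩ := C.surj (shearM (S.c x) t)
  refine mem_inn_of_eq hT₀ hS hbn e.2 fun y hy => ?_
  refine (S.eq_iff (mov_conj hbn hy) (mov_conj (Subgroup.le_normalizer e.2) hy)).1 ?_
  show S.c _ = C.c _
  rw [ht y hy, C.c_conj e y hy, he, shearM_act]
  rfl

end lin

/-! ### The small blocks -/

theorem small_coord (hk : SmallKind p E) :
    Nonempty (Coord (mov p E) (⊥ : Subgroup G) (ZMod p)) := by
  classical
  set U := mov p E with hU
  letI : CommGroup ↥U := { (inferInstance : Group ↥U) with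
    mul_comm := fun a b => Subtype.ext (mov_comm a.2 b.2) }
  have hexp : ∀ u : ↥U, u ^ p = 1 := fun u => Subtype.ext (omegaOneCenter_props (mov_le E u.2)).2.2
  haveI : NeZero p := ⟨hp.out.ne_zero⟩
  obtain ⟨u, hu⟩ : ∃ u : ↥U, u ≠ 1 := by
    by_contra h
    push Not at h
    haveI : Subsingleton ↥U := ⟨fun a b => by rw [h a, h b]⟩
    have := hk.card
    rw [Nat.card_of_subsingleton (1 : ↥U)] at this
    exact (Nat.one_lt_pow two_ne_zero hp.out.one_lt).ne this
  have hord : orderOf u = p := orderOf_eq_prime (hexp u) hu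
  obtain ⟨v, hv⟩ : ∃ v : ↥U, v ∉ Subgroup.zpowers u := by
    by_contra h
    push Not at h
    have h1 : Nat.card ↥U ≤ p := by
      rw [← hord, ← Nat.card_zpowers]
      exact Nat.card_le_card_of_injective (fun w => (⟨w, h w⟩ : Subgroup.zpowers u))
        fun a b hab => congrArg Subtype.val hab
    rw [hk.card, pow_two] at h1
    exact absurd h1 (not_le.2 (lt_mul_of_one_lt_left hp.out.pos hp.out.one_lt))
  let ι : (Fin 2 → ZMod p) → ↥U := fun w => u ^ (w 0).val * v ^ (w 1).val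
  have hmod : ∀ (g : ↥U) (a b : ZMod p), g ^ (a + b).val = g ^ a.val * g ^ b.val := fun g a b => by
    rw [← pow_add, ZMod.val_add, ← pow_eq_pow_mod _ (hexp g)]
  have hadd : ∀ w w', ι (w + w') = ι w * ι w' := fun w w' => by
    simp only [ι, Pi.add_apply, hmod]
    exact mul_mul_mul_comm _ _ _ _
  have hzero : ∀ w, ι w = 1 → w = 0 := fun w hw => by
    have h1 : w 1 = 0 := by
      by_contra h1
      refine hv ?_
      have h2 : v ^ (w 1).val ∈ Subgroup.zpowers u := by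
        rw [mul_eq_one_iff_eq_inv'.1 hw]
        exact inv_mem (Subgroup.npow_mem_zpowers u _)
      have hco : ((w 1).val).Coprime p := Nat.Coprime.symm ((Nat.Prime.coprime_iff_not_dvd hp.out).2 fun h =>
        h1 ((ZMod.val_eq_zero _).1 (Nat.eq_zero_of_dvd_of_lt h (ZMod.val_lt _))))
      obtain ⟨j, hj⟩ : ∃ j : ℕ, (v ^ (w 1).val) ^ j = v :=
        exists_pow_eq_self_of_coprime (hco.coprime_dvd_right (orderOf_dvd_of_pow_eq_one (hexp v)))
      exact hj ▸ pow_mem h2 j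
    have h0 : w 0 = 0 := by
      by_contra h0
      refine hu ?_
      have hco : ((w 0).val).Coprime p := Nat.Coprime.symm ((Nat.Prime.coprime_iff_not_dvd hp.out).2 fun h =>
        h0 ((ZMod.val_eq_zero _).1 (Nat.eq_zero_of_dvd_of_lt h (ZMod.val_lt _))))
      obtain ⟨j, hj⟩ : ∃ j : ℕ, (u ^ (w 0).val) ^ j = u :=
        exists_pow_eq_self_of_coprime (hco.coprime_dvd_right (orderOf_dvd_of_pow_eq_one (hexp u)))
      rw [← hj, show u ^ (w 0).val = 1 by simpa [ι, h1] using hw, one_pow]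
    funext i
    fin_cases i <;> assumption
  have hinj : Function.Injective ι := fun w w' h => by
    have h1 : ι ((w - w') + w') = ι w' := by rw [sub_add_cancel]; exact h
    rw [hadd, mul_eq_right] at h1
    exact sub_eq_zero.1 (hzero _ h1)
  have hbij : Function.Bijective ι := (Nat.bijective_iff_injective_and_card ι).2
    ⟨hinj, by rw [hk.card, Nat.card_fun, Nat.card_zmod, Nat.card_fin]⟩
  let e := Equiv.ofBijective ι hbij
  let c : G → Fin 2 → ZMod p := fun x => if h : x ∈ U then e.symm ⟨x, h⟩ else 0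
  have hc : ∀ x (h : x ∈ U), c x = e.symm ⟨x, h⟩ := fun x h => dif_pos h
  refine ⟨⟨c, fun x hx y hy => ?_, fun w => ⟨ι w, (ι w).2, ?_⟩, fun x hx => ?_⟩⟩
  · rw [hc x hx, hc y hy, hc _ (mul_mem hx hy), Equiv.symm_apply_eq]
    show _ = ι _
    rw [hadd]
    show _ = e (e.symm ⟨x, hx⟩) * e (e.symm ⟨y, hy⟩)
    rw [e.apply_symm_apply, e.apply_symm_apply]
    rfl
  · rw [hc _ (ι w).2, Equiv.symm_apply_eq]
    rfl
  · rw [hc x hx, Equiv.symm_apply_eq, Subgroup.mem_bot]
    have h1 : e 0 = 1 := by show ι 0 = 1; simp [ι]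
    rw [h1, Subtype.ext_iff]
    rfl

/-- Elements of `B(G)` of order prime to `p` act on a small `[V, E]` as elements of `E`. -/
theorem small_inn (hG : Subgroup.centralizer (pCore p G : Set G) ≤ pCore p G) (hE : IsSB p E)
    (hk : SmallKind p E) {f : G} (hf : f ∈ baumannSubgroup p G) (ho : (orderOf f).Coprime p) :
    f ∈ E ⊔ C0 p E := by
  obtain ⟨⟨T₀, hT₀⟩, hs⟩ := id hE
  have hS := hE.shape hG
  obtain ⟨S⟩ := small_coord hk
  set U := mov p E with hU
  have hBN := baumann_le_normalizer hG hE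
  have hbot : ∀ g : G, g ∈ Subgroup.normalizer ((⊥ : Subgroup G) : Set G) := fun g =>
    Subgroup.mem_normalizer_iff.2 fun x => by simp
  have hNU : Subgroup.normalizer (E : Set G) ≤ Subgroup.normalizer (U : Set G) := normalizer_mov le_rfl
  have hlin : ∀ g ∈ Subgroup.normalizer (E : Set G), S.IsSemi g id := fun g hg =>
    S.semi_prime (ZMod.card p) (hNU hg) (hbot g)
  have hne1 : ∀ x ∈ U, x ≠ 1 → S.c x ≠ 0 := fun x hx h h0 =>
    h (Subgroup.mem_bot.1 ((S.c_zero x hx).1 h0))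
  -- the pairing is preserved
  let D : Subgroup G :=
    { carrier := {g | g ∈ Subgroup.normalizer (E : Set G) ∧ ∀ x ∈ U, ∀ y ∈ U,
        dd (S.c (g * x * g⁻¹)) (S.c (g * y * g⁻¹)) = dd (S.c x) (S.c y)}
      one_mem' := ⟨one_mem _, fun x _ y _ => by simp⟩
      mul_mem' := by
        rintro a b ⟨ha, ha'⟩ ⟨hb, hb'⟩
        refine ⟨mul_mem ha hb, fun x hx y hy => ?_⟩
        rw [show a * b * x * (a * b)⁻¹ = a * (b * x * b⁻¹) * a⁻¹ by group,
          show a * b * y * (a * b)⁻¹ = a * (b * y * b⁻¹) * a⁻¹ by group,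
          ha' _ (mov_conj hb hx) _ (mov_conj hb hy), hb' x hx y hy]
      inv_mem' := by
        rintro a ⟨ha, ha'⟩
        refine ⟨inv_mem ha, fun x hx y hy => ?_⟩
        have h := ha' _ (mov_conj (inv_mem ha) hx) _ (mov_conj (inv_mem ha) hy)
        rw [show a * (a⁻¹ * x * a⁻¹⁻¹) * a⁻¹ = x by group, show a * (a⁻¹ * y * a⁻¹⁻¹) * a⁻¹ = y by group] at h
        exact h.symm }
  have hBD : baumannSubgroup p G ≤ D := iSup_le fun T b hb => by
    obtain ⟨x, hx, hxne, -, hxb⟩ := exists_baumann_fixed hG T hE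
    have hbn := baumann_normalizes hG T hE hb
    have hx1 : x ≠ 1 := fun h => hxne (h ▸ one_mem _)
    obtain ⟨k, hk'⟩ := T.isPGroup' ⟨b, baumann_le _ hb⟩
    obtain ⟨t, ht⟩ := S.exists_shear (n := 1) (by rw [ZMod.card, pow_one]) (hNU hbn) (hlin b hbn) hx
      (hne1 x hx hx1) (by rw [hxb b hb]) (congrArg Subtype.val hk')
    refine ⟨hbn, fun y hy z hz => ?_⟩
    rw [ht y hy, ht z hz]
    exact S.shear_dd t
  obtain ⟨u, hu, hu1⟩ : ∃ u ∈ U, u ≠ 1 := by
    by_contra h
    push Not at h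
    exact hS.ne fun x hx => (h x hx).symm ▸ one_mem _
  have hfn := hBN hf
  obtain ⟨⟨_, e, he, rfl⟩, heu⟩ : ∃ a : ↥(bar p E), act1 p G (a : G ⧸ pCore p G) ⟨u, mov_le E hu⟩ =
      ⟨f * u * f⁻¹, mov_le E (mov_conj hfn hu)⟩ := by
    obtain ⟨a, ha, h⟩ := (good1 hS hk).trans ⟨u, mov_le E hu⟩ hu (fun h => hu1 (congrArg Subtype.val h))
      ⟨f * u * f⁻¹, mov_le E (mov_conj hfn hu)⟩ (mov_conj hfn hu)
      (fun h => hu1 (conj_eq_one_iff.1 (congrArg Subtype.val h)))
    exact ⟨⟨a, ha⟩, h⟩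
  have heu' : e * u * e⁻¹ = f * u * f⁻¹ := by
    have := congrArg (Subtype.val) heu
    exact (act1_coe e ⟨u, mov_le E hu⟩).symm.trans this
  set g := e⁻¹ * f with hg
  have hgB : g ∈ baumannSubgroup p G := mul_mem (inv_mem (le_baumannSubgroup hE he)) hf
  have hgu : g * u * g⁻¹ = u := by
    rw [hg, show e⁻¹ * f * u * (e⁻¹ * f)⁻¹ = e⁻¹ * (f * u * f⁻¹) * e by group, ← heu']
    group
  obtain ⟨hgn, hgD⟩ := hBD hgB
  obtain ⟨t, ht⟩ := S.shear_of_pres (hNU hgn) (hlin g hgn) hu (hne1 u hu hu1) (by rw [hgu])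
    fun y hy => by
      have h := hgD u hu y hy
      rwa [hgu] at h
  have hgp : g ^ p ∈ C0 p E := by
    refine Subgroup.mem_inf.2 ⟨pow_mem hgn p, Subgroup.mem_centralizer_iff.2 fun y hy => ?_⟩
    have h := S.shear_pow (hNU hgn) ht p y hy
    rw [ZMod.natCast_self, zero_mul, zero_mul, zero_smul, add_zero] at h
    have h1 := Subgroup.mem_bot.1 ((S.eq_iff hy (mov_conj (pow_mem hgn p) hy)).1 h.symm)
    rw [inv_mul_eq_one] at h1
    exact (conj_fix_iff.1 h1.symm).symm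
  have hpow : ∀ k : ℕ, f ^ k * (g ^ k)⁻¹ ∈ E := by
    intro k
    induction k with
    | zero => simp
    | succ k ih =>
      rw [show f ^ (k + 1) * (g ^ (k + 1))⁻¹ = (f ^ k * (g ^ k)⁻¹) * (g ^ k * (f * g⁻¹) * (g ^ k)⁻¹) by
        rw [pow_succ f, pow_succ g]; group]
      refine mul_mem ih ((Subgroup.mem_normalizer_iff.1 (pow_mem hgn k) _).1 ?_)
      rw [hg, show f * (e⁻¹ * f)⁻¹ = e by group]
      exact he
  have hfp : f ^ p ∈ E ⊔ C0 p E := by
    rw [show f ^ p = (f ^ p * (g ^ p)⁻¹) * g ^ p by group]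
    exact mul_mem (Subgroup.mem_sup_left (hpow p)) (Subgroup.mem_sup_right hgp)
  obtain ⟨j, hj⟩ : ∃ j : ℕ, (f ^ p) ^ j = f := exists_pow_eq_self_of_coprime ho.symm
  exact hj ▸ pow_mem hfp j

/-- The elements of `B(G)` of order prime to `p` are inner on `[V, E]`. -/
theorem mem_inn (hG : Subgroup.centralizer (pCore p G : Set G) ≤ pCore p G) (hE : IsSB p E) {f : G}
    (hf : f ∈ baumannSubgroup p G) (ho : (orderOf f).Coprime p) : f ∈ E ⊔ C0 p E := by
  obtain ⟨⟨T₀, hT₀⟩, hs⟩ := id hE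
  have hS := hE.shape hG
  have hfn := baumann_le_normalizer hG hE hf
  rcases kinds hT₀ hS with hk | ⟨F, _, _, ⟨C⟩⟩ | ⟨n, ⟨C⟩⟩
  · exact small_inn hG hE hk hf ho
  · exact C.baumann_le_inn hG hE hf
  · obtain ⟨e, he, heq⟩ := C.exists_inner hS hfn ho
    exact mem_inn_of_eq hT₀ hS hfn he fun x hx => by
      rw [heq x hx, inv_mul_cancel]
      exact one_mem _

end Cfsg.Agent.LocalEven.BlockNormal
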