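import Cfsg.Agent.Lib.LocalEven.Subnormal.Main

/-!
# Elements trivial on sections

Subgroups of elements trivial on a section, and the coprime step through a series.
-/

set_option autoImplicit false

open scoped commutatorElement

namespace Cfsg.Agent.LocalEven.BlockNormal

open Cfsg Cfsg.Agent.Fusion Cfsg.Agent.LocalEven.Block Cfsg.Agent.LocalEven.SubnBlock

variable {G : Type*} [Group G]

/-- The elements normalising `P` and trivial on `X` modulo `P`. -/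
def trivOn (X P : Subgroup G) : Subgroup G where
  carrier := {g | g ∈ Subgroup.normalizer (P : Set G) ∧ ∀ x ∈ X, ⁅g, x⁆ ∈ P}
  one_mem' := ⟨one_mem _, fun x _ => by simp⟩
  mul_mem' := by
    rintro a b ⟨ha, ha'⟩ ⟨hb, hb'⟩
    refine ⟨mul_mem ha hb, fun x hx => ?_⟩
    rw [show ⁅a * b, x⁆ = a * ⁅b, x⁆ * a⁻¹ * ⁅a, x⁆ by simp only [commutatorElement_def]; group]
    exact mul_mem ((Subgroup.mem_normalizer_iff.1 ha _).1 (hb' x hx)) (ha' x hx)
  inv_mem' := by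
    rintro a ⟨ha, ha'⟩
    refine ⟨inv_mem ha, fun x hx => ?_⟩
    rw [show ⁅a⁻¹, x⁆ = a⁻¹ * ⁅a, x⁆⁻¹ * a⁻¹⁻¹ by simp only [commutatorElement_def]; group]
    exact (Subgroup.mem_normalizer_iff.1 (inv_mem ha) _).1 (inv_mem (ha' x hx))

theorem trivOn_conj {X P : Subgroup G} {n g : G} (hX : n ∈ Subgroup.normalizer (X : Set G))
    (hP : n ∈ Subgroup.normalizer (P : Set G)) (hg : g ∈ trivOn X P) : n * g * n⁻¹ ∈ trivOn X P := by
  refine ⟨mul_mem (mul_mem hP hg.1) (inv_mem hP), fun x hx => ?_⟩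
  rw [show ⁅n * g * n⁻¹, x⁆ = n * ⁅g, n⁻¹ * x * n⁆ * n⁻¹ by simp only [commutatorElement_def]; group]
  exact (Subgroup.mem_normalizer_iff.1 hP _).1 (hg.2 _ ((Subgroup.mem_normalizer_iff''.1 hX x).1 hx))

theorem comm_mem_of_conj {K : Subgroup G} {c b : G} (hc : c ∈ K) (hb : b * c⁻¹ * b⁻¹ ∈ K) : ⁅c, b⁆ ∈ K := by
  rw [commutatorElement_def, mul_assoc, mul_assoc c b, ← mul_assoc b]
  exact mul_mem hc hb

theorem comm_split (e c b : G) : ⁅e * c, b⁆ = e * ⁅c, b⁆ * e⁻¹ * ⁅e, b⁆ := by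
  simp only [commutatorElement_def]; group

theorem fix_comm {a b w w' g : G} (h1 : g * a * g⁻¹ = a * w) (h2 : g * b * g⁻¹ = b * w')
    (c1 : w * b = b * w) (c2 : w * w' = w' * w) (c3 : w' * a = a * w') :
    g * ⁅a, b⁆ * g⁻¹ = ⁅a, b⁆ := by
  have e1 : w * (b * w') * w⁻¹ = b * w' := by
    rw [← mul_assoc, c1, mul_assoc b, c2, ← mul_assoc, mul_inv_cancel_right]
  have e2 : w' * a⁻¹ * w'⁻¹ = a⁻¹ := by
    rw [((show Commute w' a from c3).inv_right).eq, mul_inv_cancel_right]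
  calc g * ⁅a, b⁆ * g⁻¹ = ⁅g * a * g⁻¹, g * b * g⁻¹⁆ := by simp only [commutatorElement_def]; group
    _ = a * (w * (b * w') * w⁻¹) * a⁻¹ * w'⁻¹ * b⁻¹ := by
        rw [h1, h2]; simp only [commutatorElement_def]; group
    _ = a * b * (w' * a⁻¹ * w'⁻¹) * b⁻¹ := by rw [e1]; group
    _ = ⁅a, b⁆ := by rw [e2, commutatorElement_def]

variable [Finite G] {p : ℕ} [hp : Fact p.Prime]

omit [Finite G] in
/-- The coprime step: `[g, r, g] ∈ P` gives `[g, r] ∈ P`. -/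
theorem mem_of_twice {D P : Subgroup G} {g r : G} (hD : IsPGroup p D) (hco : (orderOf g).Coprime p)
    (hgP : g ∈ Subgroup.normalizer (P : Set G)) (hd : ⁅g, r⁆ ∈ D) (hdP : ⁅g, r⁆ ∈ Subgroup.normalizer (P : Set G))
    (hdd : ⁅g, ⁅g, r⁆⁆ ∈ P) : ⁅g, r⁆ ∈ P := by
  set d := ⁅g, r⁆ with hd'
  have hgd : g * d * g⁻¹ = ⁅g, d⁆ * d := by rw [commutatorElement_def]; group
  have hgr : g * r * g⁻¹ = d * r := by rw [hd', commutatorElement_def]; group
  have hq : ∀ k : ℕ, (⁅g, d⁆ * d) ^ k * (d ^ k)⁻¹ ∈ P := by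
    intro k
    induction k with
    | zero => simp
    | succ k ih =>
      rw [show (⁅g, d⁆ * d) ^ (k + 1) * (d ^ (k + 1))⁻¹ =
        ((⁅g, d⁆ * d) ^ k * (d ^ k)⁻¹) * (d ^ k * ⁅g, d⁆ * (d ^ k)⁻¹) by
          rw [pow_succ, pow_succ]; group]
      exact mul_mem ih ((Subgroup.mem_normalizer_iff.1 (pow_mem hdP k) _).1 hdd)
  have hk : ∀ k : ℕ, (g ^ k * r * (g ^ k)⁻¹) * (d ^ k * r)⁻¹ ∈ P := by
    intro k
    induction k with
    | zero => simp
    | succ k ih =>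
      have h1 : g * (d ^ k * r) * g⁻¹ = (⁅g, d⁆ * d) ^ k * (d * r) := by
        rw [show g * (d ^ k * r) * g⁻¹ = (g * d ^ k * g⁻¹) * (g * r * g⁻¹) by group, hgr, ← conj_pow, hgd]
      rw [show (g ^ (k + 1) * r * (g ^ (k + 1))⁻¹) * (d ^ (k + 1) * r)⁻¹ =
        (g * ((g ^ k * r * (g ^ k)⁻¹) * (d ^ k * r)⁻¹) * g⁻¹) *
          ((g * (d ^ k * r) * g⁻¹) * (d ^ (k + 1) * r)⁻¹) by rw [pow_succ']; group, h1,
        show (⁅g, d⁆ * d) ^ k * (d * r) * (d ^ (k + 1) * r)⁻¹ = (⁅g, d⁆ * d) ^ k * (d ^ k)⁻¹ by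
          rw [pow_succ']; group]
      exact mul_mem ((Subgroup.mem_normalizer_iff.1 hgP _).1 ih) (hq k)
  have h1 := hk (orderOf g)
  rw [pow_orderOf_eq_one, one_mul, inv_one, mul_one,
    show r * (d ^ orderOf g * r)⁻¹ = (d ^ orderOf g)⁻¹ by group, inv_mem_iff] at h1
  obtain ⟨j, hj⟩ := hD ⟨d, hd⟩
  have hj' : d ^ p ^ j = 1 := congrArg Subtype.val hj
  obtain ⟨i, hi⟩ : ∃ i : ℕ, (d ^ orderOf g) ^ i = d :=
    exists_pow_eq_self_of_coprime ((hco.pow_right j).coprime_dvd_right (orderOf_dvd_of_pow_eq_one hj'))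
  rw [← hi]
  exact pow_mem h1 i

/-- One step down a series. -/
theorem fix_step {X P : Subgroup G} (hP : IsPGroup p P) {g : G} (hco : (orderOf g).Coprime p)
    (hg : g ∈ trivOn X P) (hc : g ∈ Subgroup.centralizer (P : Set G)) :
    g ∈ Subgroup.centralizer (X : Set G) := by
  refine Subgroup.mem_centralizer_iff.2 fun x hx => ?_
  have hd := hg.2 x hx
  have h2 : ⁅g, ⁅g, x⁆⁆ ∈ (⊥ : Subgroup G) := by
    rw [Subgroup.mem_bot, commutatorElement_eq_one_iff_mul_comm]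
    exact (Subgroup.mem_centralizer_iff.1 hc _ hd).symm
  have hb : ∀ y : G, y ∈ Subgroup.normalizer ((⊥ : Subgroup G) : Set G) := fun y =>
    Subgroup.mem_normalizer_iff.2 fun z => by simp
  have h := mem_of_twice hP hco (hb g) hd (hb _) h2
  rw [Subgroup.mem_bot, commutatorElement_eq_one_iff_mul_comm] at h
  exact h.symm

omit [Finite G] in
theorem isPGroup_of_coprime [Finite G] {H : Subgroup G} (h : ∀ u ∈ H, (orderOf u).Coprime p → u = 1) :
    IsPGroup p H := by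
  rintro ⟨x, hx⟩
  obtain ⟨k, m, hm, hkm⟩ := Nat.exists_eq_pow_mul_and_not_dvd (orderOf_pos x).ne' p hp.out.ne_one
  refine ⟨k, Subtype.ext ?_⟩
  show x ^ p ^ k = 1
  refine h _ (pow_mem hx _) ?_
  refine Nat.Coprime.coprime_dvd_left (orderOf_dvd_of_pow_eq_one (n := m) ?_)
    (hp.out.coprime_iff_not_dvd.2 hm).symm
  rw [← pow_mul, ← hkm, pow_orderOf_eq_one]

/-- An element of order prime to `p` centralising `O_p(G)` is trivial. -/
theorem eq_one_of_centralizes (hG : Subgroup.centralizer (pCore p G : Set G) ≤ pCore p G) {u : G}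
    (hu : u ∈ Subgroup.centralizer (pCore p G : Set G)) (hco : (orderOf u).Coprime p) : u = 1 := by
  obtain ⟨j, hj⟩ := Fusion.isPGroup_pCore p G ⟨u, hG hu⟩
  have h := Nat.dvd_gcd dvd_rfl (orderOf_dvd_of_pow_eq_one (x := u) (congrArg Subtype.val hj))
  rwa [(hco.pow_right j).gcd_eq_one, Nat.dvd_one, orderOf_eq_one_iff] at h

end Cfsg.Agent.LocalEven.BlockNormal
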