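import Cfsg.Agent.Lib.LocalEven.BlockNormal.Inner
import Cfsg.Agent.Lib.LocalEven.BlockNormal.Data
import Cfsg.Agent.Lib.LocalEven.BlockNormal.Trivial

/-!
# When a second block lies in a subnormal one

If `F = [F, B(T)]` acts on `[V, E]` as `E` and `[O_p(G), F] ≤ O_p(E)`, then `F ≤ E`.
-/

set_option autoImplicit false

open scoped commutatorElement

namespace Cfsg.Agent.LocalEven.BlockNormal

open Cfsg Cfsg.Agent.Fusion Cfsg.Agent.LocalEven.Block Cfsg.Agent.LocalEven.SubnBlock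

variable {G : Type*} [Group G] [Finite G] {p : ℕ} [hp : Fact p.Prime] {E F : Subgroup G} {T : Sylow p G}

theorem Q_le_C0 (hS : Shape p E) : pCoreOf p E ≤ C0 p E := fun a ha =>
  Subgroup.mem_inf.2 ⟨Subgroup.le_normalizer (Block.pCoreOf_le E ha),
    Subgroup.mem_centralizer_iff.2 fun x hx =>
      (Subgroup.mem_centralizer_iff.1 (omegaOneCenter_props (hS.movW hx)).2.1 a ha).symm⟩

section exc

variable {K : Type} [Field K] [Fintype K]

/-- `C₀` acts on `Q / W` by scalars. -/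
theorem scalar_C0 (hT : IsBaumannBlock p (T : Subgroup G) E) (hS : Shape p E)
    (D : ExcD p (T : Subgroup G) E K) {c : G} (hc : c ∈ C0 p E) :
    ∃ s : K, ∀ y ∈ pCoreOf p E, D.S2.c (c * y * c⁻¹) = s • D.S2.c y := by
  have hnQ := normalizer_Q hS (inf_le_left : C0 p E ≤ Subgroup.normalizer (E : Set G))
  have hnW := normalizer_omega (p := p) hnQ
  refine D.S2.semi_of_comm D.three_le (hnQ hc) (hnW hc) fun e y hy => ?_
  have hq : ⁅c, (e : G)⁆ ∈ pCoreOf p E := by
    rw [← commutatorElement_inv]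
    exact inv_mem (comm_C0_le hT hS (Subgroup.commutator_mem_commutator e.2 hc))
  have h1 : c * y * c⁻¹ ∈ pCoreOf p E := D.S2.conj_mem (hnQ hc) hy
  have h2 : (e : G) * (c * y * c⁻¹) * (e : G)⁻¹ ∈ pCoreOf p E := D.S2.conj_mem (D.S2.norm e.2) h1
  rw [← D.S2.c_conj e _ h1, show c * ((e : G) * y * (e : G)⁻¹) * c⁻¹ =
    ⁅c, (e : G)⁆ * ((e : G) * (c * y * c⁻¹) * (e : G)⁻¹) * ⁅c, (e : G)⁆⁻¹ by
      simp only [commutatorElement_def]; group]
  refine ((D.S2.eq_iff h2 (mul_mem (mul_mem hq h2) (inv_mem hq))).2 ?_).symm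
  set z := (e : G) * (c * y * c⁻¹) * (e : G)⁻¹
  rw [show z⁻¹ * (⁅c, (e : G)⁆ * z * ⁅c, (e : G)⁆⁻¹) = ⁅z⁻¹, ⁅c, (e : G)⁆⁆ by
    rw [commutatorElement_def (g₁ := z⁻¹)]; group]
  exact (D.zeq.le (Subgroup.commutator_mem_commutator (inv_mem h2) hq)).1

/-- `B(T)` is linear on `Q / W`. -/
theorem baumann_linear (hG : Subgroup.centralizer (pCore p G : Set G) ≤ pCore p G) (hE : IsSB p E)
    (hT : IsBaumannBlock p (T : Subgroup G) E) (D : ExcD p (T : Subgroup G) E K) {b : G}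
    (hb : b ∈ baumannSubgroupOf p (T : Subgroup G)) : D.S2.IsSemi b id := by
  have hS := hE.shape hG
  have hbn := baumann_normalizes hG T hE hb
  have hbQ := normalizer_Q hS le_rfl hbn
  have hbW := normalizer_omega (p := p) (normalizer_Q hS le_rfl) hbn
  obtain ⟨n, hn⟩ := D.card
  by_cases h4 : 4 ≤ Fintype.card K
  · have hbI : b ∈ E ⊔ C0 p E := by
      rcases kinds hT hS with hk | ⟨K', _, _, ⟨C⟩⟩ | ⟨m, ⟨C⟩⟩
      · exfalso
        have h1 : Fintype.card K ^ 2 ≤ p ^ 2 := by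
          rw [← hk.card, ← Fintype.card_fin 2, ← Fintype.card_fun, ← Nat.card_eq_fintype_card]
          refine Nat.card_le_card_of_surjective (fun x : mov p E => D.S1.c x) fun v => ?_
          obtain ⟨x, hx, hxc⟩ := D.S1.c_surj v
          exact ⟨⟨x, hx⟩, hxc⟩
        have h2 := (Nat.pow_le_pow_iff_left two_ne_zero).1 h1
        have := D.three
        omega
      · exact C.baumann_le_inn hG hE (le_iSup (fun S : Sylow p G => baumannSubgroupOf p (S : Subgroup G)) T hb)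
      · exfalso
        have h1 := C.two
        have h2 := D.three
        omega
    obtain ⟨e, he, c, hc, rfl⟩ := exists_of_mem_inn hbI
    obtain ⟨s, hs⟩ := scalar_C0 hT hS D hc
    exact D.S2.semi_mul (normalizer_Q hS inf_le_left hc) (D.S2.semi_of_mem he) (D.S2.semi_of_scalar hs)
  · refine D.S2.semi_prime (p := p) ?_ hbQ hbW
    have := D.three_le
    have := D.three
    omega

/-- A scalar and a linear element commute on the section. -/
theorem comm_trivial {U A : Subgroup G} (S : Coord U A K) {g h : G}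
    (hgU : g ∈ Subgroup.normalizer (U : Set G)) (hhU : h ∈ Subgroup.normalizer (U : Set G)) {s : K}
    (hs : ∀ y ∈ U, S.c (g * y * g⁻¹) = s • S.c y) (hl : S.IsSemi h id) :
    ∀ z ∈ U, z⁻¹ * (⁅g, h⁆ * z * ⁅g, h⁆⁻¹) ∈ A := by
  intro z hz
  have hn : h * g ∈ Subgroup.normalizer (U : Set G) := mul_mem hhU hgU
  set y := (h * g)⁻¹ * z * (h * g)⁻¹⁻¹ with hy
  have hyU : y ∈ U := S.conj_mem (inv_mem hn) hz
  have h1 : ⁅g, h⁆ * z * ⁅g, h⁆⁻¹ = g * (h * y * h⁻¹) * g⁻¹ := by
    rw [hy, commutatorElement_def]; group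
  have h2 : z = h * (g * y * g⁻¹) * h⁻¹ := by rw [hy]; group
  have hyh := S.conj_mem hhU hyU
  refine (S.eq_iff hz (h1 ▸ S.conj_mem hgU hyh)).1 ?_
  rw [h1, hs _ hyh, h2, hl y hyU _ (S.conj_mem hgU hyU) s (hs y hyU), id_eq]

end exc

/-- If `[O_p(G), F] ≤ O_p(E)` then `F ≤ E`. -/
theorem le_of_comm_R (hG : Subgroup.centralizer (pCore p G : Set G) ≤ pCore p G) (hE : IsSB p E)
    (hT : IsBaumannBlock p (T : Subgroup G) E) (hEP : Pre p (T : Subgroup G) E)
    (hFP : Pre p (T : Subgroup G) F) (hFI : F ≤ E ⊔ C0 p E) (hFN : F ≤ Subgroup.normalizer (E : Set G))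
    (hRF : ∀ f ∈ F, ∀ r ∈ pCore p G, ⁅f, r⁆ ∈ pCoreOf p E) : F ≤ E := by
  have hS := hE.shape hG
  set R := pCore p G with hR
  set Q := pCoreOf p E with hQd
  have hNQ : Subgroup.normalizer (E : Set G) ≤ Subgroup.normalizer (Q : Set G) := normalizer_Q hS le_rfl
  have hNR : ∀ g : G, g ∈ Subgroup.normalizer (R : Set G) := mem_normalizer_pCore
  have hB : baumannSubgroupOf p (T : Subgroup G) ≤ Subgroup.normalizer (E : Set G) :=
    baumann_normalizes hG T hE
  have hsplit : ∀ f ∈ F, ∃ e ∈ E, ∃ c ∈ C0 p E ⊓ trivOn R Q, f = e * c := fun f hf => by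
    obtain ⟨e, he, c, hc, rfl⟩ := exists_of_mem_inn (hFI hf)
    refine ⟨e, he, c, Subgroup.mem_inf.2 ⟨hc, ?_⟩, rfl⟩
    have h1 : e ∈ trivOn R Q := ⟨hNQ (Subgroup.le_normalizer he), fun r hr => hS.comm_mem_Q he hr⟩
    have h2 : e * c ∈ trivOn R Q := ⟨hNQ (hFN hf), fun r hr => hRF _ hf r hr⟩
    simpa using mul_mem (inv_mem h1) h2
  have hres : ∀ L : Subgroup G, IsPGroup p L → L ≤ Subgroup.normalizer (E : Set G) → F ≤ E ⊔ L → F ≤ E := by
    intro L hL hn h
    have h1 := Res.le_of_sup (p := p) hL hn h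
    rw [show (pResidual p ↥F).map F.subtype = F from hFP.res,
      show (pResidual p ↥E).map E.subtype = E from hEP.res] at h1
    exact h1
  rcases hEP.qcase with hq | ⟨K, _, _, ⟨D⟩⟩
  · refine hres (C0 p E ⊓ trivOn R Q) ?_ (inf_le_left.trans inf_le_left) fun f hf => ?_
    · refine isPGroup_of_coprime fun u hu hco => eq_one_of_centralizes hG ?_ hco
      refine fix_step (Fusion.pCoreOf_isPGroup (p := p) E) hco hu.2 ?_
      rw [show pCoreOf p E = mov p E from hq]
      exact hu.1.2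
    · obtain ⟨e, he, c, hc, rfl⟩ := hsplit f hf
      exact mul_mem (Subgroup.mem_sup_left he) (Subgroup.mem_sup_right hc)
  · set W := omegaOneCenter p Q with hW
    have hNW : Subgroup.normalizer (E : Set G) ≤ Subgroup.normalizer (W : Set G) := normalizer_omega hNQ
    set L := C0 p E ⊓ trivOn R Q ⊓ trivOn Q W with hL
    refine hres L ?_ (inf_le_left.trans (inf_le_left.trans inf_le_left)) ?_
    · refine isPGroup_of_coprime fun u hu hco => eq_one_of_centralizes hG ?_ hco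
      refine fix_step (Fusion.pCoreOf_isPGroup (p := p) E) hco hu.1.2 ?_
      refine fix_step (isPGroup_omegaOneCenter _) hco hu.2 ?_
      -- `u` centralises `W`
      have hZ : ⁅Q, Q⁆ ≤ Subgroup.centralizer {u} := Subgroup.commutator_le.2 fun a ha b hb => by
        refine Subgroup.mem_centralizer_singleton_iff.2 ?_
        have hw : ∀ a ∈ Q, ∃ w ∈ W, u * a * u⁻¹ = a * w := fun a ha => by
          refine ⟨a⁻¹ * ⁅u, a⁆ * a⁻¹⁻¹,
            (Subgroup.mem_normalizer_iff.1 (hNW (Subgroup.le_normalizer (Block.pCoreOf_le E (inv_mem ha)))) _).1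
              (hu.2.2 a ha), ?_⟩
          simp only [commutatorElement_def]; group
        obtain ⟨w, hw1, h1⟩ := hw a ha
        obtain ⟨w', hw2, h2⟩ := hw b hb
        have h3 := fix_comm h1 h2 (W_central hb hw1).symm (omega_comm _ hw1 _ hw2) (W_central ha hw2).symm
        exact (conj_fix_iff.1 h3).symm
      have hWc : W ≤ Subgroup.centralizer {u} := by
        refine hEP.cover.trans (sup_le (fun m hm => Subgroup.mem_centralizer_singleton_iff.2 ?_) ?_)
        · exact Subgroup.mem_centralizer_iff.1 hu.1.1.2 m hm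
        · rw [← D.zeq]; exact hZ
      exact Subgroup.mem_centralizer_iff.2 fun w hw => Subgroup.mem_centralizer_singleton_iff.1 (hWc hw)
    · rw [← hFP.baumann]
      refine Subgroup.commutator_le.2 fun f hf b hb => ?_
      obtain ⟨e, he, c, hc, rfl⟩ := hsplit f hf
      have hbE := hB hb
      have hcb : ⁅c, b⁆ ∈ L := by
        obtain ⟨hc1, hc2⟩ := Subgroup.mem_inf.1 hc
        obtain ⟨s, hs⟩ := scalar_C0 hT hS D hc1
        have hcc : ⁅c, b⁆ ∈ Subgroup.normalizer (E : Set G) := by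
          rw [commutatorElement_def]
          exact mul_mem (mul_mem (mul_mem hc1.1 hbE) (inv_mem hc1.1)) (inv_mem hbE)
        refine Subgroup.mem_inf.2 ⟨Subgroup.mem_inf.2 ⟨comm_mem_of_conj hc1 (C0_conj hbE (inv_mem hc1)),
          comm_mem_of_conj hc2 (trivOn_conj (hNR b) (hNQ hbE) (inv_mem hc2))⟩, hNW hcc, fun y hy => ?_⟩
        have h1 := comm_trivial D.S2.toCoord (hNQ hc1.1) (hNQ hbE) hs (baumann_linear hG hE hT D hb) y hy
        rw [show ⁅⁅c, b⁆, y⁆ = y * (y⁻¹ * (⁅c, b⁆ * y * ⁅c, b⁆⁻¹)) * y⁻¹ by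
          rw [commutatorElement_def (g₁ := ⁅c, b⁆)]; group]
        exact (Subgroup.mem_normalizer_iff.1 (hNW (Subgroup.le_normalizer (Block.pCoreOf_le E hy))) _).1 h1
      rw [comm_split]
      exact mul_mem (mul_mem (mul_mem (Subgroup.mem_sup_left he) (Subgroup.mem_sup_right hcb))
        (inv_mem (Subgroup.mem_sup_left he))) (Subgroup.mem_sup_left (comm_mem he hbE).1)

/-- If every element of `F` is trivial on `Q / W` then `F` centralises `[V, E]`. -/
theorem le_C0_of_trivial {K : Type} [Field K] [Fintype K]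
    (hG : Subgroup.centralizer (pCore p G : Set G) ≤ pCore p G) (hE : IsSB p E)
    (hT : IsBaumannBlock p (T : Subgroup G) E) (D : ExcD p (T : Subgroup G) E K)
    (hFP : Pre p (T : Subgroup G) F) (hFI : F ≤ E ⊔ C0 p E) (hFN : F ≤ Subgroup.normalizer (E : Set G))
    (htriv : F ≤ trivOn (pCoreOf p E) (omegaOneCenter p (pCoreOf p E))) : F ≤ C0 p E := by
  have hS := hE.shape hG
  set Q := pCoreOf p E with hQd
  set W := omegaOneCenter p Q with hW
  have hNQ : Subgroup.normalizer (E : Set G) ≤ Subgroup.normalizer (Q : Set G) := normalizer_Q hS le_rfl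
  have hNW : Subgroup.normalizer (E : Set G) ≤ Subgroup.normalizer (W : Set G) := normalizer_omega hNQ
  rw [← hFP.baumann]
  refine Subgroup.commutator_le.2 fun f hf b hb => ?_
  obtain ⟨e, he, c, hc, rfl⟩ := exists_of_mem_inn (hFI hf)
  have hbE := baumann_normalizes hG T hE hb
  obtain ⟨s, hs⟩ := scalar_C0 hT hS D hc
  have hbl := baumann_linear hG hE hT D hb
  -- `e` is a scalar on `Q / W`
  obtain ⟨y₀, hy₀, hy₀c⟩ := D.S2.c_surj ![1, 0]
  have hfix : ∀ y ∈ Q, D.S2.c ((e * c) * y * (e * c)⁻¹) = D.S2.c y := fun y hy => by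
    have h1 := (htriv hf).2 y hy
    refine ((D.S2.eq_iff hy (D.S2.conj_mem (hNQ (hFN hf)) hy)).2 ?_).symm
    rw [show y⁻¹ * (e * c * y * (e * c)⁻¹) = y⁻¹ * ⁅e * c, y⁆ * y⁻¹⁻¹ by
      simp only [commutatorElement_def]; group]
    exact (Subgroup.mem_normalizer_iff.1
      (hNW (Subgroup.le_normalizer (Block.pCoreOf_le E (inv_mem hy)))) _).1 h1
  have hmul : ∀ y ∈ Q, (D.S2.ρ ⟨e, he⟩ : Matrix (Fin 2) (Fin 2) K).mulVec (s • D.S2.c y) = D.S2.c y := by
    intro y hy
    rw [← hs y hy, ← D.S2.c_conj ⟨e, he⟩ _ (D.S2.conj_mem (hNQ hc.1) hy), ← hfix y hy]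
    congr 1
    group
  have hs0 : s ≠ 0 := fun h => by
    have h1 := hmul y₀ hy₀
    rw [h, zero_smul, Matrix.mulVec_zero, hy₀c] at h1
    simpa using congrFun h1.symm 0
  have he' : ∀ y ∈ Q, D.S2.c (e * y * e⁻¹) = s⁻¹ • D.S2.c y := fun y hy => by
    rw [D.S2.c_conj ⟨e, he⟩ y hy]
    conv_rhs => rw [← hmul y hy, Matrix.mulVec_smul, smul_smul, inv_mul_cancel₀ hs0, one_smul]
  have heb : ⁅e, b⁆ ∈ Q := by
    have h1 := comm_trivial D.S2.toCoord (hNQ (Subgroup.le_normalizer he)) (hNQ hbE) he' hbl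
    have heE := (comm_mem he hbE).1
    refine (D.ker2 ⟨⁅e, b⁆, heE⟩).1 (sl_ext fun v => ?_)
    obtain ⟨z, hz, rfl⟩ := D.S2.c_surj v
    rw [← D.S2.c_conj ⟨⁅e, b⁆, heE⟩ z hz]
    exact ((D.S2.eq_iff hz (D.S2.conj_mem (hNQ (Subgroup.le_normalizer heE)) hz)).2 (h1 z hz)).symm
  rw [comm_split]
  exact mul_mem (C0_conj (Subgroup.le_normalizer he) (comm_mem_of_conj hc (C0_conj hbE (inv_mem hc))))
    (Q_le_C0 hS heb)

end Cfsg.Agent.LocalEven.BlockNormal
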