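import Cfsg.Agent.Lib.LocalEven.Subnormal.Main
import Cfsg.Agent.Lib.Fusion.ThompsonFactor

/-!
# Blocks under automorphisms
-/

set_option autoImplicit false

open scoped commutatorElement

namespace Cfsg.Agent.LocalEven.BlockNormal

open Cfsg Cfsg.Agent.Fusion Cfsg.Agent.LocalEven.Block

variable {G : Type*} [Group G] [Finite G] {p : ℕ} [hp : Fact p.Prime]

/-- The restriction of an automorphism to a subgroup. -/
def sm (e : G ≃* G) (E : Subgroup G) : ↥E ≃* ↥(E.map e.toMonoidHom) := e.subgroupMap E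

omit [Finite G] hp in
theorem sm_val (e : G ≃* G) (E : Subgroup G) (x : ↥E) : ((sm e E x : ↥(E.map e.toMonoidHom)) : G) = e x := rfl

omit [Finite G] hp in
theorem comp_sm {K : Type*} [Group K] (e : G ≃* G) {E : Subgroup G} (φ : ↥E →* K) (x : ↥E) :
    (φ.comp (sm e E).symm.toMonoidHom) (sm e E x) = φ x :=
  congrArg φ ((sm e E).symm_apply_apply x)

omit hp in
theorem pCoreOf_map (e : G ≃* G) (X : Subgroup G) :
    (pCoreOf p X).map e.toMonoidHom = pCoreOf p (X.map e.toMonoidHom) := by
  show ((pCore p ↥X).map X.subtype).map e.toMonoidHom = _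
  rw [pCoreOf, ← map_pCore_equiv (p := p) (sm e X), Subgroup.map_map, Subgroup.map_map]
  rfl

omit [Finite G] hp in
theorem centralizer_map (e : G ≃* G) (X : Subgroup G) :
    (Subgroup.centralizer (X : Set G)).map e.toMonoidHom =
      Subgroup.centralizer ((X.map e.toMonoidHom : Subgroup G) : Set G) := by
  ext y
  constructor
  · rintro ⟨x, hx, rfl⟩
    refine Subgroup.mem_centralizer_iff.2 ?_
    rintro _ ⟨s, hs, rfl⟩
    rw [← map_mul, ← map_mul, Subgroup.mem_centralizer_iff.1 hx s hs]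
  · intro hy
    refine ⟨e.symm y, Subgroup.mem_centralizer_iff.2 fun s hs => e.injective ?_, e.apply_symm_apply y⟩
    rw [map_mul, map_mul, e.apply_symm_apply]
    exact Subgroup.mem_centralizer_iff.1 hy _ ⟨s, hs, rfl⟩

omit [Finite G] hp in
theorem omegaOneCenter_map (e : G ≃* G) (X : Subgroup G) :
    (omegaOneCenter p X).map e.toMonoidHom = omegaOneCenter p (X.map e.toMonoidHom) := by
  rw [omegaOneCenter, omegaOneCenter, omegaOne_map e.toMonoidHom _ e.injective.injOn,
    center_map_injOn e.toMonoidHom X e.injective.injOn]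

omit [Finite G] hp in
theorem normalizer_map_le (e : G ≃* G) {E U : Subgroup G} (h : E ≤ Subgroup.normalizer (U : Set G)) :
    E.map e.toMonoidHom ≤ Subgroup.normalizer ((U.map e.toMonoidHom : Subgroup G) : Set G) :=
  (Subgroup.map_mono h).trans (Subgroup.le_normalizer_map _)

omit [Finite G] hp in
theorem sl2_map (e : G ≃* G) {F : Type} [Field F] {R : Subgroup (Matrix.SpecialLinearGroup (Fin 2) F)}
    {E U U₀ : Subgroup G} (h : ActsAsSL2OnSection F R E U U₀) :
    ActsAsSL2OnSection F R (E.map e.toMonoidHom) (U.map e.toMonoidHom) (U₀.map e.toMonoidHom) := by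
  obtain ⟨hn, hle, ρ, ψ, hρ, hψ, hker, hact⟩ := h
  refine ⟨normalizer_map_le e hn, Subgroup.map_mono hle, ρ.comp (sm e E).symm.toMonoidHom,
    ψ.comp (sm e U).symm.toMonoidHom, ?_, ?_, fun u => ?_, fun g u => ?_⟩
  · rw [MonoidHom.range_comp, MonoidHom.range_eq_top.2 (sm e E).symm.surjective,
      ← MonoidHom.range_eq_map, hρ]
  · exact hψ.comp (sm e U).symm.surjective
  · obtain ⟨v, rfl⟩ := (sm e U).surjective u
    show ψ ((sm e U).symm (sm e U v)) = 1 ↔ _
    rw [MulEquiv.symm_apply_apply, hker]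
    exact (Subgroup.mem_map_iff_mem (f := e.toMonoidHom) e.injective (K := U₀) (x := (v : G))).symm
  · obtain ⟨g', rfl⟩ := (sm e E).surjective g
    obtain ⟨v, rfl⟩ := (sm e U).surjective u
    obtain ⟨w, hw, hw'⟩ := hact g' v
    refine ⟨sm e U w, ?_, ?_⟩
    · show e (w : G) = e (g' : G) * e (v : G) * (e (g' : G))⁻¹
      rw [hw, map_mul, map_mul, map_inv]
    · rw [comp_sm, comp_sm, comp_sm]
      exact hw'

omit [Finite G] hp in
theorem perm_map (e : G ≃* G) {n : ℕ} {R : Subgroup (Equiv.Perm (Fin n))}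
    {E U U₀ : Subgroup G} (h : ActsAsOddPermModuleOnSection n R E U U₀) :
    ActsAsOddPermModuleOnSection n R (E.map e.toMonoidHom) (U.map e.toMonoidHom)
      (U₀.map e.toMonoidHom) := by
  obtain ⟨hn, hle, ρ, ψ, hρ, hev, hψ, hker, hact⟩ := h
  refine ⟨normalizer_map_le e hn, Subgroup.map_mono hle, ρ.comp (sm e E).symm.toMonoidHom,
    ψ.comp (sm e U).symm.toMonoidHom, ?_, fun u => hev _, fun v hv => ?_, fun u => ?_, fun g u => ?_⟩
  · rw [MonoidHom.range_comp, MonoidHom.range_eq_top.2 (sm e E).symm.surjective,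
      ← MonoidHom.range_eq_map, hρ]
  · obtain ⟨u, hu⟩ := hψ v hv
    exact ⟨sm e U u, by rw [comp_sm]; exact hu⟩
  · obtain ⟨v, rfl⟩ := (sm e U).surjective u
    show ψ ((sm e U).symm (sm e U v)) = 1 ↔ _
    rw [MulEquiv.symm_apply_apply, hker]
    exact (Subgroup.mem_map_iff_mem (f := e.toMonoidHom) e.injective (K := U₀) (x := (v : G))).symm
  · obtain ⟨g', rfl⟩ := (sm e E).surjective g
    obtain ⟨v, rfl⟩ := (sm e U).surjective u
    obtain ⟨w, hw, hw'⟩ := hact g' v
    refine ⟨sm e U w, ?_, fun i => ?_⟩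
    · show e (w : G) = e (g' : G) * e (v : G) * (e (g' : G))⁻¹
      rw [hw, map_mul, map_mul, map_inv]
    · rw [comp_sm, comp_sm, comp_sm]
      exact hw' i

omit [Finite G] hp in
theorem frattini_equiv {A B : Type*} [Group A] [Group B] (f : A ≃* B) :
    (frattini A).map f.toMonoidHom = frattini B := by
  refine le_antisymm
    (Subgroup.map_le_iff_le_comap.mpr (frattini_le_comap_frattini_of_surjective f.surjective)) ?_
  intro y hy
  exact ⟨f.symm y, frattini_le_comap_frattini_of_surjective (φ := f.symm.toMonoidHom) f.symm.surjective hy,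
    f.apply_symm_apply y⟩

/-- Blocks are carried by automorphisms. -/
theorem block_map (e : G ≃* G) {T E : Subgroup G} (hE : IsBaumannBlock p T E) :
    IsBaumannBlock p (T.map e.toMonoidHom) (E.map e.toMonoidHom) := by
  have mc : ∀ A B : Subgroup G, ⁅A, B⁆.map e.toMonoidHom = ⁅A.map e.toMonoidHom, B.map e.toMonoidHom⁆ :=
    fun A B => Subgroup.map_commutator A B _
  have mi : ∀ A B : Subgroup G,
      (A ⊓ B).map e.toMonoidHom = A.map e.toMonoidHom ⊓ B.map e.toMonoidHom :=
    fun A B => Subgroup.map_inf A B _ e.injective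
  have mQ : (pCoreOf p E).map e.toMonoidHom = pCoreOf p (E.map e.toMonoidHom) := pCoreOf_map e E
  have mW : (omegaOneCenter p (pCoreOf p E)).map e.toMonoidHom =
      omegaOneCenter p (pCoreOf p (E.map e.toMonoidHom)) := by rw [omegaOneCenter_map, mQ]
  have mZ : (omegaOneCenter p (pCoreOf p E) ⊓ Subgroup.centralizer (E : Set G)).map e.toMonoidHom =
      omegaOneCenter p (pCoreOf p (E.map e.toMonoidHom)) ⊓
        Subgroup.centralizer ((E.map e.toMonoidHom : Subgroup G) : Set G) := by
    rw [mi, mW, centralizer_map]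
  obtain ⟨h1, h2, h3, h4, h5⟩ := hE
  have eq' : ↥(E.map e.toMonoidHom) ⧸ pCore p ↥(E.map e.toMonoidHom) ≃* ↥E ⧸ pCore p ↥E :=
    (QuotientGroup.congr _ _ (sm e E) (map_pCore_equiv (p := p) _)).symm
  refine ⟨?_, ?_, ?_, fun h => h4 ?_, ?_⟩
  · have := Res.res_map (p := p) e.toMonoidHom E
    rw [show (pResidual p ↥E).map E.subtype = E from h1] at this
    exact this.symm
  · rw [← baumann_map, ← mc, h2]
  · rw [← mQ, ← mc, h3]
  · rw [← omegaOneCenter_map, ← mc, Subgroup.map_eq_bot_iff_of_injective _ e.injective] at h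
    exact h
  · rcases h5 with ⟨F, i1, i2, n, hF, ⟨iso⟩, hact, hrest⟩ | ⟨hp2, m, ⟨iso⟩, hact, hQW⟩
    · refine Or.inl ⟨F, i1, i2, n, hF, ⟨eq'.trans iso⟩, ?_, ?_⟩
      · rw [← mW, ← centralizer_map, ← mi]
        exact sl2_map e hact
      rcases hrest with h | ⟨hp3, hact', hz, hfr, hc, hcard, hquad⟩
      · exact Or.inl (by rw [← mW, ← mQ]; exact congrArg _ h)
      refine Or.inr ⟨hp3, ?_, ?_, ?_, ?_, ?_, fun b hb hbn => ?_⟩
      · rw [← mW, ← mQ]
        exact sl2_map e hact'
      · rw [← mZ, ← mQ, ← mc, hz]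
      · rw [← mZ, ← hfr, ← mQ]
        have h6 := frattini_equiv (sm e (pCoreOf p E))
        rw [← h6, Subgroup.map_map, Subgroup.map_map]
        rfl
      · rw [← mZ, ← centralizer_map, ← mi, hc]
      · rw [← centralizer_map, ← mi, Subgroup.card_map_of_injective (f := e.toMonoidHom) e.injective]
        exact hcard
      · rw [← baumann_map] at hb
        obtain ⟨a, ha, rfl⟩ := hb
        rw [← mW, ← centralizer_map] at hbn
        intro hle
        refine hquad a ha (fun h => hbn ⟨a, h, rfl⟩) ?_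
        rw [← MonoidHom.map_zpowers, ← mQ, ← mc, ← mc, ← centralizer_map, ← mi] at hle
        exact (Subgroup.map_le_map_iff_of_injective e.injective).1 hle
    · refine Or.inr ⟨hp2, m, ⟨eq'.trans iso⟩, ?_, by rw [← mW, ← mQ]; exact congrArg _ hQW⟩
      rw [← mW, ← centralizer_map, ← mi]
      exact perm_map e hact

/-- A conjugate of a block is a block. -/
theorem block_cj (T : Sylow p G) {E : Subgroup G} (hE : IsBaumannBlock p (T : Subgroup G) E) (g : G) :
    ∃ T' : Sylow p G, IsBaumannBlock p (T' : Subgroup G) (Fusion.cj E g) := by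
  obtain ⟨T', hT'⟩ := SylIn.exists_sylow (T := Fusion.cj (T : Subgroup G) g)
    (by simpa only [Fusion.cj_of_normal] using (sylIn_top T).cj g)
  refine ⟨T', ?_⟩
  rw [hT']
  exact block_map (MulAut.conj g) hE

omit [Finite G] hp in
theorem subnormal_cj {E : Subgroup G} (hs : E.IsSubnormal) (g : G) : (Fusion.cj E g).IsSubnormal :=
  Subgroup.IsSubnormal.map (MulAut.conj g).surjective hs

end Cfsg.Agent.LocalEven.BlockNormal
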