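import Cfsg.Agent.Lib.LocalEven.BlockNormal.Fix
import Cfsg.Agent.Lib.LocalEven.BlockNormal.Transport
import Cfsg.Agent.Lib.Lead.PGV.Main

/-!
# The Baumann subgroup normalises every subnormal block

Members of largest elementary abelian subgroups normalise every subnormal block, so `J(T)` fixes a vector of
`[V, E]` outside `C(E)`; this vector lies in `Ω₁(Z(J(T)))` and is centralised by `B(T)`.
-/

set_option autoImplicit false

open scoped commutatorElement Pointwise

namespace Cfsg.Agent.LocalEven.BlockNormal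

open Cfsg Cfsg.Agent.Fusion Cfsg.Agent.LocalEven.Block Cfsg.Agent.LocalEven.SubnBlock

variable {G : Type*} [Group G] [Finite G] {p : ℕ} [hp : Fact p.Prime] {E : Subgroup G}

/-- A subnormal block for some Sylow subgroup. -/
def IsSB (p : ℕ) (E : Subgroup G) : Prop :=
  (∃ T : Sylow p G, IsBaumannBlock p (T : Subgroup G) E) ∧ E.IsSubnormal

theorem IsSB.cj (h : IsSB p E) (g : G) : IsSB p (Fusion.cj E g) := by
  obtain ⟨⟨T, hT⟩, hs⟩ := h
  exact ⟨block_cj T hT g, subnormal_cj hs g⟩

theorem IsSB.shape (h : IsSB p E) (hG : Subgroup.centralizer (pCore p G : Set G) ≤ pCore p G) : Shape p E := by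
  obtain ⟨⟨T, hT⟩, hs⟩ := h
  exact shape_of_block hG T hT hs

theorem IsSB.eq_or (hG : Subgroup.centralizer (pCore p G : Set G) ≤ pCore p G) {F : Subgroup G}
    (hE : IsSB p E) (hF : IsSB p F) : E = F ∨ ⁅E, F⁆ = ⊥ :=
  eq_or_commute hG (hE.shape hG) (hF.shape hG)

theorem mov_cj (E : Subgroup G) (g : G) : Fusion.cj (mov p E) g = mov p (Fusion.cj E g) := by
  haveI := vSub_normal (p := p) (G := G)
  rw [Fusion.cj_commutator, Fusion.cj_of_normal]

theorem mov_le_block (hS : Shape p E) : mov p E ≤ E :=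
  fun _ hx => Block.pCoreOf_le E (omegaOneCenter_props (hS.movW hx)).1

omit [Finite G] hp in
theorem conj_fix_iff {a x : G} : a * x * a⁻¹ = x ↔ a * x = x * a := mul_inv_eq_iff_eq_mul

theorem elemAb_vSub : IsElementaryAbelian p (vSub p G) :=
  ⟨⟨⟨fun a b => Subtype.ext (omega_comm _ a.2 _ b.2)⟩⟩, fun _ hx => (omegaOneCenter_props hx).2.2⟩

theorem vSub_le_sylow (T : Sylow p G) : vSub p G ≤ (T : Subgroup G) :=
  fun _ hx => Fusion.pCore_le_sylow T (omegaOneCenter_props hx).1

/-- A largest elementary abelian subgroup gives a best offender on each subgroup of `V`. -/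
theorem max_ineq (T : Sylow p G) {A : Subgroup G}
    (hA : A ∈ maxIn (fun A : Subgroup G => IsElementaryAbelian p A) (T : Subgroup G)) {B W U : Subgroup G}
    (hB : B ≤ A) (hW : W ≤ vSub p G) (hcomm : W ≤ Subgroup.centralizer (B : Set G)) (hWU : W ≤ U) :
    Nat.card B * Nat.card W ≤ Nat.card A * Nat.card ↥(U ⊓ Subgroup.centralizer (A : Set G)) := by
  have hBW : IsElementaryAbelian p (B ⊔ W) :=
    Local.elemAb_sup (Local.elemAb_mono hA.2.1 hB) (Local.elemAb_mono elemAb_vSub hW)
      fun b hb w hw => Subgroup.mem_centralizer_iff.1 (hcomm hw) b hb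
  rw [← Solv.card_mul_set_mul_card_inf B W]
  refine Nat.mul_le_mul ((Nat.card_mono (Set.toFinite _) ?_).trans
    (hA.2.2 _ (sup_le (hB.trans hA.1) (hW.trans (vSub_le_sylow T))) hBW)) ?_
  · rintro _ ⟨b, hb, w, hw, rfl⟩
    exact mul_mem (Subgroup.mem_sup_left hb) (Subgroup.mem_sup_right hw)
  · refine Subgroup.card_le_of_le fun x hx => ?_
    obtain ⟨hxB, hxW⟩ := Subgroup.mem_inf.1 hx
    refine Subgroup.mem_inf.2 ⟨hWU hxW, Subgroup.mem_centralizer_iff.2 fun a ha => ?_⟩
    exact Local.elemAb_commute hA.2.1 ha (hB hxB)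

section quasi

/-- Quasisimple subgroups in the sense of the component theorem. -/
theorem qs_of {Q : Type*} [Group Q] [Finite Q] {K : Subgroup Q} (hK : Cfsg.IsQuasisimple ↥K) :
    PGV.QS K := by
  have hperf : ⁅K, K⁆ = K := by
    haveI := hK.1
    have h := congrArg (Subgroup.map K.subtype) (Group.IsPerfect.commutator_eq_top (G := K))
    rwa [commutator_def, Subgroup.map_commutator, ← MonoidHom.range_eq_map, Subgroup.range_subtype] at h
  refine ⟨hperf, fun hle => ?_, fun N hNK hinv => ?_⟩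
  · refine Solv.qs_center_ne_top hK (eq_top_iff.2 fun x _ => Subgroup.mem_center_iff.2 fun y => ?_)
    exact Subtype.ext (Subgroup.mem_centralizer_iff.1 (hle x.2) (y : Q) y.2)
  · haveI : (N.subgroupOf K).Normal := ⟨fun x hx g => hinv g g.2 x hx⟩
    rcases Solv.qs_normal_le_center_or_top hK (N.subgroupOf K) with h | h
    · exact Or.inr (le_antisymm hNK (Subgroup.subgroupOf_eq_top.1 h))
    · refine Or.inl fun x hx => Subgroup.mem_centralizer_iff.2 fun y hy => ?_
      exact congrArg Subtype.val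
        (Subgroup.mem_center_iff.1 (h (show (⟨x, hNK hx⟩ : K) ∈ N.subgroupOf K from hx)) ⟨y, hy⟩)

theorem normalizes_quasi (hG : Subgroup.centralizer (pCore p G : Set G) ≤ pCore p G) (T : Sylow p G)
    {A : Subgroup G} (hA : A ∈ maxIn (fun A : Subgroup G => IsElementaryAbelian p A) (T : Subgroup G))
    (hE : IsSB p E) (hqs : Cfsg.IsQuasisimple ↥(bar p E)) : A ≤ Subgroup.normalizer (E : Set G) := by
  classical
  have hS := hE.shape hG
  set π := QuotientGroup.mk' (pCore p G) with hπ
  letI : CommGroup ↥(vSub p G) := { (inferInstance : Group ↥(vSub p G)) with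
    mul_comm := fun a b => Subtype.ext (omega_comm _ a.2 _ b.2) }
  let φ : G ⧸ pCore p G →* AddMonoid.End (Additive ↥(vSub p G)) :=
    { toFun := fun q => MonoidHom.toAdditive (act1 p G q).toMonoidHom
      map_one' := by rw [map_one]; rfl
      map_mul' := fun a b => by rw [map_mul]; rfl }
  have hfix : ∀ B : Subgroup G, Nat.card (PGV.fixSet φ ((B.map π : Subgroup (G ⧸ pCore p G)) : Set (G ⧸ pCore p G))) =
      Nat.card ↥(vSub p G ⊓ Subgroup.centralizer (B : Set G)) := by
    intro B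
    refine Nat.card_congr ⟨fun v => ⟨((Additive.toMul (v : Additive ↥(vSub p G)) : ↥(vSub p G)) : G),
        Subgroup.mem_inf.2 ⟨(Additive.toMul (v : Additive ↥(vSub p G))).2,
          Subgroup.mem_centralizer_iff.2 fun b hb => ?_⟩⟩,
      fun x => ⟨Additive.ofMul ⟨x, (Subgroup.mem_inf.1 x.2).1⟩, ?_⟩, fun v => rfl, fun x => rfl⟩
    · refine conj_fix_iff.1 ?_
      have := v.2 (π b) ⟨b, hb, rfl⟩
      exact congrArg (fun w : Additive ↥(vSub p G) => ((Additive.toMul w : ↥(vSub p G)) : G)) this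
    · rintro _ ⟨b, hb, rfl⟩
      refine Additive.toMul.injective (Subtype.ext ?_)
      exact conj_fix_iff.2 (Subgroup.mem_centralizer_iff.1 (Subgroup.mem_inf.1 x.2).2 b hb)
  have hbest : PGV.IsBest φ (A.map π) := by
    intro B hB
    set B' := A ⊓ B.comap π with hB'
    have hBmap : B'.map π = B := by
      refine le_antisymm (by rintro _ ⟨x, hx, rfl⟩; exact (Subgroup.mem_inf.1 hx).2) fun b hb => ?_
      obtain ⟨a, ha, rfl⟩ := hB hb
      exact ⟨a, Subgroup.mem_inf.2 ⟨ha, hb⟩, rfl⟩
    have hk : B' ⊓ π.ker = A ⊓ π.ker := le_antisymm (inf_le_inf_right _ inf_le_left) fun x hx => by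
      obtain ⟨h1, h2⟩ := Subgroup.mem_inf.1 hx
      refine Subgroup.mem_inf.2 ⟨Subgroup.mem_inf.2 ⟨h1, ?_⟩, h2⟩
      rw [Subgroup.mem_comap, MonoidHom.mem_ker.1 h2]
      exact one_mem B
    have h1 := max_ineq T hA (B := B') (W := vSub p G ⊓ Subgroup.centralizer (B' : Set G)) (U := vSub p G)
      inf_le_left inf_le_left inf_le_right inf_le_left
    rw [← Solv.card_map_mul_card_inf_ker π B', ← Solv.card_map_mul_card_inf_ker π A, inf_comm π.ker B', inf_comm π.ker A, hk, hBmap] at h1
    show Nat.card B * _ ≤ Nat.card (A.map π) * _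
    rw [← hBmap, hfix, hfix, hBmap]
    refine Nat.le_of_mul_le_mul_left (c := Nat.card ↥(A ⊓ π.ker)) ?_ Nat.card_pos
    simpa [mul_comm, mul_left_comm, mul_assoc] using h1
  obtain ⟨e, he, u, hu, hne⟩ : ∃ e ∈ E, ∃ u ∈ vSub p G, e * u * e⁻¹ ≠ u := by
    by_contra h
    push Not at h
    refine hS.ne ((mov_le E).trans fun u hu => Subgroup.mem_centralizer_iff.2 fun e he => ?_)
    exact conj_fix_iff.1 (h e he u hu)
  have hAn : A.map π ≤ Subgroup.normalizer (bar p E : Set (G ⧸ pCore p G)) := by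
    refine PGV.best_normalizes _ φ (A.map π) (bar p E) (p := p) (fun v => ?_) ?_ ?_ hbest (qs_of hqs) ?_ ?_ rfl
    · exact Additive.toMul.injective (Subtype.ext (omegaOneCenter_props (Additive.toMul v).2).2.2)
    · rintro _ ⟨a, ha, rfl⟩ _ ⟨b, hb, rfl⟩
      exact (show Commute a b from Local.elemAb_commute hA.2.1 ha hb).map π
    · rintro _ ⟨a, ha, rfl⟩
      rw [← map_pow, hA.2.1.2 a ha, map_one]
    · refine ⟨π e, ⟨e, he, rfl⟩, fun h => hne ?_⟩
      exact congrArg (fun w : Additive ↥(vSub p G) => ((Additive.toMul w : ↥(vSub p G)) : G))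
        (DFunLike.congr_fun h (Additive.ofMul ⟨u, hu⟩))
    · rintro _ ⟨a, ha, rfl⟩
      rcases (hE.cj a).eq_or hG hE with h | h
      · refine Or.inl (Subgroup.le_normalizer_map π ⟨a, ?_, rfl⟩)
        exact Fusion.mem_normalizer_iff_cj.2 h
      · refine Or.inr ?_
        rintro _ ⟨x, hx, rfl⟩ _ ⟨y, hy, rfl⟩
        rw [← map_mul, ← map_inv, ← map_mul]
        exact (show Commute (a * x * a⁻¹) y from
          commutatorElement_eq_one_iff_mul_comm.1 (Subgroup.mem_bot.1
            (h ▸ Subgroup.commutator_mem_commutator (Fusion.conj_mem_cj hx) hy))).map π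
  intro a ha
  have h1 : a ∈ Subgroup.normalizer ((E ⊔ pCore p G : Subgroup G) : Set G) := by
    rw [sup_comm, ← QuotientGroup.comap_map_mk' (pCore p G) E]
    refine Subgroup.mem_normalizer_iff.2 fun x => ?_
    rw [Subgroup.mem_comap, Subgroup.mem_comap, map_mul, map_mul, map_inv]
    exact Subgroup.mem_normalizer_iff.1 (hAn ⟨a, ha, rfl⟩) _
  have h2 := Res.normalizer_le (p := p) (E ⊔ pCore p G) h1
  rwa [show (pResidual p ↥(E ⊔ pCore p G)).map (E ⊔ pCore p G).subtype = E from hS.sup] at h2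

end quasi

section small

/-- The product of `[V, F]` over a set of blocks. -/
def prodMov (p : ℕ) (s : Finset (Subgroup G)) : Subgroup G := ⨆ F ∈ s, mov p F

theorem prodMov_le (s : Finset (Subgroup G)) : prodMov p s ≤ vSub p G :=
  iSup₂_le fun F _ => mov_le F

/-- Pairwise commuting blocks of the small kinds give independent summands. -/
theorem prodMov_facts (s : Finset (Subgroup G))
    (hd : ∀ F ∈ s, mov p F ⊓ Subgroup.centralizer (F : Set G) = ⊥)
    (hcard : ∀ F ∈ s, Nat.card ↥(mov p F) = p ^ 2)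
    (hc : ∀ F ∈ s, ∀ F' ∈ s, F ≠ F' → mov p F' ≤ Subgroup.centralizer (F : Set G)) :
    (∀ x ∈ prodMov p s, (∀ F ∈ s, x ∈ Subgroup.centralizer (F : Set G)) → x = 1) ∧
      Nat.card ↥(prodMov p s) = p ^ (2 * s.card) := by
  classical
  induction s using Finset.induction_on with
  | empty =>
    have h0 : prodMov p (∅ : Finset (Subgroup G)) = ⊥ := by simp [prodMov]
    exact ⟨fun x hx _ => Subgroup.mem_bot.1 (h0 ▸ hx), by rw [h0]; simp⟩
  | insert F s hF ih =>
    obtain ⟨ih1, ih2⟩ := ih (fun K hK => hd K (Finset.mem_insert_of_mem hK))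
      (fun K hK => hcard K (Finset.mem_insert_of_mem hK))
      (fun K hK K' hK' => hc K (Finset.mem_insert_of_mem hK) K' (Finset.mem_insert_of_mem hK'))
    have hU : prodMov p (insert F s) = mov p F ⊔ prodMov p s := by
      simp only [prodMov, Finset.iSup_insert]
    have hrest : prodMov p s ≤ Subgroup.centralizer (F : Set G) := iSup₂_le fun K hK =>
      hc F (Finset.mem_insert_self _ _) K (Finset.mem_insert_of_mem hK) fun h => hF (h ▸ hK)
    have hVc : ∀ a ∈ mov p F, ∀ b ∈ prodMov p s, b * a = a * b := fun a ha b hb =>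
      omega_comm _ (prodMov_le s hb) _ (mov_le F ha)
    refine ⟨fun x hx hxc => ?_, ?_⟩
    · rw [hU] at hx
      obtain ⟨a, ha, b, hb, rfl⟩ := mem_sup_abelian hVc hx
      have h1 := mul_mem (hxc F (Finset.mem_insert_self _ _)) (inv_mem (hrest hb))
      rw [mul_inv_cancel_right] at h1
      have ha1 : a = 1 := Subgroup.mem_bot.1 (hd F (Finset.mem_insert_self _ _) ▸ Subgroup.mem_inf.2 ⟨ha, h1⟩)
      subst ha1
      rw [one_mul] at hxc ⊢
      exact ih1 b hb fun K hK => hxc K (Finset.mem_insert_of_mem hK)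
    · have hdisj : mov p F ⊓ prodMov p s = ⊥ :=
        le_bot_iff.1 ((inf_le_inf_left _ hrest).trans (hd F (Finset.mem_insert_self _ _)).le)
      have h1 := Solv.card_mul_set_mul_card_inf (mov p F) (prodMov p s)
      rw [hdisj, Subgroup.card_bot, mul_one, hcard F (Finset.mem_insert_self _ _), ih2] at h1
      rw [Finset.card_insert_of_notMem hF, hU, ← SetLike.coe_sort_coe,
        Subgroup.coe_mul_of_right_le_normalizer_left, show 2 * (s.card + 1) = 2 + 2 * s.card by ring,
        pow_add, ← h1]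
      exact Subgroup.le_normalizer_iff.2 fun b hb a ha => by
        rw [hVc a ha b hb, mul_inv_cancel_right]; exact ha

/-- An abelian `p`-group on a group of order `p²`: kernel index times fixed points is at most `p²`. -/
theorem small_action {M A₁ : Subgroup G} (hM : M ≤ vSub p G) (hcard : Nat.card M = p ^ 2)
    (hA : IsPGroup p A₁) (hn : A₁ ≤ Subgroup.normalizer (M : Set G))
    (hne : ¬ A₁ ≤ Subgroup.centralizer (M : Set G)) :
    (A₁ ⊓ Subgroup.centralizer (M : Set G)).relIndex A₁ ≤ p := by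
  have hMp : IsPGroup p ↥M := isPGroup_omegaOneCenter _ |>.to_le hM
  have hp1 := hp.out.one_lt
  have hMne : (⊥ : Subgroup G) < M := bot_lt_iff_ne_bot.2 fun h => by
    rw [h, Subgroup.card_bot] at hcard
    exact absurd hcard.symm (Nat.one_lt_pow (by norm_num) hp1).ne'
  obtain ⟨z, hz, hz1, hzfix⟩ := fixed_mod hA hMp hMne hn
  set Z₁ := Subgroup.zpowers z with hZ₁
  have hzc : ∀ a ∈ A₁, a * z * a⁻¹ = z := fun a ha => by
    have := Subgroup.mem_bot.1 (hzfix a ha)
    rwa [commutatorElement_def, mul_inv_eq_one] at this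
  have hzord : orderOf z = p :=
    orderOf_eq_prime (omegaOneCenter_props (hM hz)).2.2 fun h => hz1 (h ▸ one_mem _)
  have hcardZ : Nat.card Z₁ = p := by rw [hZ₁, Nat.card_zpowers, hzord]
  have hlt : Z₁ < M := lt_of_le_of_ne (Subgroup.zpowers_le.2 hz) fun h => by
    rw [h, hcard] at hcardZ
    exact absurd hcardZ (ne_of_gt (by nlinarith))
  obtain ⟨w, hw, hwZ, hwfix⟩ := fixed_mod hA hMp hlt hn
  have hfixZ : ∀ a ∈ A₁, ∀ y ∈ Z₁, a * y * a⁻¹ = y := by
    rintro a ha y hy
    obtain ⟨k, rfl⟩ := Subgroup.mem_zpowers_iff.1 hy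
    rw [← conj_zpow, hzc a ha]
  let l : ↥A₁ →* G :=
    { toFun := fun a => ⁅(a : G), w⁆
      map_one' := by simp
      map_mul' := fun a b => by
        have h1 : (a : G) * ⁅(b : G), w⁆ * (a : G)⁻¹ = ⁅(b : G), w⁆ := hfixZ a a.2 _ (hwfix b b.2)
        have h2 := (Subgroup.zpowers_le.2 (hM hz) : Z₁ ≤ _)
        rw [Subgroup.coe_mul, show ⁅(a : G) * b, w⁆ = (a : G) * ⁅(b : G), w⁆ * (a : G)⁻¹ * ⁅(a : G), w⁆ by
          simp only [commutatorElement_def]; group, h1]
        exact omega_comm _ (h2 (hwfix b b.2)) _ (h2 (hwfix a a.2)) }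
  have hker : l.ker = (A₁ ⊓ Subgroup.centralizer (M : Set G)).subgroupOf A₁ := by
    ext a
    rw [MonoidHom.mem_ker, Subgroup.mem_subgroupOf, Subgroup.mem_inf, and_iff_right a.2]
    constructor
    · intro h
      have haw : w ∈ Subgroup.centralizer {(a : G)} := Subgroup.mem_centralizer_singleton_iff.2
        (commutatorElement_eq_one_iff_mul_comm.1 h).symm
      have haz : z ∈ Subgroup.centralizer {(a : G)} :=
        Subgroup.mem_centralizer_singleton_iff.2 (conj_fix_iff.1 (hzc a a.2)).symm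
      have hgen : M ≤ Subgroup.centralizer {(a : G)} := by
        have h3 : Z₁ < Subgroup.centralizer {(a : G)} ⊓ M :=
          lt_of_le_of_ne (le_inf (Subgroup.zpowers_le.2 haz) hlt.le) fun h' =>
            hwZ (h'.symm ▸ Subgroup.mem_inf.2 ⟨haw, hw⟩)
        refine le_trans (b := Subgroup.centralizer {(a : G)} ⊓ M) (le_of_eq ?_) inf_le_left
        refine (Subgroup.eq_of_le_of_card_ge inf_le_right ?_).symm
        obtain ⟨j, hj⟩ := (hMp.to_le (inf_le_right : Subgroup.centralizer {(a : G)} ⊓ M ≤ M)).exists_card_eq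
        have hgt : p < p ^ j := by
          rw [← hj, ← hcardZ]
          by_contra hle
          exact h3.ne (Subgroup.eq_of_le_of_card_ge h3.le (not_lt.1 hle))
        have hj2 : 2 ≤ j := by
          by_contra hj2
          interval_cases j <;> simp at hgt
          exact hp.out.ne_zero hgt
        rw [hj, hcard]
        exact Nat.pow_le_pow_right hp.out.pos hj2
      refine Subgroup.mem_centralizer_iff.2 fun m hm => ?_
      exact Subgroup.mem_centralizer_singleton_iff.1 (hgen hm)
    · intro h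
      exact commutatorElement_eq_one_iff_mul_comm.2 (Subgroup.mem_centralizer_iff.1 h w hw).symm
  rw [Subgroup.relIndex, ← hker, Subgroup.index_ker, ← hcardZ]
  refine Subgroup.card_le_of_le ?_
  rintro _ ⟨a, rfl⟩
  exact hwfix a a.2

theorem normalizes_small (hG : Subgroup.centralizer (pCore p G : Set G) ≤ pCore p G) (T : Sylow p G)
    {A : Subgroup G} (hA : A ∈ maxIn (fun A : Subgroup G => IsElementaryAbelian p A) (T : Subgroup G))
    (hE : IsSB p E) (hk : SmallKind p E) : A ≤ Subgroup.normalizer (E : Set G) := by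
  classical
  intro a₀ ha₀
  by_contra hne
  set A₁ := A ⊓ Subgroup.normalizer (E : Set G) with hA₁
  have hAc : ∀ x ∈ A, ∀ y ∈ A, x * y = y * x := fun x hx y hy => Local.elemAb_commute hA.2.1 hx hy
  set O : Finset (Subgroup G) := (Set.range fun a : ↥A => Fusion.cj E (a : G)).toFinite.toFinset with hO
  have hOmem : ∀ F, F ∈ O ↔ ∃ a ∈ A, Fusion.cj E a = F := fun F => by
    simp [hO]
  have hEO : E ∈ O := (hOmem E).2 ⟨1, one_mem _, Fusion.cj_one E⟩
  have hsb : ∀ F ∈ O, IsSB p F := fun F hF => by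
    obtain ⟨a, -, rfl⟩ := (hOmem F).1 hF
    exact hE.cj a
  have hdisj : ∀ F ∈ O, mov p F ⊓ Subgroup.centralizer (F : Set G) = ⊥ := fun F hF => by
    obtain ⟨a, -, rfl⟩ := (hOmem F).1 hF
    rw [← mov_cj, ← Fusion.cj_centralizer, ← Fusion.cj_inf, hk.disj, Fusion.cj_bot]
  have hcard : ∀ F ∈ O, Nat.card ↥(mov p F) = p ^ 2 := fun F hF => by
    obtain ⟨a, -, rfl⟩ := (hOmem F).1 hF
    rw [← mov_cj, Fusion.card_cj, hk.card]
  have hcc : ∀ F ∈ O, ∀ F' ∈ O, F ≠ F' → mov p F' ≤ Subgroup.centralizer (F : Set G) := fun F hF F' hF' h => by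
    have h1 := ((hsb F' hF').eq_or hG (hsb F hF)).resolve_left (Ne.symm h)
    exact (mov_le_block ((hsb F' hF').shape hG)).trans
      (Subgroup.commutator_eq_bot_iff_le_centralizer.1 h1)
  obtain ⟨hind, hUcard⟩ := prodMov_facts O hdisj hcard hcc
  set U := prodMov p O with hU
  set M := mov p E with hM
  have hMU : M ≤ U := le_iSup₂ (f := fun F (_ : F ∈ O) => mov p F) E hEO
  set k := O.card with hkdef
  -- the orbit
  have hindex : A₁.relIndex A = k := by
    rw [Subgroup.relIndex, Subgroup.index, hkdef, ← Nat.card_eq_finsetCard]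
    let f : ↥A ⧸ A₁.subgroupOf A → ↥O := fun q => Quotient.liftOn' q
      (fun a => ⟨Fusion.cj E (a : G), (hOmem _).2 ⟨a, a.2, rfl⟩⟩) fun a b hab => by
        rw [QuotientGroup.leftRel_apply] at hab
        refine Subtype.ext ?_
        show Fusion.cj E (a : G) = Fusion.cj E (b : G)
        have h1 := Fusion.cj_eq_self (Subgroup.mem_inf.1 (Subgroup.mem_subgroupOf.1 hab)).2
        conv_lhs => rw [← h1]
        rw [Fusion.cj_cj]
        congr 1
        simp
    refine Nat.card_eq_of_bijective f ⟨?_, ?_⟩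
    · intro q r
      induction q using QuotientGroup.induction_on with
      | H a =>
        induction r using QuotientGroup.induction_on with
        | H b =>
          intro h
          rw [QuotientGroup.eq, Subgroup.mem_subgroupOf, Subgroup.mem_inf]
          refine ⟨(a⁻¹ * b).2, Fusion.mem_normalizer_iff_cj.2 ?_⟩
          have h1 : Fusion.cj E (b : G) = Fusion.cj E (a : G) := (congrArg Subtype.val h).symm
          rw [Subgroup.coe_mul, ← Fusion.cj_cj, h1, Subgroup.coe_inv, Fusion.cj_cj_inv]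
    · rintro ⟨F, hF⟩
      obtain ⟨a, ha, rfl⟩ := (hOmem F).1 hF
      exact ⟨QuotientGroup.mk ⟨a, ha⟩, rfl⟩
  have hk2 : 2 ≤ k := by
    have : k ≠ 1 := fun h => by
      have h1 := Subgroup.relIndex_eq_one.1 (hindex.trans h)
      exact hne (Subgroup.mem_inf.1 (h1 ha₀)).2
    have : 0 < k := Finset.card_pos.2 ⟨E, hEO⟩
    omega
  -- the kernel on `U`
  set B := A₁ ⊓ Subgroup.centralizer (M : Set G) with hB
  have hBA : B ≤ A := inf_le_left.trans inf_le_left
  have hUB : U ≤ Subgroup.centralizer (B : Set G) := iSup₂_le fun F hF => by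
    obtain ⟨a, ha, rfl⟩ := (hOmem F).1 hF
    rw [← mov_cj]
    intro y hy
    obtain ⟨m, hm, rfl⟩ : ∃ m ∈ M, a * m * a⁻¹ = y := ⟨a⁻¹ * y * a, Fusion.mem_cj.1 hy, by group⟩
    refine Subgroup.mem_centralizer_iff.2 fun b hb => ?_
    have h1 := Subgroup.mem_centralizer_iff.1 (Subgroup.mem_inf.1 hb).2 m hm
    have h2 := hAc b (hBA hb) a ha
    calc b * (a * m * a⁻¹) = (b * a) * m * a⁻¹ := by group
      _ = a * (m * b) * a⁻¹ := by rw [h2, mul_assoc a b m, ← h1]
      _ = a * m * a⁻¹ * (a * b * a⁻¹) := by group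
      _ = _ := by rw [← h2, mul_inv_cancel_right]
  have hineq := max_ineq T hA (B := B) (W := U) (U := U) hBA (prodMov_le O) hUB le_rfl
  set C := U ⊓ Subgroup.centralizer (A : Set G) with hC
  -- fixed points meet the other summands trivially
  set U' := prodMov p (O.erase E) with hU'
  have hU'c : U' ≤ Subgroup.centralizer (E : Set G) := iSup₂_le fun F hF =>
    hcc E hEO F (Finset.mem_of_mem_erase hF) (Finset.ne_of_mem_erase hF).symm
  have hUeq : U = M ⊔ U' := by
    rw [hU, hU', ← Finset.insert_erase hEO]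
    simp only [prodMov, Finset.iSup_insert, Finset.erase_insert_eq_erase, Finset.erase_idem]
    rfl
  have hCU' : C ⊓ U' = ⊥ := by
    rw [Subgroup.eq_bot_iff_forall]
    rintro x ⟨hxC, hxU'⟩
    refine hind x (Subgroup.mem_inf.1 hxC).1 fun F hF => ?_
    obtain ⟨a, ha, rfl⟩ := (hOmem F).1 hF
    refine Subgroup.mem_centralizer_iff.2 fun y hy => ?_
    obtain ⟨e, he, rfl⟩ : ∃ e ∈ E, a * e * a⁻¹ = y := ⟨a⁻¹ * y * a, Fusion.mem_cj.1 hy, by group⟩
    have hax := Subgroup.mem_centralizer_iff.1 (Subgroup.mem_inf.1 hxC).2 a ha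
    have hex := Subgroup.mem_centralizer_iff.1 (hU'c hxU') e he
    have hax' : a⁻¹ * x = x * a⁻¹ := ((show Commute a x from hax).inv_left).eq
    calc a * e * a⁻¹ * x = a * (e * x) * a⁻¹ := by rw [mul_assoc (a * e), hax']; group
      _ = a * x * e * a⁻¹ := by rw [hex]; group
      _ = x * (a * e * a⁻¹) := by rw [hax]; group
  have hU'card : Nat.card U' = p ^ (2 * (k - 1)) := by
    rw [(prodMov_facts (O.erase E) (fun F hF => hdisj F (Finset.mem_of_mem_erase hF))
      (fun F hF => hcard F (Finset.mem_of_mem_erase hF))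
      (fun F hF F' hF' => hcc F (Finset.mem_of_mem_erase hF) F' (Finset.mem_of_mem_erase hF'))).2,
      Finset.card_erase_of_mem hEO]
  have hU'U : U' ≤ U := hUeq ▸ le_sup_right
  have hCprod := Solv.card_mul_set_mul_card_inf C U'
  rw [hCU', Subgroup.card_bot, mul_one] at hCprod
  have hpow : p ^ (2 * k) = p ^ 2 * p ^ (2 * (k - 1)) := by
    rw [← pow_add]; congr 1; omega
  have hsubU : ((C : Set G) * (U' : Set G)) ⊆ (U : Set G) := by
    rintro _ ⟨c, hc, u, hu, rfl⟩
    exact mul_mem (Subgroup.mem_inf.1 hc).1 (hU'U hu)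
  have hCle : Nat.card C ≤ p ^ 2 := by
    have h1 : Nat.card C * Nat.card U' ≤ Nat.card U := hCprod ▸ Nat.card_mono (Set.toFinite _) hsubU
    rw [hU'card, hUcard, hpow] at h1
    exact Nat.le_of_mul_le_mul_right h1 (pow_pos hp.out.pos _)
  have hA₁n : A₁ ≤ Subgroup.normalizer (M : Set G) := normalizer_mov inf_le_right
  have hprod : B.relIndex A₁ * Nat.card C ≤ p ^ 2 := by
    by_cases hcen : A₁ ≤ Subgroup.centralizer (M : Set G)
    · rw [show B = A₁ from inf_eq_left.2 hcen, Subgroup.relIndex_self, one_mul]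
      exact hCle
    obtain ⟨j, hj⟩ : ∃ j, Nat.card C = p ^ j :=
      (((isPGroup_omegaOneCenter (pCore p G)).to_le (prodMov_le O)).to_le
        (inf_le_left : C ≤ U)).exists_card_eq
    have hj2 : j ≠ 2 := by
      rintro rfl
      refine hcen fun a ha => Subgroup.mem_centralizer_iff.2 fun m hm => ?_
      have heq : ((C : Set G) * (U' : Set G)) = (U : Set G) := by
        refine Set.Finite.eq_of_subset_of_card_le (Set.toFinite _) hsubU ?_
        show Nat.card ↥U ≤ _
        rw [hCprod, hj, hU'card, hUcard, hpow]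
      obtain ⟨c, hc, u, hu, hcu⟩ : m ∈ ((C : Set G) * (U' : Set G)) := heq.symm ▸ hMU hm
      obtain ⟨haA, haE⟩ := Subgroup.mem_inf.1 ha
      have hca : a * c * a⁻¹ = c := conj_fix_iff.2 (Subgroup.mem_centralizer_iff.1 (Subgroup.mem_inf.1 hc).2 a haA)
      have hu' : a * u * a⁻¹ ∈ U' := by
        refine (show U' ≤ U'.comap (MulAut.conj a).toMonoidHom from iSup₂_le fun F hF x hx => ?_) hu
        have hF' : Fusion.cj F a ∈ O.erase E := by
          refine Finset.mem_erase.2 ⟨fun h => Finset.ne_of_mem_erase hF ?_, ?_⟩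
          · rw [← Fusion.cj_cj_inv F a, h, Fusion.cj_eq_self (inv_mem haE)]
          · obtain ⟨b, hb, rfl⟩ := (hOmem F).1 (Finset.mem_of_mem_erase hF)
            exact (hOmem _).2 ⟨a * b, mul_mem haA hb, (Fusion.cj_cj E b a).symm⟩
        refine (le_iSup₂ (f := fun F (_ : F ∈ O.erase E) => mov p F) _ hF') ?_
        rw [← mov_cj]
        exact Fusion.conj_mem_cj hx
      have hcu' : c * u = m := hcu
      have hm' : a * m * a⁻¹ * m⁻¹ ∈ M ⊓ U' := by
        refine Subgroup.mem_inf.2 ⟨mul_mem ((Subgroup.mem_normalizer_iff.1 (hA₁n ha) m).1 hm) (inv_mem hm), ?_⟩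
        rw [← hcu', show a * (c * u) * a⁻¹ * (c * u)⁻¹ = (a * c * a⁻¹) * ((a * u * a⁻¹) * u⁻¹) * c⁻¹ by group,
          hca, omega_comm _ (prodMov_le O (Subgroup.mem_inf.1 hc).1) _
            (prodMov_le _ (mul_mem hu' (inv_mem hu))), mul_inv_cancel_right]
        exact mul_mem hu' (inv_mem hu)
      have h0 : M ⊓ U' = ⊥ := le_bot_iff.1 ((inf_le_inf_left _ hU'c).trans hk.disj.le)
      rw [h0, Subgroup.mem_bot, mul_inv_eq_one] at hm'
      exact (conj_fix_iff.1 hm').symm
    have hj1 : j ≤ 1 := by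
      have hle2 := (Nat.pow_le_pow_iff_right hp.out.one_lt).1 (hj ▸ hCle)
      omega
    calc B.relIndex A₁ * Nat.card C ≤ p * p ^ j :=
          Nat.mul_le_mul (small_action (mov_le E) hk.card
            ((Fusion.isPGroup_elementary hA.2.1).to_le inf_le_left) hA₁n hcen) (le_of_eq hj)
      _ ≤ p * p ^ 1 := Nat.mul_le_mul_left _ (Nat.pow_le_pow_right hp.out.pos hj1)
      _ = p ^ 2 := by ring
  -- count
  have hAcard : Nat.card A = Nat.card B * B.relIndex A₁ * k := by
    rw [← hindex, mul_assoc, Subgroup.relIndex_mul_relIndex B A₁ A inf_le_left inf_le_left]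
    have h1 := Subgroup.card_mul_index (B.subgroupOf A)
    rw [Nat.card_congr (Subgroup.subgroupOfEquivOfLe hBA).toEquiv] at h1
    exact h1.symm
  have hfin : p ^ (2 * k) ≤ k * p ^ 2 := by
    rw [hUcard, hAcard] at hineq
    have h2 : p ^ (2 * k) ≤ B.relIndex A₁ * k * Nat.card C :=
      Nat.le_of_mul_le_mul_left (c := Nat.card B) (by linarith [hineq]) Nat.card_pos
    calc p ^ (2 * k) ≤ B.relIndex A₁ * k * Nat.card C := h2
      _ = k * (B.relIndex A₁ * Nat.card C) := by ring
      _ ≤ k * p ^ 2 := Nat.mul_le_mul_left _ hprod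
  rw [hpow, mul_comm k] at hfin
  have h3 := Nat.le_of_mul_le_mul_left hfin (pow_pos hp.out.pos 2)
  have h4 : k < p ^ (2 * (k - 1)) := by
    have h5 : k - 1 < p ^ (k - 1) := Nat.lt_pow_self hp.out.one_lt
    have h6 : p ^ (k - 1) * 2 ≤ p ^ (2 * (k - 1)) := by
      rw [two_mul, pow_add]
      refine Nat.mul_le_mul_left _ (le_trans hp.out.two_le ?_)
      exact Nat.le_self_pow (by omega) p
    omega
  omega

end small

/-- Largest elementary abelian subgroups normalise every subnormal block. -/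
theorem max_normalizes (hG : Subgroup.centralizer (pCore p G : Set G) ≤ pCore p G) (T : Sylow p G)
    {A : Subgroup G} (hA : A ∈ maxIn (fun A : Subgroup G => IsElementaryAbelian p A) (T : Subgroup G))
    (hE : IsSB p E) : A ≤ Subgroup.normalizer (E : Set G) := by
  rcases (hE.shape hG).kind with ⟨hqs, -⟩ | hk
  · exact normalizes_quasi hG T hA hE hqs
  · exact normalizes_small hG T hA hE hk

theorem jElem_normalizes (hG : Subgroup.centralizer (pCore p G : Set G) ≤ pCore p G) (T : Sylow p G)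
    (hE : IsSB p E) : jElem p (T : Subgroup G) ≤ Subgroup.normalizer (E : Set G) :=
  sSup_le fun _ hA => max_normalizes hG T hA hE

/-- A vector of `[V, E]` outside `C(E)` centralised by `B(T)`. -/
theorem exists_baumann_fixed (hG : Subgroup.centralizer (pCore p G : Set G) ≤ pCore p G) (T : Sylow p G)
    (hE : IsSB p E) :
    ∃ x ∈ mov p E, x ∉ Subgroup.centralizer (E : Set G) ∧
      (∀ t ∈ (T : Subgroup G) ⊓ Subgroup.normalizer (E : Set G), t * x * t⁻¹ = x) ∧
      ∀ b ∈ baumannSubgroupOf p (T : Subgroup G), b * x * b⁻¹ = x := by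
  obtain ⟨⟨T₀, hT₀⟩, hs⟩ := id hE
  obtain ⟨x, hx, hxne, hfix⟩ := exists_fixed hG T₀ hT₀ hs T
  refine ⟨x, hx, hxne, hfix, fun b hb => ?_⟩
  have hxT : x ∈ (T : Subgroup G) := vSub_le_sylow T (mov_le E hx)
  have hxp : x ^ p = 1 := (omegaOneCenter_props (mov_le E hx)).2.2
  have hxJ : ∀ A ∈ maxIn (fun A : Subgroup G => IsElementaryAbelian p A) (T : Subgroup G),
      ∀ a ∈ A, a * x = x * a := fun A hA a ha =>
    conj_fix_iff.1 (hfix a (Subgroup.mem_inf.2 ⟨hA.1 ha, max_normalizes hG T hA hE ha⟩))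
  obtain ⟨A, hA⟩ := (Fusion.replFamily_elementary p).maxIn_nonempty (T : Subgroup G)
  have hxA : x ∈ A := Fusion.mem_of_maxIn hA hxT (Fusion.isElementaryAbelian_closure_insert hA.2.1
    (fun a ha => (hxJ A hA a ha).symm) hxp)
  have hxz : x ∈ omegaOne p (zElem p (T : Subgroup G)) := by
    refine Subgroup.subset_closure ⟨Subgroup.mem_inf.2 ⟨le_sSup hA hxA, ?_⟩, hxp⟩
    refine Subgroup.mem_centralizer_iff.2 fun j hj => ?_
    have hle : jElem p (T : Subgroup G) ≤ Subgroup.centralizer {x} := sSup_le fun A hA a ha =>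
      Subgroup.mem_centralizer_singleton_iff.2 (hxJ A hA a ha)
    exact Subgroup.mem_centralizer_singleton_iff.1 (hle hj)
  rw [baumann_eq] at hb
  exact conj_fix_iff.2 (Subgroup.mem_centralizer_iff.1 (Subgroup.mem_inf.1 hb).2 x hxz).symm

/-- `B(T)` normalises every subnormal block. -/
theorem baumann_normalizes (hG : Subgroup.centralizer (pCore p G : Set G) ≤ pCore p G) (T : Sylow p G)
    (hE : IsSB p E) : baumannSubgroupOf p (T : Subgroup G) ≤ Subgroup.normalizer (E : Set G) := by
  intro b hb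
  obtain ⟨x, hx, hxne, -, hxb⟩ := exists_baumann_fixed hG T hE
  rcases (hE.cj b).eq_or hG hE with h | h
  · exact Fusion.mem_normalizer_iff_cj.2 h
  exfalso
  refine hxne ?_
  have h1 : x ∈ Fusion.cj E b := by
    rw [← hxb b hb]
    exact Fusion.conj_mem_cj (mov_le_block (hE.shape hG) hx)
  exact Subgroup.commutator_eq_bot_iff_le_centralizer.1 h h1

theorem baumann_le_normalizer (hG : Subgroup.centralizer (pCore p G : Set G) ≤ pCore p G) (hE : IsSB p E) :
    baumannSubgroup p G ≤ Subgroup.normalizer (E : Set G) :=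
  iSup_le fun T => baumann_normalizes hG T hE

theorem baumannSubgroup_normal : (baumannSubgroup p G).Normal := by
  refine Fusion.normal_iff_cj.2 fun g => Fusion.cj_eq_of_cj_le ?_
  show Subgroup.map _ (⨆ T : Sylow p G, baumannSubgroupOf p (T : Subgroup G)) ≤ _
  rw [Subgroup.map_iSup]
  refine iSup_le fun T => ?_
  obtain ⟨T', hT'⟩ := SylIn.exists_sylow (T := Fusion.cj (T : Subgroup G) g)
    (by simpa only [Fusion.cj_of_normal] using (sylIn_top T).cj g)
  refine le_iSup_of_le T' (le_of_eq ?_)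
  rw [hT']
  exact baumann_map (T : Subgroup G) (MulAut.conj g)

theorem le_baumannSubgroup (hE : IsSB p E) : E ≤ baumannSubgroup p G := by
  obtain ⟨⟨T, hT⟩, -⟩ := hE
  haveI := baumannSubgroup_normal (p := p) (G := G)
  rw [← hT.2.1]
  exact le_trans (Subgroup.commutator_mono le_rfl (le_iSup_of_le T le_rfl))
    (Subgroup.commutator_le_right E (baumannSubgroup p G))

/-- A subnormal block is a block for every Sylow subgroup. -/
theorem block_all (hG : Subgroup.centralizer (pCore p G : Set G) ≤ pCore p G) (hE : IsSB p E)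
    (T' : Sylow p G) : IsBaumannBlock p (T' : Subgroup G) E := by
  classical
  obtain ⟨⟨T, hT⟩, hs⟩ := id hE
  haveI hN := baumannSubgroup_normal (p := p) (G := G)
  set N := baumannSubgroup p G with hNdef
  obtain ⟨k, hk, hkT⟩ := ((sylIn_top T).inf_normal le_top (by rw [Subgroup.normalizer_eq_top (H := N)])).conj_eq
    ((sylIn_top T').inf_normal le_top (by rw [Subgroup.normalizer_eq_top (H := N)]))
  have hkn : k ∈ Subgroup.normalizer (E : Set G) := baumann_le_normalizer hG hE hk
  obtain ⟨T₁, hT₁⟩ := SylIn.exists_sylow (T := Fusion.cj (T : Subgroup G) k)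
    (by simpa only [Fusion.cj_of_normal] using (sylIn_top T).cj k)
  have hBeq : baumannSubgroupOf p (T' : Subgroup G) = baumannSubgroupOf p (T₁ : Subgroup G) := by
    refine (baumann_eq_of_le T' T₁ ?_).symm
    rw [hT₁]
    have hBN : baumannSubgroupOf p (T' : Subgroup G) ≤ N :=
      le_iSup (fun S : Sylow p G => baumannSubgroupOf p (S : Subgroup G)) T'
    refine (le_inf (baumann_le _) hBN).trans ?_
    rw [← hkT]
    exact Fusion.cj_mono inf_le_left k
  have hblk := block_map (p := p) (MulAut.conj k) hT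
  rw [show E.map (MulAut.conj k).toMonoidHom = E from Fusion.cj_eq_self hkn,
    show (T : Subgroup G).map (MulAut.conj k).toMonoidHom = (T₁ : Subgroup G) from hT₁.symm] at hblk
  obtain ⟨h1, h2, h3, -, h5⟩ := hblk
  refine ⟨h1, hBeq ▸ h2, h3, ?_, by rw [hBeq]; exact h5⟩
  -- a fixed vector of `T'` moving `E`
  obtain ⟨x, hx, hxne, hxfix, -⟩ := exists_baumann_fixed hG T' hE
  have hS := hE.shape hG
  haveI hVn := vSub_normal (p := p) (G := G)
  letI : CommGroup ↥(vSub p G) := { (inferInstance : Group ↥(vSub p G)) with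
    mul_comm := fun a b => Subtype.ext (omega_comm _ a.2 _ b.2) }
  set P := (T' : Subgroup G) ⊓ Subgroup.normalizer (E : Set G) with hP
  let K : Subgroup ↥(T' : Subgroup G) := P.subgroupOf (T' : Subgroup G)
  haveI : Fintype (↥(T' : Subgroup G) ⧸ K) := Fintype.ofFinite _
  let cT : ↥(T' : Subgroup G) → ↥(vSub p G) := fun t => MulAut.conjNormal (t : G) ⟨x, mov_le E hx⟩
  have hcT : ∀ t, ((cT t : ↥(vSub p G)) : G) = (t : G) * x * (t : G)⁻¹ := fun t =>
    MulAut.conjNormal_apply _ _
  let φ : ↥(T' : Subgroup G) ⧸ K → ↥(vSub p G) := fun q => Quotient.liftOn' q cT fun a b hab => by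
    rw [QuotientGroup.leftRel_apply] at hab
    refine Subtype.ext ?_
    rw [hcT, hcT]
    have h6 := hxfix _ (Subgroup.mem_subgroupOf.1 hab)
    push_cast at h6
    conv_lhs => rw [← h6]
    group
  set y : ↥(vSub p G) := ∏ q, φ q with hy
  intro hbot
  refine hxne ?_
  have hyT : (y : G) ∈ omegaOneCenter p (T' : Subgroup G) := by
    refine mem_omegaOneCenter (vSub_le_sylow T' y.2) (Subgroup.mem_centralizer_iff.2 fun t ht => ?_)
      (omegaOneCenter_props y.2).2.2
    refine conj_fix_iff.1 ?_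
    rw [← MulAut.conjNormal_apply]
    refine congrArg Subtype.val ?_
    rw [hy, map_prod]
    refine Fintype.prod_equiv (MulAction.toPerm (⟨t, ht⟩ : ↥(T' : Subgroup G))) _ _ fun q => ?_
    induction q using QuotientGroup.induction_on with
    | H a =>
      show MulAut.conjNormal t (cT a) = cT (⟨t, ht⟩ * a)
      refine Subtype.ext ?_
      rw [MulAut.conjNormal_apply, hcT, hcT, Subgroup.coe_mul]
      group
  have hyc : (y : G) ∈ Subgroup.centralizer (E : Set G) := by
    rw [Subgroup.commutator_comm] at hbot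
    exact Subgroup.commutator_eq_bot_iff_le_centralizer.1 hbot hyT
  let C : Subgroup ↥(vSub p G) := (Subgroup.centralizer (E : Set G)).subgroupOf (vSub p G)
  set q₁ : ↥(T' : Subgroup G) ⧸ K := QuotientGroup.mk 1 with hq₁
  have hrest : ∏ q ∈ Finset.univ.erase q₁, φ q ∈ C := by
    refine Subgroup.prod_mem _ fun q hq => ?_
    induction q using QuotientGroup.induction_on with
    | H a =>
      show ((cT a : ↥(vSub p G)) : G) ∈ Subgroup.centralizer (E : Set G)
      rw [hcT]
      have hane : Fusion.cj E (a : G) ≠ E := fun h => (Finset.ne_of_mem_erase hq) (by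
        rw [hq₁, QuotientGroup.eq]
        refine Subgroup.mem_subgroupOf.2 (Subgroup.mem_inf.2 ⟨(a⁻¹ * 1).2, ?_⟩)
        push_cast
        rw [mul_one]
        exact inv_mem (Fusion.mem_normalizer_iff_cj.2 h))
      exact Subgroup.commutator_eq_bot_iff_le_centralizer.1
        (((hE.cj (a : G)).eq_or hG hE).resolve_left hane)
        (Fusion.conj_mem_cj (mov_le_block hS hx))
  have h7 : φ q₁ = y * (∏ q ∈ Finset.univ.erase q₁, φ q)⁻¹ := by
    rw [eq_mul_inv_iff_mul_eq, hy, Finset.mul_prod_erase _ _ (Finset.mem_univ q₁)]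
  have h8 : φ q₁ ∈ C := h7 ▸ mul_mem (Subgroup.mem_subgroupOf.2 hyc) (inv_mem hrest)
  have h9 : ((φ q₁ : ↥(vSub p G)) : G) = x := by
    show ((cT 1 : ↥(vSub p G)) : G) = x
    rw [hcT]
    simp
  exact h9 ▸ Subgroup.mem_subgroupOf.1 h8

end Cfsg.Agent.LocalEven.BlockNormal
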