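import Cfsg.Agent.Lib.LocalEven.BlockNormal.Quad

/-!
# A block is inside a subnormal block or commutes with it
-/

set_option autoImplicit false

open scoped commutatorElement

namespace Cfsg.Agent.LocalEven.BlockNormal

open Cfsg Cfsg.Agent.Fusion Cfsg.Agent.LocalEven.Block Cfsg.Agent.LocalEven.SubnBlock

variable {G : Type*} [Group G] [Finite G] {p : ℕ} [hp : Fact p.Prime] {E F : Subgroup G} {T : Sylow p G}

section exc

variable {K K' : Type} [Field K] [Fintype K] [Field K'] [Fintype K']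

/-- `[E, F] ≤ W` gives commuting. -/
theorem exc_commute (hEP : Pre p (T : Subgroup G) E) (D : ExcD p (T : Subgroup G) E K)
    (hFres : pResidualOf p F = F) (hM : mov p E ≤ Subgroup.centralizer (F : Set G))
    (hEF : ⁅E, F⁆ ≤ omegaOneCenter p (pCoreOf p E)) : ⁅E, F⁆ = ⊥ := by
  set W := omegaOneCenter p (pCoreOf p E) with hW
  have hfa : ∀ f ∈ F, ∀ a ∈ pCoreOf p E, ∃ w ∈ W, f * a * f⁻¹ = a * w := fun f hf a ha =>
    ⟨⁅a⁻¹, f⁆, hEF (Subgroup.commutator_mem_commutator (inv_mem (Block.pCoreOf_le E ha)) hf),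
      by simp [commutatorElement_def, mul_assoc]⟩
  refine comm_eq_bot hFres (isPGroup_omegaOneCenter (pCoreOf p E)) hEF (hEP.cover.trans (sup_le hM ?_))
  rw [← D.zeq]
  refine Subgroup.commutator_le.2 fun a ha b hb => Subgroup.mem_centralizer_iff.2 fun f hf => ?_
  obtain ⟨w, hw, e1⟩ := hfa f hf a ha
  obtain ⟨w', hw', e2⟩ := hfa f hf b hb
  exact conj_fix_iff.1 (fix_comm e1 e2 (W_central hb hw).symm (omega_comm _ hw _ hw') (W_central ha hw').symm)

/-- An invariant subgroup of `W_Y` inside `O_p(X)` lies in `W_X`. -/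
theorem le_W {X Y S : Subgroup G} (D : ExcD p (T : Subgroup G) X K) (hXW : X ≤ Subgroup.normalizer
    (omegaOneCenter p (pCoreOf p X) : Set G)) (hSY : S ≤ omegaOneCenter p Y) (hSX : S ≤ pCoreOf p X)
    (hSn : X ≤ Subgroup.normalizer (S : Set G)) : S ≤ omegaOneCenter p (pCoreOf p X) := by
  rcases D.irrQ (S ⊔ omegaOneCenter p (pCoreOf p X)) le_sup_right
      (sup_le hSX fun _ hx => (omegaOneCenter_props hx).1) (le_normalizer_sup hSn hXW) with he | he
  · exact le_sup_left.trans he.le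
  refine absurd (Subgroup.commutator_eq_bot_iff_le_centralizer.2 ?_) D.zne
  refine he.ge.trans (sup_le (fun x hx => Subgroup.mem_centralizer_iff.2 fun b hb => ?_)
    fun w hw => (omegaOneCenter_props hw).2.1)
  obtain ⟨s, hs, w, hw, rfl⟩ := mem_sup_abelian (A := S) (B := omegaOneCenter p (pCoreOf p X))
    (fun a ha c hc => (W_central (hSX ha) hc).symm) (he.ge hb)
  have i1 : s * x = x * s := omega_comm _ (hSY hs) _ (hSY hx)
  have i2 : x * w = w * x := W_central (hSX hx) hw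
  rw [mul_assoc, ← i2, ← mul_assoc, i1, mul_assoc]

/-- Two exceptional blocks commuting modulo the intersection of their cores. -/
theorem exc_exc (hEP : Pre p (T : Subgroup G) E) (hFP : Pre p (T : Subgroup G) F)
    (DE : ExcD p (T : Subgroup G) E K) (DF : ExcD p (T : Subgroup G) F K')
    (hFE : F ≤ Subgroup.normalizer (E : Set G)) (hEF : E ≤ Subgroup.normalizer (F : Set G))
    (hME : mov p E ≤ Subgroup.centralizer (F : Set G)) (hMF : mov p F ≤ Subgroup.centralizer (E : Set G))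
    (hle : ⁅E, F⁆ ≤ pCoreOf p E ⊓ pCoreOf p F) : ⁅E, F⁆ = ⊥ := by
  set P0 := pCoreOf p E ⊓ pCoreOf p F with hP0
  set WE := omegaOneCenter p (pCoreOf p E) with hWE
  set WF := omegaOneCenter p (pCoreOf p F) with hWF
  by_cases h1 : P0 ≤ WE
  · exact exc_commute hEP DE hFP.res hME (hle.trans h1)
  by_cases h2 : P0 ≤ WF
  · rw [Subgroup.commutator_comm]
    exact exc_commute hFP DF hEP.res hMF ((Subgroup.commutator_comm E F ▸ hle).trans h2)
  exfalso
  have hEP0 : E ≤ Subgroup.normalizer (P0 : Set G) :=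
    Block.le_normalizer_inf hEP.normQ fun e he => mem_normalizer_Q (hEF he)
  have hFP0 : F ≤ Subgroup.normalizer (P0 : Set G) :=
    Block.le_normalizer_inf (fun f hf => mem_normalizer_Q (hFE hf)) hFP.normQ
  have hFWE : F ≤ Subgroup.normalizer (WE : Set G) :=
    normalizer_omega (p := p) fun f hf => mem_normalizer_Q (hFE hf)
  have hEWF : E ≤ Subgroup.normalizer (WF : Set G) :=
    normalizer_omega (p := p) fun e he => mem_normalizer_Q (hEF he)
  have hA1 : P0 ⊓ WE ≤ WF := le_W DF hFP.normW inf_le_right (inf_le_left.trans inf_le_right)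
    (Block.le_normalizer_inf hFP0 hFWE)
  have hA2 : P0 ⊓ WF ≤ WE := le_W DE hEP.normW inf_le_right (inf_le_left.trans inf_le_left)
    (Block.le_normalizer_inf hEP0 hEWF)
  have hFA : F ≤ Subgroup.normalizer ((P0 ⊓ WE : Subgroup G) : Set G) := Block.le_normalizer_inf hFP0 hFWE
  have hEA : E ≤ Subgroup.normalizer ((P0 ⊓ WE : Subgroup G) : Set G) := Block.le_normalizer_inf hEP0 hEP.normW
  have habP : ⁅P0, P0⁆ ≤ P0 ⊓ WE := le_inf (Subgroup.commutator_le_self _)
    ((Subgroup.commutator_mono inf_le_left inf_le_left).trans (DE.zeq.le.trans inf_le_left))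
  have hWEQ : WE ≤ pCoreOf p E := fun _ hx => (omegaOneCenter_props hx).1
  have hWFQ : WF ≤ pCoreOf p F := fun _ hx => (omegaOneCenter_props hx).1
  have hirr : ∀ S : Subgroup G, P0 ⊓ WE ≤ S → S ≤ P0 → E ≤ Subgroup.normalizer (S : Set G) →
      S = P0 ⊓ WE ∨ S = P0 := by
    intro S hAS hSP hSn
    rcases DE.irrQ (S ⊔ WE) le_sup_right (sup_le (hSP.trans inf_le_left) hWEQ)
        (le_normalizer_sup hSn hEP.normW) with he | he
    · exact Or.inl (le_antisymm (le_inf hSP (le_sup_left.trans he.le)) hAS)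
    · refine Or.inr (le_antisymm hSP fun x hx => ?_)
      obtain ⟨s, hs, w, hw, rfl⟩ := mem_sup_abelian (A := S) (B := WE)
        (fun a ha c hc => (W_central (hSP ha).1 hc).symm) (he.ge hx.1)
      have hwP : w ∈ P0 := by
        have := mul_mem (inv_mem (hSP hs)) hx
        rwa [inv_mul_cancel_left] at this
      exact mul_mem hs (hAS (Subgroup.mem_inf.2 ⟨hwP, hw⟩))
  have hfix : ∀ f ∈ F, ∀ e ∈ E, ∀ v ∈ P0,
      ((f * e) * v * (f * e)⁻¹)⁻¹ * ((e * f) * v * (e * f)⁻¹) ∈ P0 ⊓ WE := by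
    intro f hf e he v hv
    set v' := (e * f) * v * (e * f)⁻¹ with hv'
    have hc : ⁅f, e⁆ ∈ P0 := by
      rw [← commutatorElement_inv]
      exact inv_mem (hle (Subgroup.commutator_mem_commutator he hf))
    have hvP : v' ∈ P0 :=
      (Subgroup.mem_normalizer_iff.1 (mul_mem (hEP0 he) (hFP0 hf)) _).1 hv
    rw [show (f * e) * v * (f * e)⁻¹ = ⁅f, e⁆ * v' * ⁅f, e⁆⁻¹ by
        rw [hv']; simp only [commutatorElement_def]; group,
      show (⁅f, e⁆ * v' * ⁅f, e⁆⁻¹)⁻¹ * v' = ⁅⁅f, e⁆, v'⁻¹⁆ by simp only [commutatorElement_def]; group]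
    exact habP (Subgroup.commutator_mem_commutator hc (inv_mem hvP))
  obtain ⟨f₁, hf₁, f₂, hf₂, u, hu, hne⟩ := DF.witQ
  have hcovF : pCoreOf p F ≤ P0 ⊔ WF := by
    rcases DF.irrQ (P0 ⊔ WF) le_sup_right (sup_le inf_le_right hWFQ)
        (le_normalizer_sup hFP0 hFP.normW) with he | he
    · exact absurd (le_sup_left.trans he.le) h2
    · exact he.ge
  obtain ⟨x, hx', w, hw', rfl⟩ := mem_sup_abelian (A := P0) (B := WF)
    (fun a ha c hc => (W_central ha.2 hc).symm) (hcovF hu)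
  have hs := schur (A := P0 ⊓ WE) (U := P0) (E := E) inf_le_left habP hEP0 hEA hirr
    (hFP0 hf₁) (hFA hf₁) (hFP0 hf₂) (hFA hf₂) (hfix f₁ hf₁) (hfix f₂ hf₂) x hx'
  refine hne ?_
  have hw1 : (f₁ * f₂) * w * (f₁ * f₂)⁻¹ ∈ WF :=
    (Subgroup.mem_normalizer_iff.1 (hFP.normW (mul_mem hf₁ hf₂)) _).1 hw'
  have hw2 : (f₂ * f₁) * w * (f₂ * f₁)⁻¹ ∈ WF :=
    (Subgroup.mem_normalizer_iff.1 (hFP.normW (mul_mem hf₂ hf₁)) _).1 hw'
  rw [show actDiff f₁ f₂ (x * w) = ((f₁ * f₂) * w * (f₁ * f₂)⁻¹)⁻¹ *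
      (((f₁ * f₂) * x * (f₁ * f₂)⁻¹)⁻¹ * ((f₂ * f₁) * x * (f₂ * f₁)⁻¹)) *
      ((f₂ * f₁) * w * (f₂ * f₁)⁻¹) by simp only [actDiff]; group]
  exact mul_mem (mul_mem (inv_mem hw1) (hA1 hs)) hw2

end exc

/-- If `F` centralises `[V, E]` then it commutes with `E`. -/
theorem commute_of_C0 (hE : IsSB p E) (hS : Shape p E)
    (hT : IsBaumannBlock p (T : Subgroup G) E) (hEP : Pre p (T : Subgroup G) E)
    (hFP : Pre p (T : Subgroup G) F) (hFC : F ≤ C0 p E) : ⁅F, E⁆ = ⊥ := by
  set Q := pCoreOf p E with hQd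
  set P := Q ⊓ pCoreOf p F with hP
  have hFN : F ≤ Subgroup.normalizer (E : Set G) := hFC.trans inf_le_left
  have hFQ : F ≤ Subgroup.normalizer (Q : Set G) := fun f hf => mem_normalizer_Q (hFN hf)
  have hFPn : F ≤ Subgroup.normalizer (P : Set G) := Block.le_normalizer_inf hFQ hFP.normQ
  have htriv : F ≤ trivOn E P := by
    conv_lhs => rw [← hFP.res]
    refine Res.res_le fun f hf hco => ⟨hFPn hf, fun e he => ?_⟩
    have hdQ : ⁅f, e⁆ ∈ Q := by
      rw [← commutatorElement_inv]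
      exact inv_mem (comm_C0_le hT hS (Subgroup.commutator_mem_commutator he (hFC hf)))
    refine mem_of_twice (Fusion.pCoreOf_isPGroup (p := p) E) hco (hFPn hf) hdQ ?_ ?_
    · exact Block.le_normalizer_inf Subgroup.le_normalizer
        (fun r hr => mem_normalizer_Q (hFP.normR (hS.Q_le hr))) hdQ
    · refine Subgroup.mem_inf.2 ⟨(comm_mem hdQ (hFQ hf)).2, ?_⟩
      rw [← commutatorElement_inv]
      exact inv_mem (hFP.commR (Subgroup.commutator_mem_commutator (hS.Q_le hdQ) hf))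
  have hle : ⁅F, E⁆ ≤ P := Subgroup.commutator_le.2 fun f hf e he => (htriv hf).2 e he
  have hEF : E ≤ Subgroup.normalizer (F : Set G) := Subgroup.le_normalizer_iff_commutator_le_left.2
    ((hle.trans inf_le_right).trans (Block.pCoreOf_le F))
  have hME : mov p E ≤ Subgroup.centralizer (F : Set G) :=
    Subgroup.le_centralizer_iff.1 (hFC.trans inf_le_right)
  have hMF : mov p F ≤ Subgroup.centralizer (E : Set G) := by
    have hX : ⁅mov p F, E⁆ ≤ mov p E := Subgroup.commutator_mono (mov_le F) le_rfl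
    have h2 : ⁅⁅mov p F, E⁆, F⁆ = ⊥ :=
      Subgroup.commutator_eq_bot_iff_le_centralizer.2 (hX.trans hME)
    have h3 : ⁅⁅E, F⁆, mov p F⁆ = ⊥ := by
      refine Subgroup.commutator_eq_bot_iff_le_centralizer.2 ?_
      rw [Subgroup.commutator_comm]
      exact hle.trans (inf_le_left.trans fun a ha => Subgroup.mem_centralizer_iff.2 fun m hm =>
        (vSub_fixed (hS.Q_le ha) (mov_le F hm)).symm)
    have h4 := Subgroup.commutator_commutator_eq_bot_of_rotate h2 h3
    rw [Subgroup.commutator_comm F, hFP.movX] at h4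
    exact Subgroup.commutator_eq_bot_iff_le_centralizer.1 h4
  have hle' : ⁅E, F⁆ ≤ P := by rwa [Subgroup.commutator_comm]
  rcases hFP.qcase with hq | ⟨K', _, _, ⟨DF⟩⟩
  · exact comm_eq_bot hEP.res (Fusion.pCoreOf_isPGroup (p := p) F) (hle.trans inf_le_right) (hq.le.trans hMF)
  rw [Subgroup.commutator_comm]
  rcases hEP.qcase with hq | ⟨K, _, _, ⟨DE⟩⟩
  · exact comm_eq_bot hFP.res (Fusion.pCoreOf_isPGroup (p := p) E) (hle'.trans inf_le_left) (hq.le.trans hME)
  exact exc_exc hEP hFP DE DF hFN hEF hME hMF hle'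

/-- The last part of the statement, for a common Sylow subgroup. -/
theorem le_or_commute (hG : Subgroup.centralizer (pCore p G : Set G) ≤ pCore p G) (hE : IsSB p E)
    (hF : IsBaumannBlock p (T : Subgroup G) F) : F ≤ E ∨ ⁅F, E⁆ = ⊥ := by
  have hS := hE.shape hG
  have hT := block_all hG hE T
  have hEP := pre_of_block hG T hT
  have hFP := pre_of_block hG T hF
  set R := pCore p G with hR
  set Q := pCoreOf p E with hQd
  have hFB : F ≤ baumannSubgroup p G := by
    haveI := baumannSubgroup_normal (p := p) (G := G)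
    conv_lhs => rw [← hFP.baumann]
    exact le_trans (Subgroup.commutator_mono le_rfl (le_iSup_of_le T le_rfl))
      (Subgroup.commutator_le_right F (baumannSubgroup p G))
  have hFN : F ≤ Subgroup.normalizer (E : Set G) := hFB.trans (baumann_le_normalizer hG hE)
  have hFI : F ≤ E ⊔ C0 p E := by
    conv_lhs => rw [← hFP.res]
    exact Res.res_le fun f hf hco => mem_inn hG hE (hFB hf) hco
  by_cases hFC : F ≤ C0 p E
  · exact Or.inr (commute_of_C0 hE hS hT hEP hFP hFC)
  left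
  have hFQ : F ≤ Subgroup.normalizer (Q : Set G) := fun f hf => mem_normalizer_Q (hFN hf)
  have hFW : F ≤ Subgroup.normalizer (omegaOneCenter p Q : Set G) := normalizer_omega hFQ
  -- `[V, F] ≤ [V, E]`
  have hmov : mov p F ≤ mov p E := by
    set X := mov p E ⊓ mov p F with hX
    have hFX : F ≤ Subgroup.normalizer (X : Set G) :=
      Block.le_normalizer_inf (normalizer_mov hFN) (mov_normalizer F)
    rcases hFP.irr X inf_le_right hFX with hc | he
    · exfalso
      have h1 : ⁅mov p E, F⁆ ≤ X :=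
        le_inf (Subgroup.le_normalizer_iff_commutator_le_left.1 (normalizer_mov hFN))
          (Subgroup.commutator_mono (mov_le E) le_rfl)
      have h2 : ⁅⁅mov p E, F⁆, F⁆ = ⊥ := Subgroup.commutator_eq_bot_iff_le_centralizer.2 (h1.trans hc)
      rw [comm_comm_eq hFP.res ((isPGroup_omegaOneCenter _).to_le (mov_le E))
        (fun a ha b hb => mov_comm ha hb) (normalizer_mov hFN),
        Subgroup.commutator_eq_bot_iff_le_centralizer] at h2
      exact hFC (le_inf hFN (Subgroup.le_centralizer_iff.1 h2))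
    · exact he.ge.trans inf_le_left
  have hmovQ : mov p F ≤ Q := hmov.trans fun x hx => (omegaOneCenter_props (hS.movW hx)).1
  suffices hRF : ∀ f ∈ F, ∀ r ∈ R, ⁅f, r⁆ ∈ Q from le_of_comm_R hG hE hT hEP hFP hFI hFN hRF
  have hFR : ∀ f ∈ F, ∀ r ∈ R, ⁅f, r⁆ ∈ pCoreOf p F ∧ ⁅f, r⁆ ∈ R := fun f hf r hr => by
    refine ⟨?_, (comm_mem hr (mem_normalizer_pCore f)).2⟩
    rw [← commutatorElement_inv]
    exact inv_mem (hFP.commR (Subgroup.commutator_mem_commutator hr hf))
  rcases hFP.qcase with hq | ⟨K', _, _, ⟨DF⟩⟩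
  · exact fun f hf r hr => hmovQ (hq.le (hFR f hf r hr).1)
  set QF := pCoreOf p F with hQF
  set WF := omegaOneCenter p QF with hWF
  have hWFQ : WF ≤ QF := fun _ hx => (omegaOneCenter_props hx).1
  have hRn : F ≤ Subgroup.normalizer (R : Set G) := fun f _ => mem_normalizer_pCore f
  have hdown : ∀ f ∈ F, ∀ w ∈ WF, ⁅f, w⁆ ∈ mov p F := fun f hf w hw => by
    rw [← commutatorElement_inv]
    exact inv_mem (hFP.movEq.le (Subgroup.commutator_mem_commutator hw hf))
  rcases DF.irrQ (QF ⊓ R ⊔ WF) le_sup_right (sup_le inf_le_left hWFQ)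
      (le_normalizer_sup (Block.le_normalizer_inf hFP.normQ hRn) hFP.normW) with hsm | hbig
  · have htriv : F ≤ trivOn R Q := by
      conv_lhs => rw [← hFP.res]
      refine Res.res_le fun f hf hco => ⟨hFQ hf, fun r hr => ?_⟩
      obtain ⟨h1, h2⟩ := hFR f hf r hr
      refine mem_of_twice (Fusion.isPGroup_pCore p G) hco (hFQ hf) h2 (hS.R_normalizer h2) ?_
      exact hmovQ (hdown f hf _ (hsm.le (Subgroup.mem_sup_left (Subgroup.mem_inf.2 ⟨h1, h2⟩))))
    exact fun f hf => (htriv hf).2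
  have hQR : QF ≤ R := by
    refine hFP.QX.ge.trans (Subgroup.commutator_le.2 fun a ha f hf => ?_)
    obtain ⟨s, hs, w, hw, rfl⟩ := mem_sup_abelian (A := QF ⊓ R) (B := WF)
      (fun a ha c hc => (W_central ha.1 hc).symm) (hbig.ge ha)
    rw [comm_split]
    have hwR : ⁅w, f⁆ ∈ R :=
      (omegaOneCenter_props (mov_le F (hFP.movEq.le (Subgroup.commutator_mem_commutator hw hf)))).1
    exact mul_mem (mul_mem (mul_mem hs.2 hwR) (inv_mem hs.2)) (comm_mem hs.2 (mem_normalizer_pCore f)).1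
  rcases DF.irrQ (Q ⊓ QF ⊔ WF) le_sup_right (sup_le inf_le_right hWFQ)
      (le_normalizer_sup (Block.le_normalizer_inf hFQ hFP.normQ) hFP.normW) with hsm | hbig
  · exfalso
    have hP1 : Q ⊓ QF ≤ WF := le_sup_left.trans hsm.le
    rcases hEP.qcase with hq | ⟨K, _, _, ⟨DE⟩⟩
    · exact no_exc_over_plain hG hE hT hF hFP DF hq hmov hQR hP1
    refine hFC (le_C0_of_trivial hG hE hT DE hFP hFI hFN ?_)
    conv_lhs => rw [← hFP.res]
    refine Res.res_le fun f hf hco => ⟨hFW hf, fun a ha => ?_⟩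
    have hdQ : ⁅f, a⁆ ∈ Q := (comm_mem ha (hFQ hf)).2
    refine mem_of_twice (Fusion.pCoreOf_isPGroup (p := p) E) hco (hFW hf) hdQ
      (normalizer_omega (p := p) (H := Q) Subgroup.le_normalizer hdQ) ?_
    have h1 := hP1 (Subgroup.mem_inf.2 ⟨hdQ, (hFR f hf a (hS.Q_le ha)).1⟩)
    exact hS.movW (hmov (hdown f hf _ h1))
  have hZQ : ⁅QF, QF⁆ ≤ Q := Subgroup.commutator_le.2 fun a ha b hb => by
    obtain ⟨s, hs, w, hw, rfl⟩ := mem_sup_abelian (A := Q ⊓ QF) (B := WF)
      (fun a ha c hc => (W_central ha.2 hc).symm) (hbig.ge ha)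
    obtain ⟨s', hs', w', hw', rfl⟩ := mem_sup_abelian (A := Q ⊓ QF) (B := WF)
      (fun a ha c hc => (W_central ha.2 hc).symm) (hbig.ge hb)
    have e1 : ⁅s * w, s' * w'⁆ = ⁅s, s'⁆ := by
      have c1 : (s' * w') * w = w * (s' * w') := W_central (mul_mem hs'.2 (hWFQ hw')) hw
      have c2 : s⁻¹ * w' = w' * s⁻¹ := W_central (inv_mem hs.2) hw'
      calc ⁅s * w, s' * w'⁆ = s * (w * (s' * w')) * w⁻¹ * s⁻¹ * (s' * w')⁻¹ := by
            simp only [commutatorElement_def]; group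
        _ = s * s' * (w' * s⁻¹) * w'⁻¹ * s'⁻¹ := by rw [← c1]; group
        _ = _ := by rw [← c2]; simp only [commutatorElement_def]; group
    rw [e1, commutatorElement_def]
    exact mul_mem (mul_mem (mul_mem hs.1 hs'.1) (inv_mem hs.1)) (inv_mem hs'.1)
  have hQFQ : QF ≤ Q := hbig.ge.trans (sup_le inf_le_left
    (hFP.cover.trans (sup_le hmovQ (DF.zeq.ge.trans hZQ))))
  exact fun f hf r hr => hQFQ (hFR f hf r hr).1

end Cfsg.Agent.LocalEven.BlockNormal
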